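import Mathlib
import Cfsg.Prelude.Def_FusionSystem

set_option autoImplicit false

namespace Cfsg.Agent.Lib.Helper84

open Cfsg Cfsg.FusionSystem

variable {Ω : Type*} [Group Ω] {S : Subgroup Ω}

/-- the inclusion of a subgroup of `S` is a map of the system -/
theorem subtype_mem (F : FusionSystem S) {P : Subgroup Ω} (hP : P ≤ S) : P.subtype ∈ F.Hom P := by
  have h := F.conj_mem (P := P) (g := (1 : Ω)) hP S.one_mem
  have heq : Cfsg.conjHom P (1 : Ω) = P.subtype := by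
    ext x
    simp [Cfsg.conjHom]
  rwa [heq] at h

/-- restriction of a map of the system to a smaller subgroup -/
theorem restrict_mem (F : FusionSystem S) {P R : Subgroup Ω} {φ : P →* Ω} (hφ : φ ∈ F.Hom P)
    (hRP : R ≤ P) : φ.comp (Subgroup.inclusion hRP) ∈ F.Hom R := by
  have hRS : R ≤ S := le_trans hRP (F.le_of_mem hφ).1
  have h1 := subtype_mem F hRS
  have h2 := F.comp_mem h1 hφ (fun x => hRP x.2)
  have heq : φ.comp ((R.subtype).codRestrict P (fun x => hRP x.2)) = φ.comp (Subgroup.inclusion hRP) := by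
    ext x
    rfl
  rwa [heq] at h2

/-- transport of a map along an equality of sources, stated with `≤` -/
theorem exists_hom_of_eq (F : FusionSystem S) {P R : Subgroup Ω} {φ : P →* Ω} (hφ : φ ∈ F.Hom P)
    (hRP : R = P) : ∃ ψ ∈ F.Hom R, ∀ (x : Ω) (hx : x ∈ R) (hx' : x ∈ P), ψ ⟨x, hx⟩ = φ ⟨x, hx'⟩ := by
  subst hRP
  exact ⟨φ, hφ, fun x hx hx' => rfl⟩

theorem mem_S_of_mem (F : FusionSystem S) {P : Subgroup Ω} {φ : P →* Ω} (hφ : φ ∈ F.Hom P) (x : P) :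
    φ x ∈ S := (F.le_of_mem hφ).2 x

theorem le_S_of_mem (F : FusionSystem S) {P : Subgroup Ω} {φ : P →* Ω} (hφ : φ ∈ F.Hom P) :
    P ≤ S := (F.le_of_mem hφ).1

theorem range_le_S (F : FusionSystem S) {P : Subgroup Ω} {φ : P →* Ω} (hφ : φ ∈ F.Hom P) :
    φ.range ≤ S := by
  rintro _ ⟨x, rfl⟩
  exact mem_S_of_mem F hφ x

/-- the inverse of a map of the system, with its range computed -/
theorem exists_inv (F : FusionSystem S) {P : Subgroup Ω} {φ : P →* Ω} (hφ : φ ∈ F.Hom P) :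
    ∃ ψ ∈ F.Hom φ.range, (∀ x : P, ψ ⟨φ x, ⟨x, rfl⟩⟩ = (x : Ω)) ∧ ψ.range = P := by
  obtain ⟨ψ, hψ, hinv⟩ := F.inv_mem hφ
  refine ⟨ψ, hψ, hinv, ?_⟩
  ext y
  constructor
  · rintro ⟨⟨_, x, rfl⟩, rfl⟩
    rw [hinv]
    exact x.2
  · intro hy
    exact ⟨⟨φ ⟨y, hy⟩, ⟨⟨y, hy⟩, rfl⟩⟩, hinv ⟨y, hy⟩⟩

theorem isConj_refl (F : FusionSystem S) {P : Subgroup Ω} (hP : P ≤ S) : F.IsConj P P :=
  ⟨P.subtype, subtype_mem F hP, Subgroup.range_subtype P⟩

theorem isConj_symm (F : FusionSystem S) {P Q : Subgroup Ω} (h : F.IsConj P Q) : F.IsConj Q P := by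
  obtain ⟨φ, hφ, rfl⟩ := h
  obtain ⟨ψ, hψ, -, hr⟩ := exists_inv F hφ
  exact ⟨ψ, hψ, hr⟩

theorem isConj_trans (F : FusionSystem S) {P Q R : Subgroup Ω} (h1 : F.IsConj P Q) (h2 : F.IsConj Q R) :
    F.IsConj P R := by
  obtain ⟨φ, hφ, rfl⟩ := h1
  obtain ⟨ψ, hψ, rfl⟩ := h2
  refine ⟨ψ.comp (φ.codRestrict φ.range (fun x => ⟨x, rfl⟩)), F.comp_mem hφ hψ _, ?_⟩
  ext y
  constructor
  · rintro ⟨x, rfl⟩
    exact ⟨_, rfl⟩
  · rintro ⟨⟨_, x, rfl⟩, rfl⟩
    exact ⟨x, rfl⟩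

theorem isConj_le_left (F : FusionSystem S) {P Q : Subgroup Ω} (h : F.IsConj P Q) : P ≤ S := by
  obtain ⟨φ, hφ, -⟩ := h
  exact le_S_of_mem F hφ

theorem isConj_le_right (F : FusionSystem S) {P Q : Subgroup Ω} (h : F.IsConj P Q) : Q ≤ S := by
  obtain ⟨φ, hφ, rfl⟩ := h
  exact range_le_S F hφ

/-- elements of the source lie in the extender, as soon as the map takes values in `S` -/
theorem le_extender {P : Subgroup Ω} (hP : P ≤ S) (φ : P →* Ω) (hφS : ∀ x : P, φ x ∈ S) :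
    P ≤ Cfsg.FusionSystem.extender S P φ := by
  intro g hg
  apply Subgroup.subset_closure
  refine ⟨hP hg, Subgroup.le_normalizer hg, φ ⟨g, hg⟩, hφS _, ?_⟩
  intro x hx
  have : (⟨g * x * g⁻¹, hx⟩ : P) = ⟨g, hg⟩ * x * ⟨g, hg⟩⁻¹ := Subtype.ext rfl
  rw [this, map_mul, map_mul, map_inv]

/-- the centralizer of the source in `S` lies in the extender -/
theorem centralizerIn_le_extender (P : Subgroup Ω) (φ : P →* Ω) :
    Cfsg.FusionSystem.centralizerIn S P ≤ Cfsg.FusionSystem.extender S P φ := by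
  intro c hc
  have hcc : c ∈ Subgroup.centralizer (P : Set Ω) := hc.2
  apply Subgroup.subset_closure
  refine ⟨hc.1, Subgroup.centralizer_le_normalizer _ hcc, 1, S.one_mem, ?_⟩
  intro x hx
  have h1 : c * (x : Ω) * c⁻¹ = x := by
    have := (Subgroup.mem_centralizer_iff.mp hcc) x x.2
    rw [← this]; group
  have : (⟨c * x * c⁻¹, hx⟩ : P) = x := Subtype.ext h1
  rw [this]; simp

theorem extender_le (P : Subgroup Ω) (φ : P →* Ω) :
    Cfsg.FusionSystem.extender S P φ ≤ Cfsg.FusionSystem.normalizerIn S P := by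
  unfold Cfsg.FusionSystem.extender
  rw [Subgroup.closure_le]
  rintro g ⟨h1, h2, -⟩
  exact ⟨h1, h2⟩

end Cfsg.Agent.Lib.Helper84
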