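import Mathlib
import Cfsg.Prelude.Def_FusionSystem
import Cfsg.Agent.Lib.Helper84.FusionBasic

set_option autoImplicit false

namespace Cfsg.Agent.Lib.Helper84

open Cfsg Cfsg.FusionSystem

variable {Ω : Type*} [Group Ω] {S : Subgroup Ω}

/-- `e : P ≃* Q` is an isomorphism of the system -/
def IsIso (F : FusionSystem S) {P Q : Subgroup Ω} (e : P ≃* Q) : Prop :=
  Q.subtype.comp e.toMonoidHom ∈ F.Hom P

theorem IsIso.le_left {F : FusionSystem S} {P Q : Subgroup Ω} {e : P ≃* Q} (h : IsIso F e) : P ≤ S :=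
  le_S_of_mem F h

theorem IsIso.le_right {F : FusionSystem S} {P Q : Subgroup Ω} {e : P ≃* Q} (h : IsIso F e) : Q ≤ S := by
  intro y hy
  have := mem_S_of_mem F h (e.symm ⟨y, hy⟩)
  simpa using this

/-- composing an isomorphism of the system with a map of the system -/
theorem IsIso.comp_hom {F : FusionSystem S} {P Q : Subgroup Ω} {e : P ≃* Q} (h : IsIso F e)
    {φ : Q →* Ω} (hφ : φ ∈ F.Hom Q) : φ.comp e.toMonoidHom ∈ F.Hom P := by
  have h1 := F.comp_mem h hφ (fun x => (e x).2)
  have heq : φ.comp ((Q.subtype.comp e.toMonoidHom).codRestrict Q (fun x => (e x).2)) =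
      φ.comp e.toMonoidHom := by
    ext x
    rfl
  rwa [heq] at h1

theorem IsIso.refl (F : FusionSystem S) {P : Subgroup Ω} (hP : P ≤ S) : IsIso F (MulEquiv.refl P) := by
  unfold IsIso
  have : P.subtype.comp (MulEquiv.refl P).toMonoidHom = P.subtype := by
    ext x; rfl
  rw [this]
  exact subtype_mem F hP

theorem IsIso.trans {F : FusionSystem S} {P Q R : Subgroup Ω} {e : P ≃* Q} {f : Q ≃* R}
    (he : IsIso F e) (hf : IsIso F f) : IsIso F (e.trans f) := by
  unfold IsIso
  have h1 := he.comp_hom hf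
  have : R.subtype.comp (e.trans f).toMonoidHom = (R.subtype.comp f.toMonoidHom).comp e.toMonoidHom := by
    ext x; rfl
  rw [this]
  exact h1

theorem IsIso.symm {F : FusionSystem S} {P Q : Subgroup Ω} {e : P ≃* Q} (he : IsIso F e) :
    IsIso F e.symm := by
  unfold IsIso
  obtain ⟨ψ, hψ, hinv⟩ := F.inv_mem he
  have hrange : (Q.subtype.comp e.toMonoidHom).range = Q := by
    ext y
    constructor
    · rintro ⟨x, rfl⟩
      exact (e x).2
    · intro hy
      exact ⟨e.symm ⟨y, hy⟩, by simp⟩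
  obtain ⟨ψ', hψ', hagree⟩ := exists_hom_of_eq F hψ hrange.symm
  have : P.subtype.comp e.symm.toMonoidHom = ψ' := by
    ext y
    have hy' : (y : Ω) ∈ (Q.subtype.comp e.toMonoidHom).range := by rw [hrange]; exact y.2
    have h1 := hagree y y.2 hy'
    have h2 : (⟨(y : Ω), hy'⟩ : (Q.subtype.comp e.toMonoidHom).range) =
        ⟨(Q.subtype.comp e.toMonoidHom) (e.symm y), ⟨e.symm y, rfl⟩⟩ := by
      apply Subtype.ext
      simp
    rw [h2, hinv] at h1
    show ((e.symm y : P) : Ω) = ψ' y
    rw [← h1]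
  rw [this]
  exact hψ'

/-- every map of the system is an isomorphism onto its range -/
theorem exists_iso_of_hom (F : FusionSystem S) {P : Subgroup Ω} {φ : P →* Ω} (hφ : φ ∈ F.Hom P) :
    ∃ e : P ≃* φ.range, IsIso F e ∧ ∀ x : P, ((e x : φ.range) : Ω) = φ x := by
  refine ⟨MonoidHom.ofInjective (F.injective_of_mem hφ), ?_, fun x => rfl⟩
  unfold IsIso
  have : φ.range.subtype.comp (MonoidHom.ofInjective (F.injective_of_mem hφ)).toMonoidHom = φ := by
    ext x; rfl
  rw [this]
  exact hφ

/-- an isomorphism onto `Q` from a map with range `Q` -/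
theorem exists_iso_of_hom_range (F : FusionSystem S) {P Q : Subgroup Ω} {φ : P →* Ω} (hφ : φ ∈ F.Hom P)
    (hr : φ.range = Q) : ∃ e : P ≃* Q, IsIso F e ∧ ∀ x : P, ((e x : Q) : Ω) = φ x := by
  subst hr
  exact exists_iso_of_hom F hφ

theorem isConj_iff_exists_iso (F : FusionSystem S) {P Q : Subgroup Ω} :
    F.IsConj P Q ↔ ∃ e : P ≃* Q, IsIso F e := by
  constructor
  · rintro ⟨φ, hφ, hr⟩
    obtain ⟨e, he, -⟩ := exists_iso_of_hom_range F hφ hr
    exact ⟨e, he⟩
  · rintro ⟨e, he⟩
    refine ⟨_, he, ?_⟩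
    ext y
    constructor
    · rintro ⟨x, rfl⟩
      exact (e x).2
    · intro hy
      exact ⟨e.symm ⟨y, hy⟩, by simp⟩

/-- membership in `Aut_F(P)` -/
theorem mem_autGroup_iff (F : FusionSystem S) {P : Subgroup Ω} (hP : P ≤ S) (α : MulAut P) :
    α ∈ F.autGroup P ↔ IsIso F (α : P ≃* P) := by
  constructor
  · intro h
    unfold Cfsg.FusionSystem.autGroup at h
    induction h using Subgroup.closure_induction with
    | mem x hx => exact hx
    | one => exact IsIso.refl F hP
    | mul x y _ _ hx hy => exact IsIso.trans hy hx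
    | inv x _ hx => exact IsIso.symm hx
  · intro h
    exact Subgroup.subset_closure h

/-- membership in `Aut_K(P)` -/
theorem mem_autInducedBy_iff (K P : Subgroup Ω) (α : MulAut P) :
    α ∈ Cfsg.autInducedBy K P ↔ ∃ g ∈ K, ∀ x : P, ((α x : P) : Ω) = g * (x : Ω) * g⁻¹ := by
  constructor
  · intro h
    unfold Cfsg.autInducedBy at h
    induction h using Subgroup.closure_induction with
    | mem x hx => exact hx
    | one => exact ⟨1, K.one_mem, fun x => by simp⟩
    | mul a b _ _ ha hb =>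
      obtain ⟨g, hg, hga⟩ := ha
      obtain ⟨g', hg', hgb⟩ := hb
      refine ⟨g * g', K.mul_mem hg hg', fun x => ?_⟩
      rw [MulAut.mul_apply, hga, hgb]
      group
    | inv a _ ha =>
      obtain ⟨g, hg, hga⟩ := ha
      refine ⟨g⁻¹, K.inv_mem hg, fun x => ?_⟩
      have h1 := hga (a⁻¹ x)
      rw [MulAut.apply_inv_self] at h1
      rw [h1]
      group
  · intro h
    exact Subgroup.subset_closure h

end Cfsg.Agent.Lib.Helper84
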