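import Mathlib
import Cfsg.Prelude.Def_FusionSystem
import Cfsg.Agent.Lib.Helper84.FusionBasic
import Cfsg.Agent.Lib.Helper84.FusionIso

set_option autoImplicit false

namespace Cfsg.Agent.Lib.Helper84

open Cfsg Cfsg.FusionSystem

variable {Ω : Type*} [Group Ω] {S : Subgroup Ω}

theorem self_le_normalizerIn {Q : Subgroup Ω} (hQ : Q ≤ S) : Q ≤ normalizerIn S Q :=
  le_inf hQ Subgroup.le_normalizer

/-- conjugation by an element of `N_S(Q)` is an automorphism of the system -/
theorem conjAut_isIso (F : FusionSystem S) {Q : Subgroup Ω} (hQ : Q ≤ S) (g : normalizerIn S Q) :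
    IsIso F (Q.normalizerMonoidHom ⟨g, g.2.2⟩ : Q ≃* Q) := by
  unfold IsIso
  have h := F.conj_mem (P := Q) (g := (g : Ω)) hQ g.2.1
  have heq : Q.subtype.comp (Q.normalizerMonoidHom ⟨g, g.2.2⟩ : Q ≃* Q).toMonoidHom = Cfsg.conjHom Q (g : Ω) := by
    ext x
    rfl
  rw [heq]
  exact h

theorem isIso_congr {F : FusionSystem S} {P Q : Subgroup Ω} {e : Q ≃* P} (he : IsIso F e)
    {α : MulAut Q} (hα : IsIso F (α : Q ≃* Q)) : IsIso F (MulAut.congr e α : P ≃* P) :=
  IsIso.trans (IsIso.symm he) (IsIso.trans hα he)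

/-- the homomorphism `N_S(Q) → Aut_F(P)` obtained by transporting conjugation along `e : Q ≃* P` -/
noncomputable def transportAut (F : FusionSystem S) {P Q : Subgroup Ω} (e : Q ≃* P) (he : IsIso F e) :
    normalizerIn S Q →* F.autGroup P :=
  ((MulAut.congr e).toMonoidHom.comp (Q.normalizerMonoidHom.comp
    (Subgroup.inclusion (inf_le_right : normalizerIn S Q ≤ Subgroup.normalizer (Q : Set Ω))))).codRestrict
    (F.autGroup P) (fun g => by
      rw [mem_autGroup_iff F he.le_right]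
      exact isIso_congr he (conjAut_isIso F he.le_left g))

theorem transportAut_apply (F : FusionSystem S) {P Q : Subgroup Ω} (e : Q ≃* P) (he : IsIso F e)
    (g : normalizerIn S Q) (x : Q) :
    ((transportAut F e he g : F.autGroup P) : MulAut P) (e x) =
      e ⟨(g : Ω) * x * (g : Ω)⁻¹, (Subgroup.mem_normalizer_iff.mp g.2.2 x).mp x.2⟩ := by
  show e (Q.normalizerMonoidHom ⟨g, g.2.2⟩ (e.symm (e x))) = _
  rw [MulEquiv.symm_apply_apply]
  rfl

theorem finite_of_le {P : Subgroup Ω} [Finite S] (hP : P ≤ S) : Finite P :=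
  Finite.of_injective (Subgroup.inclusion hP) (Subgroup.inclusion_injective hP)

/-- AKO I.2.6(c): if `P` is fully automized and receptive and `Q` is conjugate to `P`, some map of the
system defined on `N_S(Q)` takes `Q` onto `P` and `N_S(Q)` into `N_S(P)`. -/
theorem exists_hom_normalizer [Finite S] {p : ℕ} [Fact p.Prime] (hS : IsPGroup p S) (F : FusionSystem S)
    {P Q : Subgroup Ω} (h₁ : F.IsFullyAutomized p P) (h₂ : F.IsReceptive P) (hQ : F.IsConj Q P) :
    ∃ φ ∈ F.Hom (normalizerIn S Q), (∀ x, φ x ∈ normalizerIn S P) ∧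
      (Q.subgroupOf (normalizerIn S Q)).map φ = P := by
  obtain ⟨e, he⟩ := (isConj_iff_exists_iso F).mp hQ
  have hPS : P ≤ S := he.le_right
  have hQS : Q ≤ S := he.le_left
  have : Finite P := finite_of_le hPS
  obtain ⟨-, R, hR⟩ := h₁
  -- the p-subgroup of Aut_F(P) coming from N_S(Q)
  set κ := transportAut F e he with hκ
  have hNp : IsPGroup p (normalizerIn S Q) := hS.to_le inf_le_left
  have hHp : IsPGroup p κ.range := by
    have := IsPGroup.of_surjective hNp κ.rangeRestrict κ.rangeRestrict_surjective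
    exact this
  obtain ⟨R', hR'⟩ := hHp.exists_le_sylow
  obtain ⟨χ, hχ⟩ := MulAction.exists_smul_eq (F.autGroup P) R' R
  have hχiso : IsIso F ((χ : MulAut P) : P ≃* P) := (mem_autGroup_iff F hPS _).mp χ.2
  have hconj : ∀ g : normalizerIn S Q, ∃ h ∈ S, ∀ y : P,
      ((((χ * κ g * χ⁻¹ : F.autGroup P) : MulAut P) y : P) : Ω) = h * (y : Ω) * h⁻¹ := by
    intro g
    have h1 : κ g ∈ (R' : Subgroup (F.autGroup P)) := hR' ⟨g, rfl⟩
    have h2 : χ * κ g * χ⁻¹ ∈ ((χ • R' : Sylow p (F.autGroup P)) : Subgroup (F.autGroup P)) := by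
      rw [Sylow.coe_subgroup_smul, Subgroup.mem_pointwise_smul_iff_inv_smul_mem, ← map_inv,
        MulAut.smul_def, MulAut.conj_apply]
      simpa [mul_assoc] using h1
    rw [hχ, hR, Subgroup.mem_subgroupOf, mem_autInducedBy_iff] at h2
    exact h2
  -- the new isomorphism
  set e' : Q ≃* P := e.trans (χ : MulAut P) with he'
  have he'iso : IsIso F e' := IsIso.trans he hχiso
  set ψ' : Q →* Ω := P.subtype.comp e'.toMonoidHom with hψ'
  have hψ'mem : ψ' ∈ F.Hom Q := he'iso
  have hψ'range : ψ'.range = P := by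
    ext y
    constructor
    · rintro ⟨x, rfl⟩
      exact (e' x).2
    · intro hy
      exact ⟨e'.symm ⟨y, hy⟩, by simp [hψ']⟩
  have hNle : normalizerIn S Q ≤ extender S Q ψ' := by
    intro g hg
    apply Subgroup.subset_closure
    obtain ⟨h, hhS, hh⟩ := hconj ⟨g, hg⟩
    refine ⟨hg.1, hg.2, h, hhS, ?_⟩
    intro x hx
    have h3 := hh ((χ : MulAut P) (e x))
    have h4 : ((χ * κ ⟨g, hg⟩ * χ⁻¹ : F.autGroup P) : MulAut P) ((χ : MulAut P) (e x)) =
        (χ : MulAut P) (e ⟨g * x * g⁻¹, hx⟩) := by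
      show (χ : MulAut P) ((κ ⟨g, hg⟩ : MulAut P) ((χ : MulAut P)⁻¹ ((χ : MulAut P) (e x)))) = _
      rw [MulAut.inv_apply_self, hκ, transportAut_apply]
    show (((χ : MulAut P) (e ⟨g * x * g⁻¹, hx⟩) : P) : Ω) = h * (((χ : MulAut P) (e x) : P) : Ω) * h⁻¹
    rw [← h3, h4]
  obtain ⟨φ', hφ', hagree⟩ := h₂.2 Q ψ' hψ'mem hψ'range
  have hQN : Q ≤ normalizerIn S Q := self_le_normalizerIn hQS
  refine ⟨φ'.comp (Subgroup.inclusion hNle), restrict_mem F hφ' hNle, ?_, ?_⟩
  · -- values in N_S(P)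
    have himage : ∀ (x : normalizerIn S Q) (q : Q),
        φ' (Subgroup.inclusion hNle x) * ψ' q * (φ' (Subgroup.inclusion hNle x))⁻¹ ∈ P := by
      intro x q
      have hq' : (x : Ω) * q * (x : Ω)⁻¹ ∈ Q := (Subgroup.mem_normalizer_iff.mp x.2.2 q).mp q.2
      have h5 := hagree q q.2 (hNle (hQN q.2))
      have h6 := hagree _ hq' (hNle (hQN hq'))
      have h7 : φ' (Subgroup.inclusion hNle x) * ψ' q * (φ' (Subgroup.inclusion hNle x))⁻¹ =
          ψ' ⟨(x : Ω) * q * (x : Ω)⁻¹, hq'⟩ := by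
        rw [← h6, ← h5, ← map_inv, ← map_mul, ← map_mul]
        rfl
      rw [h7]
      exact (e' _).2
    intro x
    refine ⟨mem_S_of_mem F hφ' _, ?_⟩
    show (φ'.comp (Subgroup.inclusion hNle)) x ∈ Subgroup.normalizer (P : Set Ω)
    rw [Subgroup.mem_normalizer_iff]
    intro y
    constructor
    · intro hy
      have hy' : y ∈ ψ'.range := by rw [hψ'range]; exact hy
      obtain ⟨q, rfl⟩ := hy'
      exact himage x q
    · intro hy
      have hy' : (φ'.comp (Subgroup.inclusion hNle)) x * y * ((φ'.comp (Subgroup.inclusion hNle)) x)⁻¹ ∈ ψ'.range := by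
        rw [hψ'range]; exact hy
      obtain ⟨q, hq⟩ := hy'
      have h8 := himage x⁻¹ q
      rw [hq] at h8
      have h9 : φ' (Subgroup.inclusion hNle x⁻¹) = ((φ'.comp (Subgroup.inclusion hNle)) x)⁻¹ := by
        rw [map_inv, map_inv]; rfl
      rw [h9] at h8
      have h10 : ((φ'.comp (Subgroup.inclusion hNle)) x)⁻¹ *
          ((φ'.comp (Subgroup.inclusion hNle)) x * y * ((φ'.comp (Subgroup.inclusion hNle)) x)⁻¹) *
          (((φ'.comp (Subgroup.inclusion hNle)) x)⁻¹)⁻¹ = y := by group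
      rw [h10] at h8
      exact h8
  · ext y
    constructor
    · rintro ⟨x, hx, rfl⟩
      rw [SetLike.mem_coe, Subgroup.mem_subgroupOf] at hx
      have h5 := hagree x hx (hNle x.2)
      show φ' ⟨x, _⟩ ∈ P
      rw [h5]
      exact (e' _).2
    · intro hy
      have hy' : y ∈ ψ'.range := by rw [hψ'range]; exact hy
      obtain ⟨q, rfl⟩ := hy'
      refine ⟨⟨q, hQN q.2⟩, ?_, ?_⟩
      · rw [SetLike.mem_coe, Subgroup.mem_subgroupOf]; exact q.2
      · exact hagree q q.2 (hNle (hQN q.2))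

end Cfsg.Agent.Lib.Helper84
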