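import Cfsg.Agent.Lib.Helper84.OmegaTwo
import Cfsg.Agent.Lib.Helper88.EssOut

/-!
The `Ω`-lemma for automorphisms: a `p'`-automorphism `α` of a finite `p`-group `R` fixing every
element of order `p` (or `≤ 4` when `p = 2`) of an `α`-invariant subgroup `K` fixes `K`
pointwise; if it does so on `[R, α]`, then `α = 1`.
-/

set_option autoImplicit false

namespace Cfsg.Agent.Lib.Helper84.Om

open Subgroup

variable {R : Type*} [Group R] {p : ℕ} [Fact p.Prime]

theorem pow_apply_mem (α : MulAut R) (K : Subgroup R) (hK : ∀ k ∈ K, α k ∈ K) (n : ℕ) :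
    ∀ k ∈ K, (α ^ n) k ∈ K := by
  induction n with
  | zero => intro k hk; simpa using hk
  | succ n ih =>
    intro k hk
    rw [pow_succ, MulAut.mul_apply]
    exact ih _ (hK k hk)

theorem pow_apply_eq (α : MulAut R) (n : ℕ) {y : R} (hy : α y = y) : (α ^ n) y = y := by
  induction n with
  | zero => simp
  | succ n ih => rw [pow_succ, MulAut.mul_apply, hy, ih]

variable [Finite R]

/-- the `Ω`-lemma for an automorphism and an invariant subgroup. -/
theorem aut_fix_of_fix_omega (hR : IsPGroup p R) (α : MulAut R) (hα : (orderOf α).Coprime p)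
    (K : Subgroup R) (hK : ∀ k ∈ K, α k ∈ K)
    (hfix : ∀ y ∈ K, (y ^ p = 1 ∨ (p = 2 ∧ y ^ 4 = 1)) → α y = y) : ∀ k ∈ K, α k = k := by
  classical
  let G := SemidirectProduct R (MulAut R) (MonoidHom.id (MulAut R))
  let iL : R →* G := SemidirectProduct.inl
  let iR : MulAut R →* G := SemidirectProduct.inr
  have hconj : ∀ (a : MulAut R) (x : R), iR a * iL x * (iR a)⁻¹ = iL (a x) := by
    intro a x
    have := SemidirectProduct.inl_aut (φ := MonoidHom.id (MulAut R)) a x
    simp only [MonoidHom.id_apply] at this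
    rw [this, map_inv]
  have : Finite G := by
    have : Finite (R × MulAut R) := inferInstance
    exact Finite.of_equiv _ (SemidirectProduct.equivProd (φ := MonoidHom.id (MulAut R))).symm
  set D : Subgroup G := K.map iL with hD
  set A : Subgroup G := (zpowers α).map iR with hA
  have hAmem : ∀ a ∈ A, ∃ n : ℕ, a = iR (α ^ n) := by
    rintro _ ⟨b, hb, rfl⟩
    have hfin : IsOfFinOrder α := isOfFinOrder_of_finite α
    have hb' : b ∈ zpowers α := hb
    rw [← hfin.mem_powers_iff_mem_zpowers] at hb'
    obtain ⟨n, rfl⟩ := hb'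
    exact ⟨n, rfl⟩
  have hDp : IsPGroup p D := (hR.to_subgroup K).map iL
  have hcardA : Nat.card A = orderOf α := by
    rw [hA, ← Nat.card_zpowers]
    exact Nat.card_congr
      ((zpowers α).equivMapOfInjective iR SemidirectProduct.inr_injective).symm.toEquiv
  have hcop : (Nat.card A).Coprime p := by rw [hcardA]; exact hα
  have hAD : A ≤ normalizer (D : Set G) := by
    intro a ha
    obtain ⟨n, rfl⟩ := hAmem a ha
    apply Cfsg.Agent.Lib.Helper88.mem_normalizer_of_conj_mem_finite
    rintro _ ⟨k, hk, rfl⟩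
    rw [hconj]
    exact ⟨_, pow_apply_mem α K hK n k hk, rfl⟩
  have hcent := omega_centralizer A D hcop hDp hAD (by
    rintro _ ⟨k, hk, rfl⟩ hcond a ha
    obtain ⟨n, rfl⟩ := hAmem a ha
    have hk1 : k ^ p = 1 ∨ (p = 2 ∧ k ^ 4 = 1) := by
      rcases hcond with h | ⟨h2, h⟩
      · left
        rw [← map_pow] at h
        exact SemidirectProduct.inl_injective (by rw [h, map_one])
      · right
        refine ⟨h2, ?_⟩
        rw [← map_pow] at h
        exact SemidirectProduct.inl_injective (by rw [h, map_one])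
    have hfk := pow_apply_eq α n (hfix k hk hk1)
    rw [mem_centralizer_iff]
    intro x hx
    rw [Set.mem_singleton_iff] at hx
    subst hx
    have := hconj (α ^ n) k
    rw [hfk] at this
    -- iR a * iL k * (iR a)⁻¹ = iL k
    calc iL k * iR (α ^ n) = (iR (α ^ n) * iL k * (iR (α ^ n))⁻¹) * iR (α ^ n) := by rw [this]
      _ = iR (α ^ n) * iL k := by rw [inv_mul_cancel_right])
  intro k hk
  have hα_mem : iR α ∈ A := ⟨α, mem_zpowers α, rfl⟩
  have h1 := hcent hα_mem
  rw [mem_centralizer_iff] at h1
  have h2 := h1 (iL k) ⟨k, hk, rfl⟩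
  have h3 := hconj α k
  have : iL (α k) = iL k := by
    rw [← h3, ← h2, mul_inv_cancel_right]
  exact SemidirectProduct.inl_injective this

/-- a `p'`-automorphism fixing the small-order elements of `[R, α]` is trivial. -/
theorem aut_eq_one_of_fix_omega (hR : IsPGroup p R) (α : MulAut R)
    (hα : (orderOf α).Coprime p)
    (hfix : ∀ y ∈ closure {c : R | ∃ x : R, c = x⁻¹ * α x},
      (y ^ p = 1 ∨ (p = 2 ∧ y ^ 4 = 1)) → α y = y) : α = 1 := by
  set K : Subgroup R := closure {c : R | ∃ x : R, c = x⁻¹ * α x} with hKdef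
  have hK : ∀ k ∈ K, α k ∈ K := by
    intro k hk
    induction hk using closure_induction with
    | mem c hc =>
      obtain ⟨x, rfl⟩ := hc
      refine subset_closure ⟨α x, ?_⟩
      rw [map_mul, map_inv]
    | one => rw [map_one]; exact one_mem _
    | mul a b _ _ ha hb => rw [map_mul]; exact mul_mem ha hb
    | inv a _ ha => rw [map_inv]; exact inv_mem ha
  have hpt := aut_fix_of_fix_omega hR α hα K hK hfix
  ext x
  show α x = x
  set c : R := x⁻¹ * α x with hc
  have hcK : c ∈ K := subset_closure ⟨x, rfl⟩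
  have hαc : α c = c := hpt c hcK
  have hpow : ∀ n : ℕ, (α ^ n) x = x * c ^ n := by
    intro n
    induction n with
    | zero => simp
    | succ n ih =>
      rw [pow_succ', MulAut.mul_apply, ih, map_mul, map_pow, hαc, pow_succ']
      have : α x = x * c := by rw [hc]; group
      rw [this, mul_assoc]
  have h1 := hpow (orderOf α)
  rw [pow_orderOf_eq_one, MulAut.one_apply] at h1
  have hcn : c ^ orderOf α = 1 := by
    have : x * c ^ orderOf α = x * 1 := by rw [mul_one]; exact h1.symm
    exact mul_left_cancel this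
  obtain ⟨k, hk⟩ := hR c
  have hc1 : c = 1 := by
    have hd1 : orderOf c ∣ orderOf α := orderOf_dvd_of_pow_eq_one hcn
    have hd2 : orderOf c ∣ p ^ k := orderOf_dvd_of_pow_eq_one hk
    have hcop : (orderOf c).Coprime (p ^ k) :=
      Nat.Coprime.coprime_dvd_left hd1 (Nat.Coprime.pow_right k hα)
    have : orderOf c = 1 := Nat.eq_one_of_dvd_coprimes hcop (dvd_refl _) hd2
    exact orderOf_eq_one_iff.1 this
  rw [hc] at hc1
  have : α x = x * (x⁻¹ * α x) := by group
  rw [this, hc1, mul_one]

end Cfsg.Agent.Lib.Helper84.Om
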