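import Cfsg.Agent.Lib.Helper16.GagDefs

/-! # Gag hive (helper16, S4561): leaf GAG-B `Wr.map_injective` -/

set_option autoImplicit false
universe u v

namespace Cfsg.Agent.Lib.Helper16.Gag
open scoped IsMulCommutative

/-- the map `Wr N p → Wr Q p` induced by `j : N →* Q` -/
def gagB_map {N : Type u} {Q : Type v} [Group N] [Group Q] (p : ℕ) (j : N →* Q) :
    Wr N p →* Wr Q p where
  toFun x := ⟨fun i => j (x.f i), x.a⟩
  map_one' := by
    refine Wr.ext ?_ rfl
    funext i
    exact map_one j
  map_mul' x y := by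
    refine Wr.ext ?_ rfl
    funext i
    exact map_mul j _ _

/-- B -/
theorem Wr.map_injective {N : Type u} {Q : Type v} [Group N] [Group Q] {p : ℕ} (j : N →* Q)
    (hj : Function.Injective j) : ∃ f : Wr N p →* Wr Q p, Function.Injective f := by
  refine ⟨gagB_map p j, ?_⟩
  intro x y hxy
  have h1 : (fun i => j (x.f i)) = fun i => j (y.f i) := congrArg (fun z : Wr Q p => z.f) hxy
  have h2 : x.a = y.a := congrArg (fun z : Wr Q p => z.a) hxy
  refine Wr.ext ?_ h2
  funext i
  exact hj (congrFun h1 i)

end Cfsg.Agent.Lib.Helper16.Gag
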