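import Cfsg.Agent.Lib.Helper16.GagDefs

/-! # Gag hive (helper16, S4561): leaf GAG-T5 `Tw.exists_psi` -/

set_option autoImplicit false
universe u v

namespace Cfsg.Agent.Lib.Helper16.Gag
open scoped IsMulCommutative

/-- the projection `Tw H p → Wr (H / Z(H)) p × ZMod p`, `(f,a,b,c) ↦ ((f mod Z, a), b)` -/
def gagT5_psi (H : Type u) [Group H] (p : ℕ) :
    Tw H p →* Wr (H ⧸ Subgroup.center H) p × Multiplicative (ZMod p) where
  toFun t := (⟨fun i => (QuotientGroup.mk (t.f i) : H ⧸ Subgroup.center H), t.a⟩,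
    Multiplicative.ofAdd t.b)
  map_one' := by
    refine Prod.ext ?_ rfl
    refine Wr.ext ?_ rfl
    funext i
    rfl
  map_mul' x y := by
    refine Prod.ext ?_ rfl
    refine Wr.ext ?_ rfl
    funext i
    rfl

theorem gagT5_psi_apply {H : Type u} [Group H] {p : ℕ} (t : Tw H p) :
    gagT5_psi H p t = (⟨fun i => (QuotientGroup.mk (t.f i) : H ⧸ Subgroup.center H), t.a⟩,
      Multiplicative.ofAdd t.b) := rfl

theorem gagT5_surjective {H : Type u} [Group H] {p : ℕ} :
    Function.Surjective (gagT5_psi H p) := by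
  rintro ⟨w, m⟩
  refine ⟨⟨fun i => (w.f i).out, w.a, Multiplicative.toAdd m, 0⟩, ?_⟩
  rw [gagT5_psi_apply]
  refine Prod.ext ?_ rfl
  refine Wr.ext ?_ rfl
  funext i
  exact QuotientGroup.out_eq' (w.f i)

theorem gagT5_ker {H : Type u} [Group H] {p : ℕ} :
    (gagT5_psi H p).ker = Tw.Zhat H p := by
  ext t
  rw [MonoidHom.mem_ker, Tw.mem_Zhat, gagT5_psi_apply]
  constructor
  · intro h
    have h1 := congrArg Prod.fst h
    have h2 := congrArg Prod.snd h
    have ha : t.a = 0 := congrArg Wr.a h1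
    have hf := congrArg Wr.f h1
    refine ⟨ha, ?_, ?_⟩
    · exact Multiplicative.ofAdd.injective h2
    · intro i
      have hi := congrFun hf i
      exact (QuotientGroup.eq_one_iff (t.f i)).mp hi
  · rintro ⟨ha, hb, hf⟩
    refine Prod.ext ?_ ?_
    · refine Wr.ext ?_ ha
      funext i
      exact (QuotientGroup.eq_one_iff (t.f i)).mpr (hf i)
    · change Multiplicative.ofAdd t.b = 1
      rw [hb]
      rfl

/-- T5 -/
theorem Tw.exists_psi {H : Type u} [Group H] {p : ℕ} :
    ∃ ψ : Tw H p →* Wr (H ⧸ Subgroup.center H) p × Multiplicative (ZMod p),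
      Function.Surjective ψ ∧ ψ.ker = Tw.Zhat H p :=
  ⟨gagT5_psi H p, gagT5_surjective, gagT5_ker⟩

end Cfsg.Agent.Lib.Helper16.Gag
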