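import Cfsg.Agent.Lib.Helper87.Essential
import Cfsg.Agent.Lib.Helper46.SE

set_option autoImplicit false

namespace Cfsg.Agent.Lib.Helper84

open Cfsg Cfsg.FusionSystem Cfsg.Agent.Lib.Helper87

variable {Ω : Type*} [Group Ω] {S : Subgroup Ω}

/-- Direct form of `Helper87.autGroup_le_closure_extSet` (same proof, due to helper87): if `R < S`
is fully automized, receptive, contains its centralizer, and `Aut_F(R)` is not generated by the
automorphisms extending to strictly larger subgroups, then the image in `Out_F(R)` of the subgroup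
they generate is strongly `p`-embedded. -/
theorem stronglyPEmbedded_map_closure_extSet [Finite S] {p : ℕ} [Fact p.Prime] (hS : IsPGroup p S)
    (F : FusionSystem S) {R : Subgroup Ω} (hfa : F.IsFullyAutomized p R)
    (hrec : F.IsReceptive R) (hcen : centralizerIn S R ≤ R) (hRS : R ≠ S)
    [hn : ((Inn R).subgroupOf (F.autGroup R)).Normal]
    (hcon : ¬ F.autGroup R ≤ Subgroup.closure (extSet F R)) :
    IsStronglyPEmbedded p (((Subgroup.closure (extSet F R)).subgroupOf (F.autGroup R)).map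
      (QuotientGroup.mk' ((Inn R).subgroupOf (F.autGroup R)))) := by
  have hR : R ≤ S := hfa.1
  have hfinR : Finite R := finite_of_le hR
  have hInnA : Inn R ≤ F.autGroup R :=
    (inn_le_autInducedBy hR).trans (autInducedBy_le_autGroup F hR)
  have hInnH : Inn R ≤ Subgroup.closure (extSet F R) := inn_le_closure_extSet F hR hRS
  obtain ⟨-, Rsyl, hRsyl⟩ := hfa
  have hπsurj : Function.Surjective (QuotientGroup.mk' ((Inn R).subgroupOf (F.autGroup R))) :=
    QuotientGroup.mk'_surjective _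
  -- membership in the Sylow subgroup
  have hmemSyl : ∀ a : F.autGroup R, a ∈ (Rsyl : Subgroup (F.autGroup R)) ↔
      ∃ g ∈ S, ∀ x : R, (((a : MulAut R) x : R) : Ω) = g * x * g⁻¹ := by
    intro a
    rw [hRsyl, Subgroup.mem_subgroupOf, mem_autInducedBy_iff]
  -- the Sylow subgroup of the quotient
  obtain ⟨P', hP'⟩ : ∃ P' : Sylow p (F.autGroup R ⧸ (Inn R).subgroupOf (F.autGroup R)),
      ∀ y, y ∈ (P' : Subgroup _) ↔ ∃ a ∈ (Rsyl : Subgroup (F.autGroup R)),
        QuotientGroup.mk' ((Inn R).subgroupOf (F.autGroup R)) a = y :=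
    ⟨Rsyl.mapSurjective hπsurj, fun y => Iff.rfl⟩
  -- the strongly embedded candidate
  refine ⟨?_, ?_, P', ?_⟩
  · -- `p` divides the order of `Out_F(R)`
    obtain ⟨g, hgN, hgR⟩ := exists_mem_normalizerIn_not_mem hS hR hRS
    have hcA : conjAut R g hgN.2 ∈ F.autGroup R :=
      autInducedBy_le_autGroup F hR (conjAut_mem_autInducedBy hgN.1 hgN.2)
    have hmem : QuotientGroup.mk' ((Inn R).subgroupOf (F.autGroup R)) ⟨_, hcA⟩ ∈
        (P' : Subgroup _) := by
      rw [hP']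
      refine ⟨⟨_, hcA⟩, ?_, rfl⟩
      exact (hmemSyl _).mpr ⟨g, hgN.1, fun x => rfl⟩
    have hne1 : QuotientGroup.mk' ((Inn R).subgroupOf (F.autGroup R)) ⟨_, hcA⟩ ≠ 1 := by
      intro h1
      have h2 : (⟨_, hcA⟩ : F.autGroup R) ∈ (Inn R).subgroupOf (F.autGroup R) :=
        (QuotientGroup.eq_one_iff _).mp h1
      exact not_mem_inn_of_conj hR hcen hgN.1 hgR (fun x => rfl) (Subgroup.mem_subgroupOf.mp h2)
    have hP'p := P'.isPGroup'
    rcases hP'p.card_eq_or_dvd with h1 | h1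
    · exfalso
      have hbot := Subgroup.eq_bot_of_card_eq _ h1
      rw [hbot, Subgroup.mem_bot] at hmem
      exact hne1 hmem
    · exact h1.trans (Subgroup.card_subgroup_dvd_card _)
  · -- properness
    intro htop
    apply hcon
    intro α hα
    have h1 : QuotientGroup.mk' ((Inn R).subgroupOf (F.autGroup R)) ⟨α, hα⟩ ∈
        ((Subgroup.closure (extSet F R)).subgroupOf (F.autGroup R)).map
          (QuotientGroup.mk' ((Inn R).subgroupOf (F.autGroup R))) := by
      rw [htop]; exact Subgroup.mem_top _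
    obtain ⟨b, hb, hbe⟩ := h1
    have h2 : b⁻¹ * ⟨α, hα⟩ ∈ (Inn R).subgroupOf (F.autGroup R) :=
      QuotientGroup.eq.mp hbe
    have h3 : (b : MulAut R)⁻¹ * α ∈ Inn R := Subgroup.mem_subgroupOf.mp h2
    have h4 : (b : MulAut R) ∈ Subgroup.closure (extSet F R) := Subgroup.mem_subgroupOf.mp hb
    have : α = (b : MulAut R) * ((b : MulAut R)⁻¹ * α) := by group
    rw [this]
    exact Subgroup.mul_mem _ h4 (hInnH h3)
  · -- the 1-generated core is contained in the candidate
    unfold kGeneratedCore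
    apply iSup_le
    rintro ⟨Qb, hQbP, hrk⟩
    intro x hx
    obtain ⟨⟨α, hα⟩, rfl⟩ := hπsurj x
    suffices hαH : α ∈ Subgroup.closure (extSet F R) from
      ⟨⟨α, hα⟩, Subgroup.mem_subgroupOf.mpr hαH, rfl⟩
    apply Subgroup.subset_closure
    -- a nontrivial element of `Qb`
    have hQbne : Qb ≠ ⊥ := by
      intro h
      apply hrk
      rw [h]
      exact pRankLE_zero_bot p
    obtain ⟨⟨y, hyQ⟩, hy1⟩ := (Subgroup.ne_bot_iff_exists_ne_one.mp hQbne)
    have hy1' : y ≠ 1 := fun h => hy1 (Subtype.ext h)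
    -- `y` is the class of a conjugation by `g ∈ N_S(R) \ R`
    obtain ⟨ay, hay, hayy⟩ := (hP' y).mp (hQbP hyQ)
    obtain ⟨g, hgS, hg⟩ := (hmemSyl ay).mp hay
    have hgN : g ∈ Subgroup.normalizer (R : Set Ω) := mem_normalizer_of_aut R _ g hg
    have hgR : g ∉ R := by
      intro hgR
      apply hy1'
      rw [← hayy]
      apply (QuotientGroup.eq_one_iff _).mpr
      apply Subgroup.mem_subgroupOf.mpr
      refine ⟨⟨g, hgR⟩, ?_⟩
      ext z
      rw [hg]
      rfl
    -- `x y x⁻¹` lies in `Qb`, hence in the Sylow subgroup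
    have hxy : QuotientGroup.mk' ((Inn R).subgroupOf (F.autGroup R)) ⟨α, hα⟩ * y *
        (QuotientGroup.mk' ((Inn R).subgroupOf (F.autGroup R)) ⟨α, hα⟩)⁻¹ ∈ Qb :=
      (Subgroup.mem_normalizer_iff.mp hx y).mp hyQ
    obtain ⟨b, hb, hbe⟩ := (hP' _).mp (hQbP hxy)
    obtain ⟨h₀, hh₀S, hh₀⟩ := (hmemSyl b).mp hb
    rw [← hayy, ← map_inv, ← map_mul, ← map_mul] at hbe
    have h2 : b⁻¹ * (⟨α, hα⟩ * ay * ⟨α, hα⟩⁻¹) ∈ (Inn R).subgroupOf (F.autGroup R) :=
      QuotientGroup.eq.mp hbe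
    obtain ⟨r, hr⟩ := Subgroup.mem_subgroupOf.mp h2
    have hr' : ∀ z : R, α ((ay : MulAut R) (α⁻¹ z)) = (b : MulAut R) (MulAut.conj r z) := by
      intro z
      have h3 : (b : MulAut R) * MulAut.conj r = α * (ay : MulAut R) * α⁻¹ := by
        rw [hr]
        show (b : MulAut R) * ((b : MulAut R)⁻¹ * (α * (ay : MulAut R) * α⁻¹)) = _
        group
      have h4 := congrArg (fun γ : MulAut R => γ z) h3
      exact h4.symm
    refine mem_extSet_of_conj F hrec hα hgS hgN hgR (h := h₀ * r) (S.mul_mem hh₀S (hR r.2)) ?_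
    intro x'
    have h5 := hr' (α x')
    have h6 : α⁻¹ (α x') = x' := by simp
    rw [h6] at h5
    have h7 : (ay : MulAut R) x' = conjAut R g hgN x' := Subtype.ext (hg x')
    rw [← h7, h5, hh₀]
    show h₀ * ((r : Ω) * (α x' : R) * (r : Ω)⁻¹) * h₀⁻¹ = _
    group


/-- Automorphisms extending to larger subgroups are automorphisms of the system. -/
theorem closure_extSet_le_autGroup (F : FusionSystem S) {R : Subgroup Ω} (hR : R ≤ S) :
    Subgroup.closure (extSet F R) ≤ F.autGroup R := by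
  rw [Subgroup.closure_le]
  rintro α ⟨Q, hRQ, φ, hφ, hα⟩
  rw [SetLike.mem_coe, Cfsg.Agent.Lib.Helper87.mem_autGroup_iff F hR]
  have h1 := restrict_mem F hφ hRQ.le
  have e : R.subtype.comp α.toMonoidHom = φ.comp (Subgroup.inclusion hRQ.le) := by
    ext x
    exact (hα x).symm
  rw [e]
  exact h1

/-- If a receptive `R` does not contain its centralizer in `S`, every automorphism of the system
extends to a strictly larger subgroup. -/
theorem mem_extSet_of_not_le (F : FusionSystem S) {R : Subgroup Ω} (hrec : F.IsReceptive R)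
    (hcen : ¬ centralizerIn S R ≤ R) {α : MulAut R} (hα : α ∈ F.autGroup R) :
    α ∈ extSet F R := by
  have hR : R ≤ S := hrec.1
  have hφ := (Cfsg.Agent.Lib.Helper87.mem_autGroup_iff F hR α).mp hα
  have hr : (R.subtype.comp α.toMonoidHom).range = R := by
    apply le_antisymm
    · rintro _ ⟨x, rfl⟩
      exact (α x).2
    · intro y hy
      exact ⟨α.symm ⟨y, hy⟩, by simp⟩
  obtain ⟨ψ, hψ, hψe⟩ := hrec.2 R _ hφ hr
  have hRT : R ≤ extender S R (R.subtype.comp α.toMonoidHom) := self_le_extender F hφ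
  have hCT : centralizerIn S R ≤ extender S R (R.subtype.comp α.toMonoidHom) :=
    centralizerIn_le_extender' R _
  have hlt : R < extender S R (R.subtype.comp α.toMonoidHom) :=
    lt_of_le_of_ne hRT (fun h => hcen (hCT.trans h.ge))
  exact ⟨_, hlt, ψ, hψ, fun x => hψe x x.2 (hRT x.2)⟩

/-- In a strongly `p`-embedded subgroup `M`: if a nontrivial `p`-subgroup `A` of `M` is conjugated
into `M` by `k`, then `k ∈ M`. -/
theorem se_mem_of_conj_le {G : Type*} [Group G] [Finite G] {p : ℕ} [Fact p.Prime]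
    {M : Subgroup G} (hM : IsStronglyPEmbedded p M) {A : Subgroup G} (hA : IsPGroup p A)
    (hne : A ≠ ⊥) (hAM : A ≤ M) {k : G} (hk : ∀ a ∈ A, k * a * k⁻¹ ∈ M) : k ∈ M := by
  have hle : A ≤ M ⊓ Cfsg.Agent.Lib.Helper33.cj k⁻¹ M := by
    intro a ha
    refine Subgroup.mem_inf.mpr ⟨hAM ha, ?_⟩
    rw [Cfsg.Agent.Lib.Helper33.mem_cj, inv_inv]
    exact hk a ha
  have hdvd : p ∣ Nat.card ↥(M ⊓ Cfsg.Agent.Lib.Helper33.cj k⁻¹ M) :=
    (Cfsg.Agent.Lib.Helper46.dvd_card_of_isPGroup_ne_bot hA hne).trans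
      (Subgroup.card_dvd_of_le hle)
  have := Cfsg.Agent.Lib.Helper46.se_mem_of_dvd_card_inf hM hdvd
  simpa using M.inv_mem this

/-- Element form of `se_mem_of_conj_le`. -/
theorem se_mem_of_conj_mem {G : Type*} [Group G] [Finite G] {p : ℕ} [Fact p.Prime]
    {M : Subgroup G} (hM : IsStronglyPEmbedded p M) {T : Subgroup G} (hT : IsPGroup p T)
    {w : G} (hwT : w ∈ T) (hw1 : w ≠ 1) (hwM : w ∈ M) {k : G} (hk : k * w * k⁻¹ ∈ M) :
    k ∈ M := by
  have hzT : Subgroup.zpowers w ≤ T := (Subgroup.zpowers_le).mpr hwT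
  apply se_mem_of_conj_le hM (hT.to_le hzT) ?_ ((Subgroup.zpowers_le).mpr hwM)
  · intro a ha
    obtain ⟨n, rfl⟩ := Subgroup.mem_zpowers_iff.mp ha
    have : k * w ^ n * k⁻¹ = (k * w * k⁻¹) ^ n := by
      rw [conj_zpow]
    rw [this]
    exact M.zpow_mem hk n
  · intro h
    rw [Subgroup.zpowers_eq_bot] at h
    exact hw1 h

open scoped Pointwise in
/-- If `Out_F(R)` has a strongly `p`-embedded subgroup (`R` fully automized, containing its
centralizer), then `Aut_F(R)` is not generated by the automorphisms extending to strictly larger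
subgroups. -/
theorem not_autGroup_le_closure_extSet [Finite S] {p : ℕ} [Fact p.Prime] (hS : IsPGroup p S)
    (F : FusionSystem S) {R : Subgroup Ω} (hfa : F.IsFullyAutomized p R)
    (hcen : centralizerIn S R ≤ R)
    [hn : ((Inn R).subgroupOf (F.autGroup R)).Normal]
    {E : Subgroup (F.autGroup R ⧸ (Inn R).subgroupOf (F.autGroup R))}
    (hE : IsStronglyPEmbedded p E) :
    ¬ F.autGroup R ≤ Subgroup.closure (extSet F R) := by
  intro hle
  have hR : R ≤ S := hfa.1
  have hfinR : Finite R := finite_of_le hR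
  obtain ⟨-, Rsyl, hRsyl⟩ := hfa
  have hπsurj : Function.Surjective (QuotientGroup.mk' ((Inn R).subgroupOf (F.autGroup R))) :=
    QuotientGroup.mk'_surjective _
  have hmemSyl : ∀ a : F.autGroup R, a ∈ (Rsyl : Subgroup (F.autGroup R)) ↔
      (a : MulAut R) ∈ autInducedBy S R := by
    intro a
    rw [hRsyl, Subgroup.mem_subgroupOf]
  obtain ⟨T, hT⟩ : ∃ T : Sylow p (F.autGroup R ⧸ (Inn R).subgroupOf (F.autGroup R)),
      ∀ y, y ∈ (T : Subgroup _) ↔ ∃ a ∈ (Rsyl : Subgroup (F.autGroup R)),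
        QuotientGroup.mk' ((Inn R).subgroupOf (F.autGroup R)) a = y :=
    ⟨Rsyl.mapSurjective hπsurj, fun y => Iff.rfl⟩
  obtain ⟨P', hd, -⟩ := Cfsg.Agent.Lib.Helper48.SEData.of_stronglyPEmbedded hE
  obtain ⟨c, hc⟩ := MulAction.exists_smul_eq
    (F.autGroup R ⧸ (Inn R).subgroupOf (F.autGroup R)) T P'
  have hcT : ∀ t ∈ (T : Subgroup (F.autGroup R ⧸ (Inn R).subgroupOf (F.autGroup R))), c * t * c⁻¹ ∈ (P' : Subgroup (F.autGroup R ⧸ (Inn R).subgroupOf (F.autGroup R))) := by
    intro t ht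
    have h2 : MulAut.conj c • t ∈ MulAut.conj c • (T : Subgroup (F.autGroup R ⧸ (Inn R).subgroupOf (F.autGroup R))) :=
      Subgroup.smul_mem_pointwise_smul _ _ _ ht
    have h3 : MulAut.conj c • (T : Subgroup (F.autGroup R ⧸ (Inn R).subgroupOf (F.autGroup R))) = (P' : Subgroup (F.autGroup R ⧸ (Inn R).subgroupOf (F.autGroup R))) := by
      rw [← hc]; rfl
    rw [h3] at h2
    simpa [MulAut.smul_def, MulAut.conj_apply] using h2
  -- the key step
  have key : ∀ (α : MulAut R) (hα : α ∈ F.autGroup R), α ∈ extSet F R →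
      c * QuotientGroup.mk' ((Inn R).subgroupOf (F.autGroup R)) ⟨α, hα⟩ * c⁻¹ ∈ E := by
    rintro α hα ⟨Q, hRQ, φ, hφ, hext⟩
    have hQS : Q ≤ S := hom_le F hφ
    have hfinQ : Finite Q := finite_of_le hQS
    obtain ⟨g, hgNQ, hgR⟩ := exists_mem_normalizerIn_not_mem (S := Q) (hS.to_le hQS) hRQ.le hRQ.ne
    have hgQ : g ∈ Q := hgNQ.1
    have hgN : g ∈ Subgroup.normalizer (R : Set Ω) := hgNQ.2
    have hgS : g ∈ S := hQS hgQ
    have hagS : conjAut R g hgN ∈ autInducedBy S R := conjAut_mem_autInducedBy hgS hgN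
    have hagA : conjAut R g hgN ∈ F.autGroup R := autInducedBy_le_autGroup F hR hagS
    have hβ : ∀ x : R, (((α * conjAut R g hgN * α⁻¹) x : R) : Ω) =
        φ ⟨g, hgQ⟩ * x * (φ ⟨g, hgQ⟩)⁻¹ := by
      intro x
      have h1 : (α * conjAut R g hgN * α⁻¹) x = α (conjAut R g hgN (α⁻¹ x)) := rfl
      rw [h1, ← hext]
      have h2 : Subgroup.inclusion hRQ.le (conjAut R g hgN (α⁻¹ x)) =
          ⟨g, hgQ⟩ * Subgroup.inclusion hRQ.le (α⁻¹ x) * ⟨g, hgQ⟩⁻¹ := by
        apply Subtype.ext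
        simp [conjAut_coe]
      rw [h2, map_mul, map_mul, map_inv, hext]
      have h3 : α (α⁻¹ x) = x := by simp
      rw [h3]
    have hβS : α * conjAut R g hgN * α⁻¹ ∈ autInducedBy S R :=
      (Cfsg.Agent.Lib.Helper87.mem_autInducedBy_iff S R _).mpr
        ⟨φ ⟨g, hgQ⟩, hom_mem_S F hφ _, hβ⟩
    have hβA : α * conjAut R g hgN * α⁻¹ ∈ F.autGroup R := autInducedBy_le_autGroup F hR hβS
    -- the classes
    have hyT : QuotientGroup.mk' ((Inn R).subgroupOf (F.autGroup R)) ⟨_, hagA⟩ ∈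
        (T : Subgroup _) := (hT _).mpr ⟨⟨_, hagA⟩, (hmemSyl _).mpr hagS, rfl⟩
    have hy1 : QuotientGroup.mk' ((Inn R).subgroupOf (F.autGroup R)) ⟨_, hagA⟩ ≠ 1 := by
      intro h1
      have h2 : (⟨_, hagA⟩ : F.autGroup R) ∈ (Inn R).subgroupOf (F.autGroup R) :=
        (QuotientGroup.eq_one_iff _).mp h1
      exact not_mem_inn_of_conj hR hcen hgS hgR (fun x => rfl) (Subgroup.mem_subgroupOf.mp h2)
    have hzT : QuotientGroup.mk' ((Inn R).subgroupOf (F.autGroup R)) ⟨_, hβA⟩ ∈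
        (T : Subgroup _) := (hT _).mpr ⟨⟨_, hβA⟩, (hmemSyl _).mpr hβS, rfl⟩
    have hz : QuotientGroup.mk' ((Inn R).subgroupOf (F.autGroup R)) ⟨_, hβA⟩ =
        QuotientGroup.mk' ((Inn R).subgroupOf (F.autGroup R)) ⟨α, hα⟩ *
          QuotientGroup.mk' ((Inn R).subgroupOf (F.autGroup R)) ⟨_, hagA⟩ *
          (QuotientGroup.mk' ((Inn R).subgroupOf (F.autGroup R)) ⟨α, hα⟩)⁻¹ := by
      rw [← map_inv, ← map_mul, ← map_mul]
      rfl
    refine se_mem_of_conj_mem hE P'.2 (hcT _ hyT) ?_ (hd.le (hcT _ hyT)) ?_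
    · intro h
      apply hy1
      have h2 := congrArg (fun t => c⁻¹ * t * c) h
      simpa [mul_assoc] using h2
    · have h4 := hd.le (hcT _ hzT)
      rw [hz] at h4
      have e : ∀ a y : F.autGroup R ⧸ (Inn R).subgroupOf (F.autGroup R),
          c * a * c⁻¹ * (c * y * c⁻¹) * (c * a * c⁻¹)⁻¹ = c * (a * y * a⁻¹) * c⁻¹ := by
        intro a y; group
      rw [e]
      exact h4
  -- all of `Aut_F(R)` maps into `E` after conjugation by `c`
  have hall : ∀ a : F.autGroup R,
      c * QuotientGroup.mk' ((Inn R).subgroupOf (F.autGroup R)) a * c⁻¹ ∈ E := by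
    have hcl : Subgroup.closure (extSet F R) ≤
        (E.comap ((MulAut.conj c).toMonoidHom.comp
          (QuotientGroup.mk' ((Inn R).subgroupOf (F.autGroup R))))).map
            (F.autGroup R).subtype := by
      rw [Subgroup.closure_le]
      intro α hα
      have hαA : α ∈ F.autGroup R :=
        closure_extSet_le_autGroup F hR (Subgroup.subset_closure hα)
      refine ⟨⟨α, hαA⟩, ?_, rfl⟩
      show c * QuotientGroup.mk' ((Inn R).subgroupOf (F.autGroup R)) ⟨α, hαA⟩ * c⁻¹ ∈ E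
      exact key α hαA hα
    intro a
    obtain ⟨a', ha', hae⟩ := hcl (hle a.2)
    have : a' = a := Subtype.ext hae
    rw [← this]
    exact ha'
  apply hE.2.1
  rw [eq_top_iff]
  intro x _
  obtain ⟨a, ha⟩ := hπsurj (c⁻¹ * x * c)
  have h5 := hall a
  rw [ha] at h5
  simpa [mul_assoc] using h5

end Cfsg.Agent.Lib.Helper84
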