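import Cfsg.Agent.Lib.Helper4.RuDefs

/-! # Ru hive (helper4, S1628): leaf RU-GRAM `gram4`, `gram8` (computational) -/

set_option autoImplicit false
set_option maxRecDepth 100000

namespace Cfsg.Agent.Lib.Helper4.Ru

open Cfsg.Spor

theorem gram_aux4 : ∀ j ∈ List.range 56, ∀ k ∈ List.range 56, (4 : ℤ) ∣ ip (Bv j) (Bv k) := by
  decide +kernel

theorem gram_aux8 : ∀ k ∈ List.range 56, (8 : ℤ) ∣ ip (Bv k) (Bv k) := by
  decide +kernel

/-- RU-GRAM -/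
theorem gram4 : ∀ j < 56, ∀ k < 56, (4 : ℤ) ∣ ip (Bv j) (Bv k) :=
  fun j hj k hk => gram_aux4 j (List.mem_range.mpr hj) k (List.mem_range.mpr hk)

/-- RU-GRAM -/
theorem gram8 : ∀ k < 56, (8 : ℤ) ∣ ip (Bv k) (Bv k) :=
  fun k hk => gram_aux8 k (List.mem_range.mpr hk)

end Cfsg.Agent.Lib.Helper4.Ru
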