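import Cfsg.Agent.Lib.Helper84.AbelRank2
import Cfsg.Agent.Lib.Helper47.Frattini
import Cfsg.Agent.Lib.Helper24.Omega1

set_option autoImplicit false

/-!
Finite abelian `p`-groups with Frattini quotient of order at most `p ^ 2` admitting a group of
automorphisms of order divisible by `p` without nontrivial normal `p`-subgroups.
-/

namespace Cfsg.Agent.Lib.Helper84.AR

variable {H : Type*} [CommGroup H]

/-- Automorphisms as endomorphisms of the additive group. -/
def θ : MulAut H →* AddMonoid.End (Additive H) where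
  toFun α := MonoidHom.toAdditive α.toMonoidHom
  map_one' := rfl
  map_mul' _ _ := rfl

theorem θ_apply (α : MulAut H) (x : Additive H) :
    θ α x = Additive.ofMul (α (Additive.toMul x)) := rfl

theorem θ_injective : Function.Injective (θ (H := H)) := by
  intro α β h
  ext x
  have := congrArg (fun f : AddMonoid.End (Additive H) => f (Additive.ofMul x)) h
  exact this

theorem θ_inv_apply (α : MulAut H) (x : Additive H) : θ α (θ α⁻¹ x) = x := by
  rw [← mul_apply', ← map_mul, mul_inv_cancel, map_one, one_apply']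

/-- A subgroup invariant under all automorphisms. -/
def IsChar (X : AddSubgroup (Additive H)) : Prop := ∀ α : MulAut H, ∀ x ∈ X, θ α x ∈ X

theorem isChar_top : IsChar (⊤ : AddSubgroup (Additive H)) := fun _ _ _ => trivial

theorem isChar_nA (n : ℕ) : IsChar (nA (Additive H) n) := fun α _ hx => map_mem_nA (θ α) hx

theorem isChar_ker (n : ℕ) : IsChar ((nsmulAddMonoidHom (α := Additive H) n).ker) := by
  intro α x hx
  rw [AddMonoidHom.mem_ker, nsmulAddMonoidHom_apply] at hx ⊢
  rw [← map_nsmul, hx, map_zero]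

/-- The automorphisms acting trivially on the section `Y / X`. -/
def stab (X Y : AddSubgroup (Additive H)) (hX : IsChar X) (hY : IsChar Y) :
    Subgroup (MulAut H) where
  carrier := {α | ∀ y ∈ Y, (θ α - 1) y ∈ X}
  one_mem' := by
    intro y _
    rw [map_one, sub_self]
    exact X.zero_mem
  mul_mem' := by
    intro α β hα hβ y hy
    have h1 : (θ (α * β) - 1) y = θ α ((θ β - 1) y) + (θ α - 1) y := by
      rw [map_mul, sub_apply', sub_apply', sub_apply', mul_apply', one_apply', map_sub]
      abel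
    rw [h1]
    exact X.add_mem (hX α _ (hβ y hy)) (hα y hy)
  inv_mem' := by
    intro α hα y hy
    have hy' : θ α⁻¹ y ∈ Y := hY α⁻¹ y hy
    have h1 := hα _ hy'
    rw [sub_apply', one_apply', θ_inv_apply] at h1
    have h2 : (θ α⁻¹ - 1) y = -(y - θ α⁻¹ y) := by
      rw [sub_apply', one_apply']; abel
    rw [h2]
    exact X.neg_mem h1

theorem mem_stab {X Y : AddSubgroup (Additive H)} {hX : IsChar X} {hY : IsChar Y} {α : MulAut H} :
    α ∈ stab X Y hX hY ↔ ∀ y ∈ Y, (θ α - 1) y ∈ X := Iff.rfl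

instance stab_normal (X Y : AddSubgroup (Additive H)) (hX : IsChar X) (hY : IsChar Y) :
    (stab X Y hX hY).Normal := by
  constructor
  intro n hn g y hy
  have hy' : θ g⁻¹ y ∈ Y := hY g⁻¹ y hy
  have h1 := hn _ hy'
  have h2 : (θ (g * n * g⁻¹) - 1) y = θ g ((θ n - 1) (θ g⁻¹ y)) := by
    rw [map_mul, map_mul, sub_apply', sub_apply', mul_apply', mul_apply', one_apply', one_apply',
      map_sub, θ_inv_apply]
  rw [h2]
  exact hX g _ h1


variable {p : ℕ}

theorem θ_pow (α : MulAut H) (n : ℕ) : θ (α ^ n) = θ α ^ n := map_pow θ α n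

/-- Automorphisms acting trivially modulo `p A` have `p`-power order. -/
theorem pow_eq_one_of_mem_stab (hp : p.Prime) (m : ℕ) (hm : ∀ x : Additive H, p ^ m • x = 0)
    {α : MulAut H} (hα : ∀ y : Additive H, (θ α - 1) y ∈ nA (Additive H) p) :
    α ^ (p ^ m) = 1 := by
  apply θ_injective
  rw [θ_pow, map_one]
  exact pow_eq_one_of_into hp (θ α) hα m hm

theorem isPGroup_stab_nA (hp : p.Prime) (m : ℕ) (hm : ∀ x : Additive H, p ^ m • x = 0) :
    IsPGroup p (stab (nA (Additive H) p) ⊤ (isChar_nA p) isChar_top) := by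
  intro ⟨α, hα⟩
  refine ⟨m, Subtype.ext ?_⟩
  exact pow_eq_one_of_mem_stab hp m hm (fun y => hα y trivial)

theorem isPGroup_stab_inf (hp : p.Prime) (m : ℕ) (hm : ∀ x : Additive H, p ^ m • x = 0)
    (L : AddSubgroup (Additive H)) (hL : IsChar L) :
    IsPGroup p (stab L ⊤ hL isChar_top ⊓ stab (nA (Additive H) p) L (isChar_nA p) hL :
      Subgroup (MulAut H)) := by
  intro ⟨β, hβ⟩
  refine ⟨m + 1, Subtype.ext ?_⟩
  show β ^ (p ^ (m + 1)) = 1
  have h2 : ∀ x, (θ β - 1) ((θ β - 1) x) ∈ nA (Additive H) p :=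
    fun x => hβ.2 _ (hβ.1 x trivial)
  have h3 : ∀ y : Additive H, (θ (β ^ p) - 1) y ∈ nA (Additive H) p := by
    intro y
    rw [θ_pow]
    exact into_of_sq hp (θ β) h2 y
  have h4 := pow_eq_one_of_mem_stab hp m hm h3
  rw [← pow_mul, ← pow_succ'] at h4
  exact h4


/-- Membership in the intersection of a normal `p`-subgroup of `Aut(H)` with a group `𝔸` whose
normal `p`-subgroups are trivial forces triviality. -/
theorem eq_one_of_mem_normal_pgroup {𝔸 : Subgroup (MulAut H)}
    (hcore : ∀ N : Subgroup 𝔸, N.Normal → IsPGroup p N → N = ⊥) (K : Subgroup (MulAut H))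
    [hK : K.Normal] (hKp : IsPGroup p K) {α : MulAut H} (hα : α ∈ 𝔸) (hαK : α ∈ K) : α = 1 := by
  have h1 : K.subgroupOf 𝔸 = ⊥ :=
    hcore (K.subgroupOf 𝔸) (hK.subgroupOf 𝔸) (hKp.comap_of_injective _ (Subgroup.subtype_injective _))
  have h2 : (⟨α, hα⟩ : 𝔸) ∈ K.subgroupOf 𝔸 := Subgroup.mem_subgroupOf.mpr hαK
  rw [h1, Subgroup.mem_bot] at h2
  exact congrArg Subtype.val h2

theorem main_comm [Finite H] (p : ℕ) [hpf : Fact p.Prime] (hP : IsPGroup p H)
    (𝔸 : Subgroup (MulAut H)) (hdvd : p ∣ Nat.card 𝔸)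
    (hcore : ∀ N : Subgroup 𝔸, N.Normal → IsPGroup p N → N = ⊥)
    (hidx : (nA (Additive H) p).index ≤ p ^ 2) :
    ((∀ a : H, a ^ p = 1) ∧ Nat.card H = p ^ 2) ∨
      (p ≤ 3 ∧ ∃ k : ℕ, Nonempty (H ≃* Multiplicative (ZMod (p ^ k) × ZMod (p ^ k)))) := by
  classical
  have hp : p.Prime := hpf.out
  have hfinA : Finite (Additive H) := ‹Finite H›
  have hfinM : Finite (MulAut H) := Finite.of_injective (fun α : MulAut H => (α : H → H))
    (fun α β h => by ext x; exact congrFun h x)
  -- exponent
  obtain ⟨m, hcard⟩ := IsPGroup.iff_card.mp hP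
  have hcardA : Nat.card (Additive H) = p ^ m := hcard
  have hm : ∀ x : Additive H, p ^ m • x = 0 := by
    intro x
    have h1 : (Additive.toMul x) ^ (p ^ m) = 1 := by rw [← hcard]; exact pow_card_eq_one'
    exact congrArg Additive.ofMul h1
  -- trivial action modulo `p A` forces triviality
  have hK : ∀ α ∈ 𝔸, (∀ y : Additive H, (θ α - 1) y ∈ nA (Additive H) p) → α = 1 := by
    intro α hα h
    exact eq_one_of_mem_normal_pgroup hcore _ (isPGroup_stab_nA hp m hm) hα (fun y _ => h y)
  -- an element of order `p`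
  obtain ⟨α', hα'⟩ := exists_prime_orderOf_dvd_card' (G := 𝔸) p hdvd
  obtain ⟨α, hα𝔸⟩ := α'
  have hord : orderOf α = p := by rw [← hα']; exact (Subgroup.orderOf_mk α hα𝔸).symm
  have hα1 : α ≠ 1 := by
    intro h
    rw [h, orderOf_one] at hord
    exact hp.one_lt.ne hord
  have hαp : α ^ p = 1 := by rw [← hord]; exact pow_orderOf_eq_one α
  obtain ⟨a, ha⟩ : ∃ a : AddMonoid.End (Additive H), a = θ α := ⟨_, rfl⟩
  have hap : a ^ p = 1 := by rw [ha, ← θ_pow, hαp, map_one]
  have hαK : ¬ ∀ y : Additive H, (a - 1) y ∈ nA (Additive H) p := by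
    intro h
    rw [ha] at h
    exact hα1 (hK α hα𝔸 h)
  have hnil : ∀ y : Additive H, ((a - 1) ^ p) y ∈ nA (Additive H) p := nil_of_pow_eq_one hp a hap
  -- the index of `p A`
  have hdvdidx : (nA (Additive H) p).index ∣ p ^ m := by
    have h1 := AddSubgroup.index_dvd_card (nA (Additive H) p)
    rwa [hcardA] at h1
  obtain ⟨t, -, ht⟩ := (Nat.dvd_prime_pow hp).mp hdvdidx
  have ht2 : t ≤ 2 := by
    rw [ht] at hidx
    exact (Nat.pow_le_pow_iff_right hp.one_lt).mp hidx
  have hidx2 : (nA (Additive H) p).index = p ^ 2 := by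
    interval_cases t
    · exfalso
      rw [pow_zero, AddSubgroup.index_eq_one] at ht
      exact hαK (fun y => by rw [ht]; trivial)
    · exfalso
      rw [pow_one] at ht
      have h1 := step hp (X := nA (Additive H) p) (Y := ⊤) le_top
        (by rw [AddSubgroup.relIndex_top_right]; exact ht) (a - 1)
        (fun x hx => map_mem_nA (a - 1) hx) (fun _ _ => trivial) ⟨p, fun y _ => hnil y⟩
      exact hαK (fun y => h1 y trivial)
    · exact ht
  have hN2 : ∀ x, (a - 1) ((a - 1) x) ∈ nA (Additive H) p := nil2 hp a hap hidx2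
  -- the exponent
  have hex : ∃ k : ℕ, ∀ x : Additive H, p ^ k • x = 0 := ⟨m, hm⟩
  obtain ⟨k, hk⟩ : ∃ k : ℕ, k = Nat.find hex := ⟨_, rfl⟩
  have hexp : ∀ x : Additive H, p ^ k • x = 0 := by rw [hk]; exact Nat.find_spec hex
  have hk1 : 1 ≤ k := by
    by_contra h
    have h0 : k = 0 := by omega
    apply hαK
    intro y
    have := hexp ((a - 1) y)
    rw [h0, pow_zero, one_smul] at this
    rw [this]
    exact (nA (Additive H) p).zero_mem
  have hmin : ¬ ∀ x : Additive H, p ^ (k - 1) • x = 0 := by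
    have : k - 1 < Nat.find hex := by omega
    exact Nat.find_min hex this
  obtain ⟨L, hLdef⟩ : ∃ L : AddSubgroup (Additive H),
      L = (nsmulAddMonoidHom (α := Additive H) (p ^ (k - 1))).ker := ⟨_, rfl⟩
  have hLmem : ∀ x : Additive H, x ∈ L ↔ p ^ (k - 1) • x = 0 := by
    intro x
    rw [hLdef, AddMonoidHom.mem_ker, nsmulAddMonoidHom_apply]
  have hLchar : IsChar L := by rw [hLdef]; exact isChar_ker _
  have hpAL : nA (Additive H) p ≤ L := by
    intro x hx
    obtain ⟨y, rfl⟩ := mem_nA.mp hx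
    rw [hLmem, ← mul_nsmul']
    have : p ^ (k - 1) * p = p ^ k := by
      rw [← pow_succ]
      congr 1
      omega
    rw [this]
    exact hexp y
  have hLtop : L ≠ ⊤ := by
    intro h
    apply hmin
    intro x
    rw [← hLmem, h]
    trivial
  have hmul := AddSubgroup.relIndex_mul_index hpAL
  rw [hidx2] at hmul
  have hLidx1 : L.index ≠ 1 := fun h => hLtop (AddSubgroup.index_eq_one.mp h)
  have hLdvd : L.index ∣ p ^ 2 := ⟨_, by rw [← hmul, mul_comm]⟩
  obtain ⟨j, hj2, hj⟩ := (Nat.dvd_prime_pow hp).mp hLdvd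
  have ha_sub : ∀ x ∈ L, (a - 1) x ∈ L := by
    intro x hx
    rw [sub_apply', one_apply']
    refine L.sub_mem ?_ hx
    rw [ha]
    exact hLchar α x hx
  interval_cases j
  · exact absurd (by rw [hj, pow_zero]) hLidx1
  · -- Borel case
    exfalso
    rw [pow_one] at hj
    have hrel : (nA (Additive H) p).relIndex L = p := by
      rw [hj, pow_two] at hmul
      exact Nat.eq_of_mul_eq_mul_right hp.pos hmul
    have h1 := step hp (X := L) (Y := ⊤) le_top
      (by rw [AddSubgroup.relIndex_top_right]; exact hj) (a - 1)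
      (fun x hx => ha_sub x hx) (fun _ _ => trivial) ⟨p, fun y _ => hpAL (hnil y)⟩
    have h2 := step hp (X := nA (Additive H) p) (Y := L) hpAL hrel (a - 1)
      (fun x hx => map_mem_nA (a - 1) hx) (fun x hx => ha_sub x hx) ⟨p, fun y _ => hnil y⟩
    rw [ha] at h1 h2
    have hmem : α ∈ (stab L ⊤ hLchar isChar_top ⊓ stab (nA (Additive H) p) L (isChar_nA p) hLchar :
        Subgroup (MulAut H)) := ⟨h1, h2⟩
    exact hα1 (eq_one_of_mem_normal_pgroup hcore _ (isPGroup_stab_inf hp m hm L hLchar) hα𝔸 hmem)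
  · -- `L ≤ p A`
    have hrel : (nA (Additive H) p).relIndex L = 1 := by
      rw [hj] at hmul
      have h3 : (nA (Additive H) p).relIndex L * p ^ 2 = 1 * p ^ 2 := by rw [hmul, one_mul]
      exact Nat.eq_of_mul_eq_mul_right (pow_pos hp.pos 2) h3
    have hLpA : L ≤ nA (Additive H) p := AddSubgroup.relIndex_eq_one.mp hrel
    by_cases hk2 : k = 1
    · left
      have hexp1 : ∀ x : Additive H, p • x = 0 := by
        intro x
        have := hexp x
        rwa [hk2, pow_one] at this
      refine ⟨fun b => ?_, ?_⟩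
      · exact congrArg Additive.toMul (hexp1 (Additive.ofMul b))
      · have hbot : nA (Additive H) p = ⊥ := by
          rw [eq_bot_iff]
          intro x hx
          obtain ⟨y, rfl⟩ := mem_nA.mp hx
          rw [AddSubgroup.mem_bot]
          exact hexp1 y
        rw [hbot, AddSubgroup.index_bot] at hidx2
        exact hidx2
    · right
      have hk2' : 2 ≤ k := by omega
      have hΩ : ∀ x : Additive H, p • x = 0 → x ∈ nA (Additive H) p := by
        intro x hx
        apply hLpA
        rw [hLmem]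
        have : p ^ (k - 1) = p * p ^ (k - 2) := by
          rw [← pow_succ']
          congr 1
          omega
        rw [this, mul_nsmul, hx, smul_zero]
      have hp3 : p ≤ 3 := by
        by_contra h
        have h4 : p ≠ 4 := by
          intro h4
          rw [h4] at hp
          exact absurd hp (by decide)
        have h5 : 5 ≤ p := by omega
        exact hαK (into_of_large_prime hp h5 a hap hN2 hΩ)
      refine ⟨hp3, k, ?_⟩
      push Not at hαK
      obtain ⟨x, hx⟩ := hαK
      obtain ⟨e⟩ := exists_equiv_zmod_sq hp k hk1 hexp (fun x hx => hLpA ((hLmem x).mpr hx)) hidx2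
        (a - 1) hN2 x hx
      exact ⟨(AddEquiv.toMultiplicativeLeft e).symm⟩

end Cfsg.Agent.Lib.Helper84.AR
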