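import Mathlib
import Cfsg.Prelude.Def_EvenType
import Cfsg.Prelude.Def_ClassificationK
import Cfsg.Agent.Lib.Helper84.PCore

set_option autoImplicit false

namespace Cfsg.Agent.Lib.Helper84

/-- a nontrivial finite `p`-group does not have `p`-rank `≤ 0` -/
theorem not_pRankLE_zero {p : ℕ} [Fact p.Prime] {Y : Type*} [Group Y] [Finite Y]
    (hY : IsPGroup p Y) (hne : Nontrivial Y) : ¬ Cfsg.PRankLE p 0 Y := by
  intro h
  obtain ⟨n, hn0, hn⟩ := (hY.nontrivial_iff_card).mp hne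
  have hdvd : p ∣ Nat.card Y := by
    rw [hn]; exact dvd_pow_self p (by omega)
  obtain ⟨y, hy⟩ := exists_prime_orderOf_dvd_card' p hdvd
  have h1 := h (Subgroup.zpowers y) inferInstance (by
    intro a ha
    obtain ⟨k, rfl⟩ := Subgroup.mem_zpowers_iff.mp ha
    rw [← zpow_natCast, ← zpow_mul, mul_comm, zpow_mul, zpow_natCast, ← hy, pow_orderOf_eq_one, one_zpow])
  rw [Nat.card_zpowers, hy, pow_zero] at h1
  have := (Fact.out : p.Prime).one_lt
  omega

theorem pCore_eq_bot_of_stronglyPEmbedded {X : Type*} [Group X] [Finite X] {p : ℕ} [Fact p.Prime]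
    {E : Subgroup X} (h : Cfsg.IsStronglyPEmbedded p E) : Cfsg.pCore p X = ⊥ := by
  by_contra hne
  obtain ⟨-, hEtop, R, hR⟩ := h
  apply hEtop
  rw [eq_top_iff]
  refine le_trans ?_ hR
  have hN : (Cfsg.pCore p X).Normal := pCore_normal p X
  have hle : Cfsg.pCore p X ≤ R := pCore_le_sylow R
  have hnt : Nontrivial (Cfsg.pCore p X) := (Subgroup.nontrivial_iff_ne_bot _).mpr hne
  have hrk : ¬ Cfsg.PRankLE p (1 - 1) (Cfsg.pCore p X) :=
    not_pRankLE_zero (pCore_isPGroup p X) hnt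
  have hnorm : Subgroup.normalizer ((Cfsg.pCore p X : Subgroup X) : Set X) = ⊤ :=
    Subgroup.normalizer_eq_top_iff.mpr hN
  unfold Cfsg.kGeneratedCore
  rw [← hnorm]
  exact le_iSup (fun Q : {Q : Subgroup X // Q ≤ R ∧ ¬ Cfsg.PRankLE p (1 - 1) Q} =>
    Subgroup.normalizer ((Q : Subgroup X) : Set X)) ⟨Cfsg.pCore p X, hle, hrk⟩

end Cfsg.Agent.Lib.Helper84
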