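import Mathlib


/-! # Rs hive (helper45, S2361): leaf RS-PSLZ `psl2_center` -/

set_option autoImplicit false
set_option linter.unusedVariables false

namespace Cfsg.Agent.Lib.Helper45.Rs

open Matrix

/-- a `2 × 2` matrix of determinant one commuting up to signs with both elementary transvections is scalar -/
theorem pslz_scalar {K : Type*} [Field K] (G : Matrix (Fin 2) (Fin 2) K) (hdet : G.det = 1)
    (r s : K)
    (h1 : G * !![1, 1; 0, 1] = r • (!![1, 1; 0, 1] * G))
    (h2 : G * !![1, 0; 1, 1] = s • (!![1, 0; 1, 1] * G)) :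
    G 0 1 = 0 ∧ G 1 0 = 0 ∧ G 0 0 = G 1 1 := by
  have e00 := congrFun (congrFun h1 0) 0
  have e01 := congrFun (congrFun h1 0) 1
  have e10 := congrFun (congrFun h1 1) 0
  have e11 := congrFun (congrFun h1 1) 1
  have f00 := congrFun (congrFun h2 0) 0
  have f01 := congrFun (congrFun h2 0) 1
  have f10 := congrFun (congrFun h2 1) 0
  have f11 := congrFun (congrFun h2 1) 1
  simp only [Matrix.mul_apply, Fin.sum_univ_two, Matrix.smul_apply, smul_eq_mul, Matrix.of_apply,
    Matrix.cons_val', Matrix.cons_val_zero, Matrix.cons_val_one, Matrix.empty_val',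
    Matrix.cons_val_fin_one, mul_one, mul_zero, add_zero,
    zero_add, one_mul, zero_mul] at e00 e01 e10 e11 f00 f01 f10 f11
  rw [Matrix.det_fin_two] at hdet
  -- first relation: c = 0 and a = d
  have hc : G 1 0 = 0 := by
    by_cases hr : r = 1
    · rw [hr, one_mul] at e00
      linear_combination -e00
    · have hc0 : G 1 0 * (1 - r) = 0 := by linear_combination e10
      rcases mul_eq_zero.mp hc0 with h | h
      · exact h
      · exact absurd (by linear_combination -h) hr
  have hb : G 0 1 = 0 := by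
    by_cases hs : s = 1
    · rw [hs, one_mul] at f11
      linear_combination -f11
    · have hb0 : G 0 1 * (1 - s) = 0 := by linear_combination f01
      rcases mul_eq_zero.mp hb0 with h | h
      · exact h
      · exact absurd (by linear_combination -h) hs
  refine ⟨hb, hc, ?_⟩
  by_cases hr : r = 1
  · rw [hr, one_mul] at e01
    linear_combination e01
  · exfalso
    rw [hc] at e00 e11
    rw [add_zero] at e00
    rw [zero_add] at e11
    have ha : G 0 0 * (1 - r) = 0 := by linear_combination e00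
    have hd : G 1 1 * (1 - r) = 0 := by linear_combination e11
    have hr' : (1 - r) ≠ 0 := fun h => hr (by linear_combination -h)
    have ha0 : G 0 0 = 0 := (mul_eq_zero.mp ha).resolve_right hr'
    rw [ha0, hc] at hdet
    simp at hdet

/-- the upper transvection of `SL₂` -/
def pslz_up (K : Type*) [Field K] : Matrix.SpecialLinearGroup (Fin 2) K :=
  ⟨!![1, 1; 0, 1], by simp [Matrix.det_fin_two]⟩

/-- the lower transvection of `SL₂` -/
def pslz_lo (K : Type*) [Field K] : Matrix.SpecialLinearGroup (Fin 2) K :=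
  ⟨!![1, 0; 1, 1], by simp [Matrix.det_fin_two]⟩

theorem pslz_comm {K : Type*} [Field K] (g h : Matrix.SpecialLinearGroup (Fin 2) K)
    (hz : (h * g)⁻¹ * (g * h) ∈ Subgroup.center (Matrix.SpecialLinearGroup (Fin 2) K)) :
    ∃ r : K, (g : Matrix (Fin 2) (Fin 2) K) * (h : Matrix (Fin 2) (Fin 2) K) =
      r • ((h : Matrix (Fin 2) (Fin 2) K) * (g : Matrix (Fin 2) (Fin 2) K)) := by
  obtain ⟨r, _, hr⟩ := Matrix.SpecialLinearGroup.mem_center_iff.mp hz
  refine ⟨r, ?_⟩
  have h1 : g * h = (h * g) * ((h * g)⁻¹ * (g * h)) := by group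
  have h2 : ((g * h : Matrix.SpecialLinearGroup (Fin 2) K) : Matrix (Fin 2) (Fin 2) K) =
      ((h * g * ((h * g)⁻¹ * (g * h)) : Matrix.SpecialLinearGroup (Fin 2) K) :
        Matrix (Fin 2) (Fin 2) K) := congrArg _ h1
  rw [Matrix.SpecialLinearGroup.coe_mul, Matrix.SpecialLinearGroup.coe_mul (h * g),
    Matrix.SpecialLinearGroup.coe_mul h g, ← hr] at h2
  rw [h2, Matrix.scalar_apply, ← Matrix.smul_one_eq_diagonal, Matrix.mul_smul, Matrix.mul_one]

/-- RS-PSLZ.  `PSL₂(K)` has trivial centre when `|K| ≥ 4`. -/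
theorem psl2_center {K : Type*} [Field K] [Fintype K] (hq : 4 ≤ Fintype.card K) :
    Subgroup.center (Matrix.ProjectiveSpecialLinearGroup (Fin 2) K) = ⊥ := by
  rw [Subgroup.eq_bot_iff_forall]
  intro x hx
  obtain ⟨g, rfl⟩ := QuotientGroup.mk_surjective x
  rw [Subgroup.mem_center_iff] at hx
  have key : ∀ h : Matrix.SpecialLinearGroup (Fin 2) K,
      (h * g)⁻¹ * (g * h) ∈ Subgroup.center (Matrix.SpecialLinearGroup (Fin 2) K) := by
    intro h
    have := hx (QuotientGroup.mk h)
    rw [← QuotientGroup.mk_mul, ← QuotientGroup.mk_mul] at this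
    exact QuotientGroup.eq.mp this
  obtain ⟨r, hr⟩ := pslz_comm g (pslz_up K) (key _)
  obtain ⟨s, hs⟩ := pslz_comm g (pslz_lo K) (key _)
  obtain ⟨hb, hc, had⟩ := pslz_scalar (g : Matrix (Fin 2) (Fin 2) K) g.2 r s hr hs
  rw [QuotientGroup.eq_one_iff, Matrix.SpecialLinearGroup.mem_center_iff]
  refine ⟨(g : Matrix (Fin 2) (Fin 2) K) 0 0, ?_, ?_⟩
  · have hdet := g.2
    rw [Matrix.det_fin_two, hb, hc, ← had] at hdet
    rw [Fintype.card_fin]
    linear_combination hdet
  · ext i j
    fin_cases i <;> fin_cases j <;> simp [Matrix.scalar_apply, hb, hc, had]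

end Cfsg.Agent.Lib.Helper45.Rs
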