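import Cfsg.Agent.Lib.Helper84.KSat3

/-!
# AKO I.5.5: `N_F^K(Q)` is saturated; the normalizer and centralizer systems
-/

set_option autoImplicit false

namespace Cfsg.Agent.Lib.Helper84.KN

open Cfsg Cfsg.FusionSystem Cfsg.Agent.Lib.Helper87

variable {Ω : Type*} [Group Ω] {S : Subgroup Ω}

/-- AKO I.5.5 (Puig): if `Q` is fully `K`-normalized in the saturated system `F`, then
`N_F^K(Q)` is saturated. -/
theorem isSaturated_of_isKNS [Finite S] {p : ℕ} [Fact p.Prime] (hS : IsPGroup p S)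
    (F : FusionSystem S) (hF : F.IsSaturated p) {Q : Subgroup Ω} (hQ : Q ≤ S)
    {K : Subgroup (MulAut Q)}
    (hfull : ∀ φ ∈ F.Hom Q, Nat.card (nk S Q K φ) ≤ Nat.card (nk S Q K Q.subtype))
    {S₀ : Subgroup Ω} {E : FusionSystem S₀} (hE : IsKNS F Q K E) : E.IsSaturated p := by
  intro P hP
  obtain ⟨P₁, hc, hfullU⟩ := exists_conj_full hS F hF hQ hfull hE hP
  have hP₁ : P₁ ≤ S₀ := Cfsg.Agent.Lib.Helper87.isConj_le_right E hc
  exact ⟨P₁, hc, fullyAutomized_of_full hS F hF hQ hE hP₁ hfullU,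
    receptive_of_full hS F hF hQ hE hP₁ hfullU⟩

/-- For `K = ⊤` the `K`-normalizer of a marking is the normalizer in `S` of its image. -/
theorem nk_top {U : Subgroup Ω} {φ : U →* Ω} (hinj : Function.Injective φ) :
    nk S U ⊤ φ = normalizerIn S φ.range := by
  ext y
  constructor
  · rintro ⟨hyS, k, -, hk⟩
    exact ⟨hyS, mem_normalizer_range_of_aut hk⟩
  · rintro ⟨hyS, hyN⟩
    obtain ⟨α, hα⟩ := exists_aut_of_mem_normalizer hinj hyN
    exact ⟨hyS, α, Subgroup.mem_top _, hα⟩

/-- For `K = ⊥` the `K`-normalizer of a marking is the centralizer in `S` of its image. -/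
theorem nk_bot {U : Subgroup Ω} (φ : U →* Ω) :
    nk S U ⊥ φ = centralizerIn S φ.range := by
  ext y
  constructor
  · rintro ⟨hyS, k, hk, hky⟩
    rw [Subgroup.mem_bot] at hk
    subst hk
    refine ⟨hyS, ?_⟩
    show y ∈ Subgroup.centralizer (φ.range : Set Ω)
    rw [Subgroup.mem_centralizer_iff]
    rintro _ ⟨x, rfl⟩
    have := hky x
    simp only [MulAut.one_apply] at this
    calc φ x * y = (y * φ x * y⁻¹) * y := by rw [this]
      _ = y * φ x := by group
  · rintro ⟨hyS, hyC⟩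
    refine ⟨hyS, 1, Subgroup.one_mem _, fun x => ?_⟩
    have := (Subgroup.mem_centralizer_iff.mp hyC) (φ x) ⟨x, rfl⟩
    simp only [MulAut.one_apply]
    rw [← this]
    group

/-- The normalizer system is the `⊤`-normalizer system. -/
theorem isKNS_of_isNormalizerSystem (F : FusionSystem S) {Q : Subgroup Ω}
    {E : FusionSystem (normalizerIn S Q)} (hE : F.IsNormalizerSystem Q E) :
    IsKNS F Q ⊤ E := by
  constructor
  · intro y
    rw [nk_top (Subgroup.subtype_injective Q), Subgroup.range_subtype]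
  · intro P φ
    rw [hE P]
    constructor
    · rintro ⟨hφ, hP, hval, ψ, hψ, hψP, hψQ⟩
      refine ⟨hφ, hP, hval, ψ, hψ, hψP, ?_⟩
      rw [map_subgroupOf_eq_iff] at hψQ
      have hinj : Function.Injective (ψ.comp (Subgroup.inclusion (le_sup_right : Q ≤ P ⊔ Q))) :=
        (F.injective_of_mem hψ).comp (Subgroup.inclusion_injective _)
      have hr : (ψ.comp (Subgroup.inclusion (le_sup_right : Q ≤ P ⊔ Q))).range = Q := by
        apply le_antisymm
        · rintro _ ⟨x, rfl⟩
          exact hψQ.1 _ x.2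
        · intro q hq
          obtain ⟨y, hy, rfl⟩ := hψQ.2 q hq
          exact ⟨⟨y, hy⟩, rfl⟩
      exact ⟨isoOfHom _ hinj hr, Subgroup.mem_top _, fun x => rfl⟩
    · rintro ⟨hφ, hP, hval, ψ, hψ, hψP, k, -, hψQ⟩
      refine ⟨hφ, hP, hval, ψ, hψ, hψP, ?_⟩
      rw [map_subgroupOf_eq_iff]
      constructor
      · intro y hy
        have : y = Subgroup.inclusion le_sup_right (⟨y, hy⟩ : Q) := rfl
        rw [this, hψQ]
        exact (k _).2
      · intro q hq
        refine ⟨Subgroup.inclusion le_sup_right (k⁻¹ ⟨q, hq⟩), (k⁻¹ ⟨q, hq⟩).2, ?_⟩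
        rw [hψQ]
        simp

/-- The centralizer system is the `⊥`-normalizer system. -/
theorem isKNS_of_isCentralizerSystem (F : FusionSystem S) {Q : Subgroup Ω}
    {E : FusionSystem (centralizerIn S Q)} (hE : F.IsCentralizerSystem Q E) :
    IsKNS F Q ⊥ E := by
  constructor
  · intro y
    rw [nk_bot, Subgroup.range_subtype]
  · intro P φ
    rw [hE P]
    constructor
    · rintro ⟨hφ, hP, hval, ψ, hψ, hψP, hψQ⟩
      exact ⟨hφ, hP, hval, ψ, hψ, hψP, 1, Subgroup.one_mem _, hψQ⟩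
    · rintro ⟨hφ, hP, hval, ψ, hψ, hψP, k, hk, hψQ⟩
      rw [Subgroup.mem_bot] at hk
      subst hk
      exact ⟨hφ, hP, hval, ψ, hψ, hψP, hψQ⟩

/-- AKO I.5.5 for normalizers: `N_F(Q)` is saturated for `Q` fully normalized. -/
theorem normalizerSystem_isSaturated [Finite S] {p : ℕ} [Fact p.Prime] (hS : IsPGroup p S)
    (F : FusionSystem S) (hF : F.IsSaturated p) {Q : Subgroup Ω} (hQ : F.IsFullyNormalized Q)
    {E : FusionSystem (normalizerIn S Q)} (hE : F.IsNormalizerSystem Q E) :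
    E.IsSaturated p := by
  refine isSaturated_of_isKNS hS F hF hQ.1 ?_ (isKNS_of_isNormalizerSystem F hE)
  intro φ hφ
  rw [nk_top (F.injective_of_mem hφ), nk_top (Subgroup.subtype_injective Q),
    Subgroup.range_subtype]
  exact hQ.2 _ ⟨φ, hφ, rfl⟩

/-- AKO I.5.5 for centralizers: `C_F(Q)` is saturated for `Q` fully centralized. -/
theorem centralizerSystem_isSaturated [Finite S] {p : ℕ} [Fact p.Prime] (hS : IsPGroup p S)
    (F : FusionSystem S) (hF : F.IsSaturated p) {Q : Subgroup Ω} (hQ : F.IsFullyCentralized Q)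
    {E : FusionSystem (centralizerIn S Q)} (hE : F.IsCentralizerSystem Q E) :
    E.IsSaturated p := by
  refine isSaturated_of_isKNS hS F hF hQ.1 ?_ (isKNS_of_isCentralizerSystem F hE)
  intro φ hφ
  rw [nk_bot, nk_bot, Subgroup.range_subtype]
  exact hQ.2 _ ⟨φ, hφ, rfl⟩

end Cfsg.Agent.Lib.Helper84.KN
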