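import Mathlib
import Cfsg.Prelude.Def_FusionSystem
import Cfsg.Agent.Lib.Helper84.FusionBasic

set_option autoImplicit false

namespace Cfsg.Agent.Lib.Helper84

open Cfsg Cfsg.FusionSystem

variable {Ω : Type*} [Group Ω]

/-- a homomorphism on `P ⊔ Q` takes values in `K` as soon as it does so on `P` and on `Q` -/
theorem sup_hom_mem {P Q : Subgroup Ω} (ψ : ↥(P ⊔ Q) →* Ω) (K : Subgroup Ω)
    (hP : ∀ x : P, ψ (Subgroup.inclusion le_sup_left x) ∈ K)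
    (hQ : ∀ x : Q, ψ (Subgroup.inclusion le_sup_right x) ∈ K) (z : ↥(P ⊔ Q)) : ψ z ∈ K := by
  have h : (⊤ : Subgroup ↥(P ⊔ Q)) ≤ K.comap ψ := by
    rw [← Subgroup.subgroupOf_self (P ⊔ Q), Subgroup.subgroupOf_sup le_sup_left le_sup_right, sup_le_iff]
    constructor
    · intro w hw
      rw [Subgroup.mem_subgroupOf] at hw
      exact hP ⟨w, hw⟩
    · intro w hw
      rw [Subgroup.mem_subgroupOf] at hw
      exact hQ ⟨w, hw⟩
  exact h (Subgroup.mem_top z)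

/-- membership in the image of `Q` under a map on `P ⊔ Q` -/
theorem mem_map_subgroupOf_sup {P Q : Subgroup Ω} (ψ : ↥(P ⊔ Q) →* Ω) (y : Ω) :
    y ∈ (Q.subgroupOf (P ⊔ Q)).map ψ ↔ ∃ x : Q, ψ (Subgroup.inclusion le_sup_right x) = y := by
  constructor
  · rintro ⟨z, hz, rfl⟩
    rw [SetLike.mem_coe, Subgroup.mem_subgroupOf] at hz
    exact ⟨⟨z, hz⟩, rfl⟩
  · rintro ⟨x, rfl⟩
    refine ⟨Subgroup.inclusion le_sup_right x, ?_, rfl⟩
    rw [SetLike.mem_coe, Subgroup.mem_subgroupOf]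
    exact x.2

theorem map_sup_right_mem {P Q : Subgroup Ω} {ψ : ↥(P ⊔ Q) →* Ω}
    (h : (Q.subgroupOf (P ⊔ Q)).map ψ = Q) (x : Q) : ψ (Subgroup.inclusion le_sup_right x) ∈ Q := by
  have h0 : ψ (Subgroup.inclusion le_sup_right x) ∈ (Q.subgroupOf (P ⊔ Q)).map ψ :=
    (mem_map_subgroupOf_sup ψ _).mpr ⟨x, rfl⟩
  rw [h] at h0
  exact h0

theorem exists_of_mem_map_sup_right {P Q : Subgroup Ω} {ψ : ↥(P ⊔ Q) →* Ω}
    (h : (Q.subgroupOf (P ⊔ Q)).map ψ = Q) {y : Ω} (hy : y ∈ Q) :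
    ∃ x : Q, ψ (Subgroup.inclusion le_sup_right x) = y := by
  have h0 : y ∈ (Q.subgroupOf (P ⊔ Q)).map ψ := by rw [h]; exact hy
  exact (mem_map_subgroupOf_sup ψ y).mp h0

end Cfsg.Agent.Lib.Helper84
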