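import Mathlib
import Cfsg.Prelude.Def_FusionSystem
import Cfsg.Agent.Lib.Helper84.FusionBasic
import Cfsg.Agent.Lib.Helper84.FusionSup

set_option autoImplicit false

namespace Cfsg.Agent.Lib.Helper84

open Cfsg Cfsg.FusionSystem

variable {Ω : Type*} [Group Ω] {S : Subgroup Ω}

theorem normalizerHom_conj (F : FusionSystem S) {Q : Subgroup Ω} (hQ : Q ≤ S) {P : Subgroup Ω} {g : Ω}
    (hP : P ≤ normalizerIn S Q) (hg : g ∈ normalizerIn S Q) :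
    Cfsg.conjHom P g ∈ F.normalizerHom Q P := by
  have hPS : P ≤ S := le_trans hP inf_le_left
  have hgS : g ∈ S := hg.1
  have hgN : g ∈ Subgroup.normalizer (Q : Set Ω) := hg.2
  refine ⟨F.conj_mem hPS hgS, hP, ?_, Cfsg.conjHom (P ⊔ Q) g, F.conj_mem (sup_le hPS hQ) hgS, ?_, ?_⟩
  · intro x
    show g * (x : Ω) * g⁻¹ ∈ normalizerIn S Q
    exact Subgroup.mul_mem _ (Subgroup.mul_mem _ hg (hP x.2)) (Subgroup.inv_mem _ hg)
  · intro x
    rfl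
  · ext y
    rw [mem_map_subgroupOf_sup]
    constructor
    · rintro ⟨x, rfl⟩
      show g * (x : Ω) * g⁻¹ ∈ Q
      exact (Subgroup.mem_normalizer_iff.mp hgN (x : Ω)).mp x.2
    · intro hy
      have h1 : g⁻¹ * y * g⁻¹⁻¹ ∈ Q :=
        (Subgroup.mem_normalizer_iff.mp (Subgroup.inv_mem _ hgN) y).mp hy
      refine ⟨⟨g⁻¹ * y * g⁻¹⁻¹, h1⟩, ?_⟩
      show g * (g⁻¹ * y * g⁻¹⁻¹) * g⁻¹ = y
      group

theorem normalizerHom_comp (F : FusionSystem S) {Q : Subgroup Ω} {P P' : Subgroup Ω}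
    {φ : P →* Ω} {ψ : P' →* Ω} (hφ : φ ∈ F.normalizerHom Q P) (hψ : ψ ∈ F.normalizerHom Q P')
    (h : ∀ x : P, φ x ∈ P') : ψ.comp (φ.codRestrict P' h) ∈ F.normalizerHom Q P := by
  obtain ⟨hφF, hPN, hφN, φ', hφ', hφext, hφQ⟩ := hφ
  obtain ⟨hψF, hP'N, hψN, ψ', hψ', hψext, hψQ⟩ := hψ
  have hφ'Q : ∀ x : Q, φ' (Subgroup.inclusion le_sup_right x) ∈ Q := map_sup_right_mem hφQ
  have hψ'Q : ∀ x : Q, ψ' (Subgroup.inclusion le_sup_right x) ∈ Q := map_sup_right_mem hψQ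
  have hmaps : ∀ z : ↥(P ⊔ Q), φ' z ∈ P' ⊔ Q := by
    apply sup_hom_mem
    · intro x
      rw [hφext]
      exact (le_sup_left : P' ≤ P' ⊔ Q) (h x)
    · intro x
      exact (le_sup_right : Q ≤ P' ⊔ Q) (hφ'Q x)
  refine ⟨F.comp_mem hφF hψF h, hPN, fun x => hψN _, ψ'.comp (φ'.codRestrict (P' ⊔ Q) hmaps),
    F.comp_mem hφ' hψ' hmaps, ?_, ?_⟩
  · intro x
    show ψ' ⟨φ' (Subgroup.inclusion le_sup_left x), _⟩ = ψ ⟨φ x, _⟩
    rw [← hψext ⟨φ x, h x⟩]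
    congr 1
    apply Subtype.ext
    exact hφext x
  · ext y
    rw [mem_map_subgroupOf_sup]
    constructor
    · rintro ⟨x, rfl⟩
      have := hψ'Q ⟨φ' (Subgroup.inclusion le_sup_right x), hφ'Q x⟩
      exact this
    · intro hy
      obtain ⟨w, rfl⟩ := exists_of_mem_map_sup_right hψQ hy
      obtain ⟨z, hz⟩ := exists_of_mem_map_sup_right hφQ w.2
      refine ⟨z, ?_⟩
      show ψ' ⟨φ' (Subgroup.inclusion le_sup_right z), _⟩ = ψ' (Subgroup.inclusion le_sup_right w)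
      congr 1
      apply Subtype.ext
      exact hz

theorem normalizerHom_inv (F : FusionSystem S) {Q : Subgroup Ω} {P : Subgroup Ω}
    {φ : P →* Ω} (hφ : φ ∈ F.normalizerHom Q P) :
    ∃ ψ ∈ F.normalizerHom Q φ.range, ∀ x : P, ψ ⟨φ x, ⟨x, rfl⟩⟩ = (x : Ω) := by
  obtain ⟨hφF, hPN, hφN, φ', hφ', hφext, hφQ⟩ := hφ
  obtain ⟨θ, hθ, hθinv⟩ := F.inv_mem hφ'
  have hle1 : φ.range ≤ φ'.range := by
    rintro _ ⟨x, rfl⟩
    exact ⟨Subgroup.inclusion le_sup_left x, hφext x⟩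
  have hle2 : Q ≤ φ'.range := by
    intro y hy
    obtain ⟨w, rfl⟩ := exists_of_mem_map_sup_right hφQ hy
    exact ⟨_, rfl⟩
  have hle : φ.range ⊔ Q ≤ φ'.range := sup_le hle1 hle2
  refine ⟨θ.comp (Subgroup.inclusion hle1), ⟨restrict_mem F hθ hle1, ?_, ?_,
    θ.comp (Subgroup.inclusion hle), restrict_mem F hθ hle, ?_, ?_⟩, ?_⟩
  · rintro _ ⟨x, rfl⟩
    exact hφN x
  · rintro ⟨_, x, rfl⟩
    show θ ⟨φ x, _⟩ ∈ normalizerIn S Q
    have h1 : θ ⟨φ' (Subgroup.inclusion le_sup_left x), ⟨_, rfl⟩⟩ = ((Subgroup.inclusion le_sup_left x : ↥(P ⊔ Q)) : Ω) :=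
      hθinv _
    have h2 : (⟨φ x, hle1 ⟨x, rfl⟩⟩ : φ'.range) = ⟨φ' (Subgroup.inclusion le_sup_left x), ⟨_, rfl⟩⟩ :=
      Subtype.ext (hφext x).symm
    rw [h2, h1]
    exact hPN x.2
  · intro x
    rfl
  · ext y
    rw [mem_map_subgroupOf_sup]
    constructor
    · rintro ⟨x, rfl⟩
      show θ ⟨(x : Ω), _⟩ ∈ Q
      obtain ⟨w, hw⟩ := exists_of_mem_map_sup_right hφQ x.2
      have h2 : (⟨(x : Ω), hle2 x.2⟩ : φ'.range) = ⟨φ' (Subgroup.inclusion le_sup_right w), ⟨_, rfl⟩⟩ :=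
        Subtype.ext hw.symm
      rw [h2, hθinv]
      exact w.2
    · intro hy
      have hy' : φ' (Subgroup.inclusion le_sup_right ⟨y, hy⟩) ∈ Q := map_sup_right_mem hφQ ⟨y, hy⟩
      refine ⟨⟨φ' (Subgroup.inclusion le_sup_right ⟨y, hy⟩), hy'⟩, ?_⟩
      show θ ⟨φ' (Subgroup.inclusion le_sup_right ⟨y, hy⟩), _⟩ = y
      exact hθinv _
  · intro x
    show θ ⟨φ x, _⟩ = x
    have h2 : (⟨φ x, hle1 ⟨x, rfl⟩⟩ : φ'.range) = ⟨φ' (Subgroup.inclusion le_sup_left x), ⟨_, rfl⟩⟩ :=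
      Subtype.ext (hφext x).symm
    rw [h2, hθinv]
    rfl

/-- the normalizer fusion system `N_F(Q)` -/
def normalizerSystem (F : FusionSystem S) (Q : Subgroup Ω) (hQ : Q ≤ S) :
    FusionSystem (normalizerIn S Q) where
  Hom P := F.normalizerHom Q P
  le_of_mem h := ⟨h.2.1, h.2.2.1⟩
  injective_of_mem h := F.injective_of_mem h.1
  conj_mem hP hg := normalizerHom_conj F hQ hP hg
  comp_mem hφ hψ h := normalizerHom_comp F hφ hψ h
  inv_mem hφ := normalizerHom_inv F hφ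

theorem normalizerSystem_spec (F : FusionSystem S) (Q : Subgroup Ω) (hQ : Q ≤ S) :
    F.IsNormalizerSystem Q (normalizerSystem F Q hQ) := fun _ => rfl

end Cfsg.Agent.Lib.Helper84
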