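import Cfsg.Agent.Lib.Helper66.TpDefs

/-! # Tp hive (helper66, S4017): leaf TP-I5 `Yof_eq_bot` -/

set_option autoImplicit false
set_option linter.unusedVariables false
set_option linter.unusedSectionVars false
set_option linter.style.haveILetI false

namespace Cfsg.Agent.Lib.Helper66.Tp

universe u

section ctx

variable {p : ℕ} {G : Type*} [Group G] [Finite G]

/-- an element of a Sylow `p`-subgroup (`p` odd) that squares to one is trivial -/
theorem tpi5_sq_one_of_mem_sylow {p : ℕ} {G : Type*} [Group G] (hp : p.Prime) (hp2 : p ≠ 2)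
    (A : Sylow p G) (z : G) (hz : z ∈ (A : Subgroup G)) (h : z * z = 1) : z = 1 := by
  haveI : Fact p.Prime := ⟨hp⟩
  have hpodd : Odd p := hp.odd_of_ne_two hp2
  obtain ⟨k, hk⟩ := (IsPGroup.iff_orderOf.mp A.isPGroup') ⟨z, hz⟩
  have hk' : orderOf z = p ^ k := by rw [← hk, ← Subgroup.orderOf_coe]
  by_contra hz1
  have h2 : orderOf z = 2 := orderOf_eq_prime (by rw [pow_two]; exact h) hz1
  have hodd : Odd (p ^ k) := hpodd.pow
  rw [← hk', h2] at hodd
  exact absurd hodd (by decide)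

variable (s : Setup p G)
include s

/-- `Q` is commutative (exponent two) -/
theorem tpi5_comm_Q (q v : G) (hq : q ∈ (s.Q : Subgroup G)) (hv : v ∈ (s.Q : Subgroup G)) :
    q * v = v * q := by
  have h1 : (q * v) * (q * v) = 1 := s.hexp _ (mul_mem hq hv)
  have hq2 := s.hexp q hq
  have hv2 := s.hexp v hv
  symm
  calc v * q = v * q * ((q * v) * (q * v)) := by rw [h1, mul_one]
    _ = v * (q * q) * v * (q * v) := by group
    _ = (v * v) * (q * v) := by rw [hq2]; group
    _ = q * v := by rw [hv2, one_mul]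

/-- an element of `C(v)` (`v ∈ Q \ {1}`) squaring to one lies in `Q` -/
theorem tpi5_mem_Q (hcomm : ∀ t : G, orderOf t = 2 → ∀ a ∈ Subgroup.centralizer ({t} : Set G),
        ∀ b ∈ Subgroup.centralizer ({t} : Set G), a * b = b * a)
    {v : G} (hv : v ∈ (s.Q : Subgroup G)) (hv1 : v ≠ 1) (c : G)
    (hc : c ∈ Subgroup.centralizer ({v} : Set G)) (hc2 : c * c = 1) : c ∈ (s.Q : Subgroup G) := by
  have hv2 : v * v = 1 := s.hexp v hv
  have hvo : orderOf v = 2 := orderOf_eq_prime (by rw [pow_two]; exact hv2) hv1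
  have hC := hcomm v hvo
  let H' : Subgroup G :=
    { carrier := {x | x ∈ Subgroup.centralizer ({v} : Set G) ∧ x * x = 1}
      mul_mem' := by
        rintro x y ⟨hx, hx2⟩ ⟨hy, hy2⟩
        refine ⟨mul_mem hx hy, ?_⟩
        have hxy := hC x hx y hy
        calc x * y * (x * y) = x * (y * x) * y := by group
          _ = x * (x * y) * y := by rw [← hxy]
          _ = (x * x) * (y * y) := by group
          _ = 1 := by rw [hx2, hy2, one_mul]
      one_mem' := ⟨one_mem _, one_mul 1⟩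
      inv_mem' := by
        rintro x ⟨hx, hx2⟩
        refine ⟨inv_mem hx, ?_⟩
        rw [← mul_inv_rev, hx2, inv_one] }
  have hle : (s.Q : Subgroup G) ≤ H' := by
    intro q hq
    refine ⟨?_, s.hexp q hq⟩
    rw [Subgroup.mem_centralizer_singleton_iff]
    exact tpi5_comm_Q s q v hq hv
  have hH' : IsPGroup 2 H' := by
    rintro ⟨x, hx, hx2⟩
    refine ⟨1, ?_⟩
    apply Subtype.ext
    rw [pow_one, Subgroup.coe_pow, Subgroup.coe_one, pow_two]
    exact hx2
  have heq : H' = (s.Q : Subgroup G) := s.Q.is_maximal' hH' hle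
  rw [← heq]
  exact ⟨hc, hc2⟩

theorem Yof_eq_bot (hcomm : ∀ t : G, orderOf t = 2 → ∀ a ∈ Subgroup.centralizer ({t} : Set G),
        ∀ b ∈ Subgroup.centralizer ({t} : Set G), a * b = b * a)
    (hTI : ∀ g v : G, v ∈ (s.Q : Subgroup G) → v ≠ 1 → g * v * g⁻¹ ∈ (s.Q : Subgroup G) →
        g ∈ Subgroup.normalizer ((s.Q : Subgroup G) : Set G))
    (hYp : ∀ u ∈ (s.Q : Subgroup G), u ≠ 1 → IsPGroup p (Yof p u))
    (h4 : ∀ a b : G, orderOf a = 2 → orderOf b = 2 → a * b ≠ b * a →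
      ∃ A : Sylow p G, (A : Subgroup G) = Subgroup.centralizer ({a * b} : Set G) ∧
        ∀ z ∈ (A : Subgroup G), b * z * b⁻¹ = z⁻¹)
    {u : G} (hu : u ∈ (s.Q : Subgroup G)) (hu1 : u ≠ 1) : Yof p u = ⊥ := by
  classical
  have hp := s.ctx.hp
  have hp2 := s.ctx.hp2
  haveI : Fact p.Prime := ⟨hp⟩
  have hu2 : u * u = 1 := s.hexp u hu
  have huinv : u⁻¹ = u := inv_eq_of_mul_eq_one_left hu2
  have huo : orderOf u = 2 := orderOf_eq_prime (by rw [pow_two]; exact hu2) hu1
  -- `N(Q) ≠ ⊤`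
  have hN : ∃ g : G, g ∉ Subgroup.normalizer ((s.Q : Subgroup G) : Set G) := by
    by_contra hall
    push Not at hall
    have hnorm : (s.Q : Subgroup G).Normal := by
      constructor
      intro n hn g
      exact (Subgroup.mem_normalizer_iff.mp (hall g) n).mp hn
    haveI := s.ctx.simple
    rcases hnorm.eq_bot_or_eq_top with h | h
    · apply hu1
      have : u ∈ (⊥ : Subgroup G) := h ▸ hu
      exact Subgroup.mem_bot.mp this
    · have hcard : Nat.card (s.Q : Subgroup G) = Nat.card G := by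
        rw [h]; exact Subgroup.card_top
      rw [s.Q.card_eq_multiplicity, s.ctx.two_part] at hcard
      have hdvd : p ∣ p + 1 := by rw [hcard]; exact s.ctx.pdvd
      have h1 : p ∣ 1 := (Nat.dvd_add_right (dvd_refl p)).mp hdvd
      exact hp.one_lt.ne' (Nat.dvd_one.mp h1)
  obtain ⟨g, hg⟩ := hN
  -- `a := g u g⁻¹`
  have haQ : g * u * g⁻¹ ∉ (s.Q : Subgroup G) := fun h => hg (hTI g u hu hu1 h)
  have ha2 : (g * u * g⁻¹) * (g * u * g⁻¹) = 1 := by
    calc (g * u * g⁻¹) * (g * u * g⁻¹) = g * (u * u) * g⁻¹ := by group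
      _ = 1 := by rw [hu2]; group
  have ha1 : g * u * g⁻¹ ≠ 1 := fun h => haQ (h ▸ one_mem _)
  have hao : orderOf (g * u * g⁻¹) = 2 := orderOf_eq_prime (by rw [pow_two]; exact ha2) ha1
  have hne : (g * u * g⁻¹) * u ≠ u * (g * u * g⁻¹) := by
    intro h
    apply haQ
    exact tpi5_mem_Q s hcomm hu hu1 _ (Subgroup.mem_centralizer_singleton_iff.mpr h) ha2
  obtain ⟨A, hA, hAinv⟩ := h4 (g * u * g⁻¹) u hao huo hne
  -- suppose `Yof p u ≠ ⊥`
  rw [Subgroup.eq_bot_iff_forall]
  intro d hd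
  by_contra hd1
  obtain ⟨P', hP'⟩ := (hYp u hu hu1).exists_le_sylow
  obtain ⟨g', hg'⟩ := MulAction.exists_smul_eq G A P'
  have hdP : d ∈ (P' : Subgroup G) := hP' hd
  rw [← hg', Sylow.coe_subgroup_smul, Subgroup.mem_smul_pointwise_iff_exists] at hdP
  obtain ⟨z, hz, hzd⟩ := hdP
  rw [MulAut.smul_def, MulAut.conj_apply] at hzd
  have hz1 : z ≠ 1 := by
    intro h
    apply hd1
    rw [← hzd, h]; group
  -- `u` inverts `z`
  have hzt : u * z * u = z⁻¹ := by
    have := hAinv z hz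
    rwa [huinv] at this
  have hzu2 : (z * u) * (z * u) = 1 := by
    calc z * u * (z * u) = z * (u * z * u) := by group
      _ = 1 := by rw [hzt, mul_inv_cancel]
  have hzu1 : z * u ≠ 1 := by
    intro h
    have hzu' : z = u := by rw [← huinv]; exact eq_inv_of_mul_eq_one_left h
    exact hz1 (tpi5_sq_one_of_mem_sylow hp hp2 A z hz (by rw [hzu']; exact hu2))
  have hzuo : orderOf (z * u) = 2 := orderOf_eq_prime (by rw [pow_two]; exact hzu2) hzu1
  have hzz : z * u * u = z := by rw [mul_assoc, hu2, mul_one]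
  have hne2 : (z * u) * u ≠ u * (z * u) := by
    intro h
    have h2 : u * (z * u) = z⁻¹ := by rw [← mul_assoc]; exact hzt
    rw [hzz, h2] at h
    exact hz1 (tpi5_sq_one_of_mem_sylow hp hp2 A z hz
      (by nth_rewrite 2 [h]; exact mul_inv_cancel z))
  obtain ⟨A', hA', _⟩ := h4 (z * u) u hzuo huo hne2
  rw [hzz] at hA'
  -- `u' := g'⁻¹ u g' ∈ C(z) = A'`
  have hdu : d * u = u * d :=
    Subgroup.mem_centralizer_singleton_iff.mp (Yof_le_centralizer p u hd)
  have hu' : g'⁻¹ * u * g' ∈ (A' : Subgroup G) := by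
    rw [hA', Subgroup.mem_centralizer_singleton_iff]
    rw [← hzd] at hdu
    calc g'⁻¹ * u * g' * z = g'⁻¹ * (u * (g' * z * g'⁻¹)) * g' := by group
      _ = g'⁻¹ * ((g' * z * g'⁻¹) * u) * g' := by rw [hdu]
      _ = z * (g'⁻¹ * u * g') := by group
  have hu'2 : (g'⁻¹ * u * g') * (g'⁻¹ * u * g') = 1 := by
    calc (g'⁻¹ * u * g') * (g'⁻¹ * u * g') = g'⁻¹ * (u * u) * g' := by group
      _ = 1 := by rw [hu2]; group
  have hfin := tpi5_sq_one_of_mem_sylow hp hp2 A' _ hu' hu'2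
  apply hu1
  calc u = g' * (g'⁻¹ * u * g') * g'⁻¹ := by group
    _ = 1 := by rw [hfin]; group

end ctx

end Cfsg.Agent.Lib.Helper66.Tp
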