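import Cfsg.Agent.Lib.Helper66.TpDefs

/-! # Tp hive (helper66, S4017): leaf TP-I6 `card_normalizer_sylow` -/

set_option autoImplicit false
set_option linter.unusedVariables false
set_option linter.unusedSectionVars false
set_option linter.style.haveILetI false

namespace Cfsg.Agent.Lib.Helper66.Tp

universe u

section ctx

variable {p : ℕ} {G : Type*} [Group G] [Finite G]

/-- an odd prime power equal to or dividing a power of two is one -/
theorem tpi6_pow_dvd_two_pow {p : ℕ} (hp : p.Prime) (hp2 : p ≠ 2) {k a : ℕ} (h : p ^ k ∣ 2 ^ a) :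
    k = 0 := by
  by_contra hk
  have h1 : p ∣ 2 ^ a := dvd_trans (dvd_pow_self p hk) h
  have h2 : p ∣ 2 := hp.dvd_of_dvd_pow h1
  exact hp2 ((Nat.prime_dvd_prime_iff_eq hp Nat.prime_two).mp h2)

variable (s : Setup p G)
include s

/-- every element of a `2`-subgroup of `G` squares to one -/
theorem tpi6_sq_of_two_group (H : Subgroup G) (hH : IsPGroup 2 H) (c : G) (hc : c ∈ H) :
    c * c = 1 := by
  obtain ⟨P', hP'⟩ := hH.exists_le_sylow
  obtain ⟨g, hg⟩ := MulAction.exists_smul_eq G s.Q P'
  have hcP : c ∈ (P' : Subgroup G) := hP' hc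
  rw [← hg, Sylow.coe_subgroup_smul, Subgroup.mem_smul_pointwise_iff_exists] at hcP
  obtain ⟨q, hq, rfl⟩ := hcP
  rw [MulAut.smul_def, MulAut.conj_apply]
  have hq2 := s.hexp q hq
  calc g * q * g⁻¹ * (g * q * g⁻¹) = g * (q * q) * g⁻¹ := by group
    _ = 1 := by rw [hq2]; group

theorem card_normalizer_sylow
    (hcent : ∀ t : G, orderOf t = 2 → Nat.card (Subgroup.centralizer ({t} : Set G)) = p + 1)
    (h4 : ∀ a b : G, orderOf a = 2 → orderOf b = 2 → a * b ≠ b * a →
      ∃ A : Sylow p G, (A : Subgroup G) = Subgroup.centralizer ({a * b} : Set G) ∧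
        ∀ z ∈ (A : Subgroup G), b * z * b⁻¹ = z⁻¹)
    (A : Sylow p G) {t : G} (ht : orderOf t = 2) (hinv : ∀ z ∈ (A : Subgroup G), t * z * t⁻¹ = z⁻¹) :
    Nat.card (Subgroup.normalizer ((A : Subgroup G) : Set G)) = 2 * Nat.card (A : Subgroup G) ∧
      Subgroup.centralizer ((A : Subgroup G) : Set G) = (A : Subgroup G) := by
  classical
  have hp := s.ctx.hp
  have hp2 := s.ctx.hp2
  haveI : Fact p.Prime := ⟨hp⟩
  have hpodd : Odd p := hp.odd_of_ne_two hp2
  -- basic facts on `t`
  have ht2 : t * t = 1 := by rw [← pow_two, ← ht]; exact pow_orderOf_eq_one t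
  have htinv : t⁻¹ = t := inv_eq_of_mul_eq_one_left ht2
  -- `A` is commutative
  have hAcomm : ∀ y ∈ (A : Subgroup G), ∀ z ∈ (A : Subgroup G), y * z = z * y := by
    intro y hy z hz
    have h := (s.ctx.abel A).is_comm.comm (⟨y, hy⟩ : (A : Subgroup G)) ⟨z, hz⟩
    exact congrArg Subtype.val h
  -- orders in `A`
  have hAord : ∀ z ∈ (A : Subgroup G), ∃ k, orderOf z = p ^ k := by
    intro z hz
    obtain ⟨k, hk⟩ := (IsPGroup.iff_orderOf.mp A.isPGroup') ⟨z, hz⟩
    exact ⟨k, by rw [← hk, ← Subgroup.orderOf_coe]⟩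
  have hnot2 : ∀ z ∈ (A : Subgroup G), orderOf z ≠ 2 := by
    intro z hz h
    obtain ⟨k, hk⟩ := hAord z hz
    have hodd : Odd (p ^ k) := hpodd.pow
    rw [← hk, h] at hodd
    exact absurd hodd (by decide)
  have hsq1 : ∀ z ∈ (A : Subgroup G), z * z = 1 → z = 1 := by
    intro z hz h
    by_contra hz1
    exact hnot2 z hz (orderOf_eq_prime (by rw [pow_two]; exact h) hz1)
  -- an element of `A` commuting with an involution is trivial
  have hCA : ∀ w : G, orderOf w = 2 → ∀ z ∈ (A : Subgroup G), w * z = z * w → z = 1 := by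
    intro w hw z hz hwz
    have hzC : z ∈ Subgroup.centralizer ({w} : Set G) :=
      Subgroup.mem_centralizer_singleton_iff.mpr hwz.symm
    have hdvd : orderOf z ∣ p + 1 := by
      rw [← hcent w hw]
      have h1 := orderOf_dvd_natCard (⟨z, hzC⟩ : Subgroup.centralizer ({w} : Set G))
      rwa [Subgroup.orderOf_mk] at h1
    obtain ⟨k, hk⟩ := hAord z hz
    rw [← s.ctx.two_part, hk] at hdvd
    have hk0 := tpi6_pow_dvd_two_pow hp hp2 hdvd
    rw [hk0, pow_zero] at hk
    exact orderOf_eq_one_iff.mp hk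
  -- an involution normalizing `A` inverts `A`
  have hinvA : ∀ w : G, orderOf w = 2 → w ∈ Subgroup.normalizer ((A : Subgroup G) : Set G) →
      ∀ z ∈ (A : Subgroup G), w * z * w⁻¹ = z⁻¹ := by
    intro w hw hwN z hz
    have hw2 : w * w = 1 := by rw [← pow_two, ← hw]; exact pow_orderOf_eq_one w
    have hwinv : w⁻¹ = w := inv_eq_of_mul_eq_one_left hw2
    have hz' : w * z * w ∈ (A : Subgroup G) := by
      have := (Subgroup.mem_normalizer_iff.mp hwN z).mp hz
      rwa [hwinv] at this
    rw [hwinv]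
    have hy : z * (w * z * w) ∈ (A : Subgroup G) := mul_mem hz hz'
    have hc : z * (w * z * w) = w * z * w * z := hAcomm z hz (w * z * w) hz'
    have hwy : w * (z * (w * z * w)) = z * (w * z * w) * w := by
      calc w * (z * (w * z * w)) = w * (w * z * w * z) := by rw [hc]
        _ = (w * w) * z * w * z := by group
        _ = z * w * z := by rw [hw2, one_mul]
        _ = z * w * z * (w * w) := by rw [hw2, mul_one]
        _ = z * (w * z * w) * w := by group
    have h1 := hCA w hw _ hy hwy
    exact (eq_inv_of_mul_eq_one_right h1)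
  -- `A ≠ ⊥`
  have hAne : ∃ z ∈ (A : Subgroup G), z ≠ 1 := by
    have hcard := A.card_eq_multiplicity
    have hpos : 0 < (Nat.card G).factorization p :=
      hp.factorization_pos_of_dvd Nat.card_pos.ne' s.ctx.pdvd
    have h1 : 1 < Nat.card (A : Subgroup G) := by
      rw [hcard]; exact Nat.one_lt_pow hpos.ne' hp.one_lt
    have hne : (A : Subgroup G) ≠ ⊥ := (Subgroup.one_lt_card_iff_ne_bot _).mp h1
    obtain ⟨⟨z, hz⟩, hz1⟩ := (Subgroup.ne_bot_iff_exists_ne_one).mp hne
    exact ⟨z, hz, fun h => hz1 (Subtype.ext h)⟩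
  -- `C(z) = A` for `z ∈ A \ {1}`
  have hCz : ∀ z ∈ (A : Subgroup G), z ≠ 1 →
      Subgroup.centralizer ({z} : Set G) = (A : Subgroup G) := by
    intro z hz hz1
    have hzt : t * z * t = z⁻¹ := by
      have := hinv z hz
      rwa [htinv] at this
    have ha2 : (z * t) * (z * t) = 1 := by
      calc z * t * (z * t) = z * (t * z * t) := by group
        _ = 1 := by rw [hzt, mul_inv_cancel]
    have ha1 : z * t ≠ 1 := by
      intro h
      have hzt' : z = t := by rw [← htinv]; exact eq_inv_of_mul_eq_one_left h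
      exact hnot2 z hz (hzt' ▸ ht)
    have hao : orderOf (z * t) = 2 := orderOf_eq_prime (by rw [pow_two]; exact ha2) ha1
    have hzz : z * t * t = z := by rw [mul_assoc, ht2, mul_one]
    have hne : (z * t) * t ≠ t * (z * t) := by
      intro h
      have h2 : t * (z * t) = z⁻¹ := by rw [← mul_assoc]; exact hzt
      rw [hzz, h2] at h
      exact hz1 (hsq1 z hz (by nth_rewrite 2 [h]; exact mul_inv_cancel z))
    obtain ⟨A', hA', _⟩ := h4 (z * t) t hao ht hne
    rw [hzz] at hA'
    have hle : (A : Subgroup G) ≤ (A' : Subgroup G) := by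
      rw [hA']
      intro y hy
      exact Subgroup.mem_centralizer_singleton_iff.mpr (hAcomm y hy z hz)
    have heq : (A : Subgroup G) = (A' : Subgroup G) :=
      Subgroup.eq_of_le_of_card_ge hle (by rw [A.card_eq_multiplicity, A'.card_eq_multiplicity])
    rw [← hA', heq]
  -- `C(A) = A`
  have hCAeq : Subgroup.centralizer ((A : Subgroup G) : Set G) = (A : Subgroup G) := by
    obtain ⟨z, hz, hz1⟩ := hAne
    apply le_antisymm
    · calc Subgroup.centralizer ((A : Subgroup G) : Set G)
          ≤ Subgroup.centralizer ({z} : Set G) :=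
            Subgroup.centralizer_le (Set.singleton_subset_iff.mpr hz)
        _ = (A : Subgroup G) := hCz z hz hz1
    · intro y hy
      rw [Subgroup.mem_centralizer_iff]
      intro z hz
      exact hAcomm z hz y hy
  refine ⟨?_, hCAeq⟩
  -- `t ∉ A`, `t ∈ N(A)`
  have htA : t ∉ (A : Subgroup G) := fun h => hnot2 t h ht
  have htN : t ∈ Subgroup.normalizer ((A : Subgroup G) : Set G) := by
    rw [Subgroup.mem_normalizer_iff]
    intro z
    constructor
    · intro hz
      rw [hinv z hz]
      exact inv_mem hz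
    · intro hz
      have h1 := hinv _ hz
      have h2 : t * (t * z * t⁻¹) * t⁻¹ = z := by
        rw [htinv]
        calc t * (t * z * t) * t = (t * t) * z * (t * t) := by group
          _ = z := by rw [ht2, one_mul, mul_one]
      rw [h2] at h1
      rw [h1]
      exact inv_mem hz
  -- an involution `w ∈ N(A)` satisfies `w * t ∈ A`
  have hinvtA : ∀ w : G, orderOf w = 2 → w ∈ Subgroup.normalizer ((A : Subgroup G) : Set G) →
      w * t ∈ (A : Subgroup G) := by
    intro w hw hwN
    rw [← hCAeq, Subgroup.mem_centralizer_iff]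
    intro z hz
    have h1 : t * z * t⁻¹ = z⁻¹ := hinv z hz
    have h2 : w * z⁻¹ * w⁻¹ = z := by
      have := hinvA w hw hwN z⁻¹ (inv_mem hz)
      rwa [inv_inv] at this
    have h3 : (w * t) * z * (w * t)⁻¹ = z := by
      calc (w * t) * z * (w * t)⁻¹ = w * (t * z * t⁻¹) * w⁻¹ := by group
        _ = z := by rw [h1, h2]
    have h4' : (w * t) * z = z * (w * t) := by
      have := mul_inv_eq_iff_eq_mul.mp h3
      exact this
    exact h4'.symm
  -- the centralizer of `t` is a `2`-group of exponent `2`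
  have hCt2 : ∀ c ∈ Subgroup.centralizer ({t} : Set G), c * c = 1 := by
    intro c hc
    have hCt : IsPGroup 2 (Subgroup.centralizer ({t} : Set G)) :=
      IsPGroup.of_card (n := (Nat.card G).factorization 2) (by rw [hcent t ht, s.ctx.two_part])
    exact tpi6_sq_of_two_group s _ hCt c hc
  -- squaring is onto `A`
  have hsqrt : ∀ a ∈ (A : Subgroup G), ∃ b ∈ (A : Subgroup G), b * b = a := by
    intro a ha
    obtain ⟨k, hk⟩ := hAord a ha
    have hodd : Odd (orderOf a) := by rw [hk]; exact hpodd.pow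
    obtain ⟨m, hm⟩ := hodd
    refine ⟨a ^ (m + 1), pow_mem ha _, ?_⟩
    rw [← pow_add]
    have : m + 1 + (m + 1) = orderOf a + 1 := by omega
    rw [this, pow_succ, pow_orderOf_eq_one, one_mul]
  -- the dichotomy
  have hdich : ∀ n ∈ Subgroup.normalizer ((A : Subgroup G) : Set G),
      n ∈ (A : Subgroup G) ∨ n * t ∈ (A : Subgroup G) := by
    intro n hn
    have hw2 : (n * t * n⁻¹) * (n * t * n⁻¹) = 1 := by
      calc (n * t * n⁻¹) * (n * t * n⁻¹) = n * (t * t) * n⁻¹ := by group
        _ = 1 := by rw [ht2]; group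
    have hw1 : n * t * n⁻¹ ≠ 1 := by
      intro h
      have : t = 1 := by
        have h' : n * t = n := by rw [mul_inv_eq_one] at h; exact h
        exact mul_left_cancel (a := n) (by rw [h', mul_one])
      rw [this, orderOf_one] at ht
      exact absurd ht (by decide)
    have hwo : orderOf (n * t * n⁻¹) = 2 := orderOf_eq_prime (by rw [pow_two]; exact hw2) hw1
    have hwN : n * t * n⁻¹ ∈ Subgroup.normalizer ((A : Subgroup G) : Set G) :=
      mul_mem (mul_mem hn htN) (inv_mem hn)
    obtain ⟨b, hb, hbb⟩ := hsqrt _ (hinvtA _ hwo hwN)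
    -- `b t b⁻¹ = b b t = n t n⁻¹`
    have hbt : b * t * b⁻¹ = n * t * n⁻¹ := by
      have h1 : t * b⁻¹ * t⁻¹ = b := by
        have := hinv b⁻¹ (inv_mem hb)
        rwa [inv_inv] at this
      calc b * t * b⁻¹ = b * (t * b⁻¹ * t⁻¹) * t := by group
        _ = (b * b) * t := by rw [h1]
        _ = (n * t * n⁻¹ * t) * t := by rw [hbb]
        _ = n * t * n⁻¹ * (t * t) := by group
        _ = n * t * n⁻¹ := by rw [ht2, mul_one]
    -- `c := b⁻¹ n ∈ C(t)`
    have hcC : b⁻¹ * n ∈ Subgroup.centralizer ({t} : Set G) := by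
      rw [Subgroup.mem_centralizer_singleton_iff]
      have : b⁻¹ * (b * t * b⁻¹) * b = t := by group
      rw [hbt] at this
      symm
      calc t * (b⁻¹ * n) = (b⁻¹ * (n * t * n⁻¹) * b) * (b⁻¹ * n) := by rw [this]
        _ = b⁻¹ * n * t := by group
    have hcN : b⁻¹ * n ∈ Subgroup.normalizer ((A : Subgroup G) : Set G) :=
      mul_mem (inv_mem (Subgroup.le_normalizer hb)) hn
    have hc2 := hCt2 _ hcC
    by_cases hc1 : b⁻¹ * n = 1
    · left
      have : n = b := by
        have := congrArg (fun x => b * x) hc1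
        simpa using this
      rw [this]; exact hb
    · right
      have hco : orderOf (b⁻¹ * n) = 2 := orderOf_eq_prime (by rw [pow_two]; exact hc2) hc1
      have hctA := hinvtA _ hco hcN
      have hcomm : t * (b⁻¹ * n) = b⁻¹ * n * t := (Subgroup.mem_centralizer_singleton_iff.mp hcC).symm
      have hct2 : (b⁻¹ * n * t) * (b⁻¹ * n * t) = 1 := by
        calc (b⁻¹ * n * t) * (b⁻¹ * n * t) = (b⁻¹ * n) * (t * (b⁻¹ * n)) * t := by group
          _ = (b⁻¹ * n) * (b⁻¹ * n * t) * t := by rw [hcomm]
          _ = ((b⁻¹ * n) * (b⁻¹ * n)) * (t * t) := by group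
          _ = 1 := by rw [hc2, ht2, one_mul]
      have hct1 := hsq1 _ hctA hct2
      have : n * t = b := by
        have := congrArg (fun x => b * x) hct1
        simp only [mul_one] at this
        rw [← this]; group
      rw [this]; exact hb
  -- the index of `A` in `N(A)` is two
  have hAN : (A : Subgroup G) ≤ Subgroup.normalizer ((A : Subgroup G) : Set G) :=
    Subgroup.le_normalizer
  have hidx : ((A : Subgroup G).subgroupOf
      (Subgroup.normalizer ((A : Subgroup G) : Set G))).index = 2 := by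
    rw [Subgroup.index_eq_two_iff]
    refine ⟨⟨t, htN⟩, ?_⟩
    rintro ⟨n, hn⟩
    simp only [Subgroup.mem_subgroupOf, Subgroup.coe_mul]
    rcases hdich n hn with h | h
    · right
      refine ⟨h, fun h' => htA ?_⟩
      have : t = n⁻¹ * (n * t) := by group
      rw [this]
      exact mul_mem (inv_mem h) h'
    · left
      refine ⟨h, fun h' => htA ?_⟩
      have : t = n⁻¹ * (n * t) := by group
      rw [this]
      exact mul_mem (inv_mem h') h
  have hmul := Subgroup.index_mul_card ((A : Subgroup G).subgroupOf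
      (Subgroup.normalizer ((A : Subgroup G) : Set G)))
  rw [hidx, Nat.card_congr (Subgroup.subgroupOfEquivOfLe hAN).toEquiv] at hmul
  exact hmul.symm

end ctx

end Cfsg.Agent.Lib.Helper66.Tp
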