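import Mathlib

set_option autoImplicit false

/-!
Endomorphism-ring computations for automorphisms of order `p` of finite abelian `p`-groups with
Frattini quotient of order `p ^ 2` (used for abelian essential subgroups of rank two).
-/

namespace Cfsg.Agent.Lib.Helper84.AR

variable {A : Type*} [AddCommGroup A]

/-- The subgroup `n A` of multiples of `n`. -/
def nA (A : Type*) [AddCommGroup A] (n : ℕ) : AddSubgroup A := (nsmulAddMonoidHom (α := A) n).range

theorem mem_nA {n : ℕ} {x : A} : x ∈ nA A n ↔ ∃ y : A, n • y = x := Iff.rfl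

theorem nsmul_mem_nA (n : ℕ) (y : A) : n • y ∈ nA A n := ⟨y, rfl⟩

theorem map_mem_nA (f : AddMonoid.End A) {n : ℕ} {x : A} (hx : x ∈ nA A n) : f x ∈ nA A n := by
  obtain ⟨y, rfl⟩ := mem_nA.mp hx
  exact mem_nA.mpr ⟨f y, (map_nsmul f n y).symm⟩

theorem pow_map_mem_nA (f : AddMonoid.End A) (k : ℕ) {n : ℕ} {x : A} (hx : x ∈ nA A n) :
    (f ^ k) x ∈ nA A n := map_mem_nA (f ^ k) hx

theorem natCast_apply' (n : ℕ) (x : A) : ((n : AddMonoid.End A)) x = n • x :=
  AddMonoid.End.natCast_apply n x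

/-- The key step: a nilpotent endomorphism acts trivially on a section of prime order. -/
theorem step {p : ℕ} (hp : p.Prime) {X Y : AddSubgroup A} (hXY : X ≤ Y)
    (hidx : X.relIndex Y = p) (N : AddMonoid.End A) (hNX : ∀ x ∈ X, N x ∈ X)
    (hNY : ∀ y ∈ Y, N y ∈ Y) (hnil : ∃ n : ℕ, ∀ y ∈ Y, (N ^ n) y ∈ X) : ∀ y ∈ Y, N y ∈ X := by
  set B : AddSubgroup A := Y ⊓ X.comap N with hB
  have hXB : X ≤ B := fun x hx => ⟨hXY hx, hNX x hx⟩
  have hBY : B ≤ Y := inf_le_left
  have hmul := AddSubgroup.relIndex_mul_relIndex X B Y hXB hBY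
  rw [hidx] at hmul
  rcases (Nat.dvd_prime hp).mp (Dvd.intro _ hmul) with h1 | h1
  · exfalso
    have hBX : B ≤ X := AddSubgroup.relIndex_eq_one.mp h1
    obtain ⟨n, hn⟩ := hnil
    have key : ∀ n : ℕ, ∀ y ∈ Y, (N ^ n) y ∈ X → y ∈ X := by
      intro n
      induction n with
      | zero => intro y _ h; simpa using h
      | succ n ih =>
        intro y hy h
        rw [pow_succ] at h
        have h' : (N ^ n) (N y) ∈ X := h
        exact hBX ⟨hy, ih (N y) (hNY y hy) h'⟩
    have hYX : Y ≤ X := fun y hy => key n y hy (hn y hy)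
    have h2 : X.relIndex Y = 1 := AddSubgroup.relIndex_eq_one.mpr hYX
    rw [hidx] at h2
    exact hp.one_lt.ne' h2
  · have h2 : B.relIndex Y = 1 := by
      rw [h1] at hmul
      exact Nat.eq_of_mul_eq_mul_left hp.pos (by rw [hmul, mul_one])
    have hYB : Y ≤ B := AddSubgroup.relIndex_eq_one.mp h2
    exact fun y hy => (hYB hy).2


variable {p : ℕ}

theorem one_add_pow_prime (hp : p.Prime) (N : AddMonoid.End A) :
    ∃ r : AddMonoid.End A, (1 + N) ^ p = 1 + N ^ p + (p : AddMonoid.End A) * N * r := by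
  obtain ⟨r, hr⟩ := (Commute.one_left N).exists_add_pow_prime_eq hp
  exact ⟨r, by rw [hr, one_pow, mul_one]⟩

theorem mul_apply' (f g : AddMonoid.End A) (x : A) : (f * g) x = f (g x) := rfl

theorem sub_apply' (f g : AddMonoid.End A) (x : A) : (f - g) x = f x - g x := rfl

theorem neg_apply' (f : AddMonoid.End A) (x : A) : (-f) x = -(f x) := rfl

theorem add_apply' (f g : AddMonoid.End A) (x : A) : (f + g) x = f x + g x := rfl

theorem one_apply' (x : A) : (1 : AddMonoid.End A) x = x := rfl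

/-- If `a ^ p = 1` then `(a - 1) ^ p` maps into `p A`. -/
theorem nil_of_pow_eq_one (hp : p.Prime) (a : AddMonoid.End A) (ha : a ^ p = 1) (x : A) :
    ((a - 1) ^ p) x ∈ nA A p := by
  obtain ⟨r, hr⟩ := one_add_pow_prime hp (a - 1)
  rw [add_sub_cancel, ha, add_assoc] at hr
  have h0 : (a - 1) ^ p + (p : AddMonoid.End A) * (a - 1) * r = 0 := left_eq_add.mp hr
  have h1 : (a - 1) ^ p = -((p : AddMonoid.End A) * (a - 1) * r) := eq_neg_of_add_eq_zero_left h0
  rw [h1, neg_apply', mul_apply', mul_apply', natCast_apply']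
  exact (nA A p).neg_mem (nsmul_mem_nA p _)

/-- If `a ^ p = 1` and `A / p A` has order `p ^ 2` then `(a - 1) ^ 2` maps into `p A`. -/
theorem nil2 (hp : p.Prime) (a : AddMonoid.End A) (ha : a ^ p = 1)
    (hidx : (nA A p).index = p ^ 2) (x : A) : (a - 1) ((a - 1) x) ∈ nA A p := by
  set N : AddMonoid.End A := a - 1 with hN
  set M : AddSubgroup A := (nA A p).comap N with hM
  have hle : nA A p ≤ M := fun y hy => map_mem_nA N hy
  have hmul := AddSubgroup.relIndex_mul_index hle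
  rw [hidx] at hmul
  have hdvd : M.index ∣ p ^ 2 := Dvd.intro_left _ hmul
  obtain ⟨t, ht, hMt⟩ := (Nat.dvd_prime_pow hp).mp hdvd
  have hnil : ∀ y : A, (N ^ p) y ∈ nA A p := nil_of_pow_eq_one hp a ha
  interval_cases t
  · -- index one
    rw [pow_zero, AddSubgroup.index_eq_one] at hMt
    have : N x ∈ M := by rw [hMt]; trivial
    exact AddSubgroup.mem_comap.mp this
  · -- index p
    rw [pow_one] at hMt
    have h1 : ∀ y ∈ (⊤ : AddSubgroup A), N y ∈ M := by
      apply step hp (le_top : M ≤ ⊤) (by rw [AddSubgroup.relIndex_top_right]; exact hMt) N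
      · intro y hy; exact hle hy
      · intro y _; trivial
      · exact ⟨p, fun y _ => hle (hnil y)⟩
    exact AddSubgroup.mem_comap.mp (h1 x trivial)
  · -- index p ^ 2
    exfalso
    rw [hMt] at hmul
    have h1 : (nA A p).relIndex M = 1 := by
      have hpos : 0 < p ^ 2 := pow_pos hp.pos 2
      exact Nat.eq_of_mul_eq_mul_right hpos (by rw [hmul, one_mul])
    have hMle : M ≤ nA A p := AddSubgroup.relIndex_eq_one.mp h1
    have key : ∀ n : ℕ, ∀ y : A, (N ^ n) y ∈ nA A p → y ∈ nA A p := by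
      intro n
      induction n with
      | zero => intro y h; simpa using h
      | succ n ih =>
        intro y h
        rw [pow_succ] at h
        have h' : (N ^ n) (N y) ∈ nA A p := h
        exact hMle (ih (N y) h')
    have htop : nA A p = ⊤ := by
      rw [eq_top_iff]; intro y _; exact key p y (hnil y)
    rw [htop, AddSubgroup.index_top] at hidx
    have : 1 < p ^ 2 := Nat.one_lt_pow (by norm_num) hp.one_lt
    omega


theorem pow_eq_mul_mul (hp : 2 ≤ p) (N : AddMonoid.End A) : N ^ p = N ^ (p - 2) * N * N := by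
  rw [← pow_succ, ← pow_succ]
  congr 1
  omega

/-- If `(b - 1) ^ 2` maps into `p A`, then `b ^ p - 1` maps into `p A`. -/
theorem into_of_sq (hp : p.Prime) (b : AddMonoid.End A)
    (h2 : ∀ x, (b - 1) ((b - 1) x) ∈ nA A p) (x : A) : (b ^ p - 1) x ∈ nA A p := by
  set N : AddMonoid.End A := b - 1 with hN
  obtain ⟨r, hr⟩ := one_add_pow_prime hp N
  have hb : 1 + N = b := by rw [hN, add_sub_cancel]
  rw [hb] at hr
  have h1 : b ^ p - 1 = N ^ p + (p : AddMonoid.End A) * N * r := by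
    rw [hr, add_assoc, add_sub_cancel_left]
  rw [h1, add_apply', mul_apply', mul_apply', natCast_apply']
  refine (nA A p).add_mem ?_ (nsmul_mem_nA p _)
  rw [pow_eq_mul_mul hp.two_le, mul_apply', mul_apply']
  exact pow_map_mem_nA N (p - 2) (h2 x)

/-- If `a - 1` maps into `p A` then `a ^ (p ^ j) - 1` maps into `p ^ (j + 1) A`. -/
theorem pow_sub_one_into (hp : p.Prime) (a : AddMonoid.End A) (h : ∀ x, (a - 1) x ∈ nA A p) :
    ∀ (j : ℕ) (x : A), (a ^ (p ^ j) - 1) x ∈ nA A (p ^ (j + 1)) := by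
  intro j
  induction j with
  | zero =>
    intro x
    simpa using h x
  | succ j ih =>
    intro x
    set b : AddMonoid.End A := a ^ (p ^ j) with hb
    have hbp : a ^ (p ^ (j + 1)) = b ^ p := by rw [hb, ← pow_mul, ← pow_succ]
    set M : AddMonoid.End A := b - 1 with hM
    obtain ⟨r, hr⟩ := one_add_pow_prime hp M
    have hb1 : 1 + M = b := by rw [hM, add_sub_cancel]
    rw [hb1] at hr
    have h1 : b ^ p - 1 = M ^ p + (p : AddMonoid.End A) * M * r := by
      rw [hr, add_assoc, add_sub_cancel_left]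
    rw [hbp, h1, add_apply', mul_apply', mul_apply', natCast_apply']
    refine (nA A (p ^ (j + 1 + 1))).add_mem ?_ ?_
    · rw [pow_eq_mul_mul hp.two_le, mul_apply', mul_apply']
      apply pow_map_mem_nA
      obtain ⟨u, hu⟩ := mem_nA.mp (ih x)
      rw [← hu, map_nsmul]
      obtain ⟨v, hv⟩ := mem_nA.mp (ih u)
      rw [← hv]
      refine mem_nA.mpr ⟨p ^ j • v, ?_⟩
      rw [← mul_nsmul, ← mul_nsmul]
      congr 1
      ring
    · obtain ⟨u, hu⟩ := mem_nA.mp (ih (r x))
      rw [← hu]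
      refine mem_nA.mpr ⟨u, ?_⟩
      rw [← mul_nsmul]
      congr 1

/-- If `a - 1` maps into `p A` and `p ^ m` kills `A`, then `a ^ (p ^ m) = 1`. -/
theorem pow_eq_one_of_into (hp : p.Prime) (a : AddMonoid.End A) (h : ∀ x, (a - 1) x ∈ nA A p)
    (m : ℕ) (hm : ∀ x : A, p ^ m • x = 0) : a ^ (p ^ m) = 1 := by
  ext x
  obtain ⟨y, hy⟩ := mem_nA.mp (pow_sub_one_into hp a h m x)
  rw [sub_apply', one_apply'] at hy
  have h0 : p ^ (m + 1) • y = 0 := by
    rw [pow_succ, mul_comm, mul_nsmul, hm]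
  rw [h0] at hy
  rw [one_apply']
  exact (sub_eq_zero.mp hy.symm)


/-- Evaluation at a point, as an additive map on the endomorphism ring. -/
def evHom (x : A) : AddMonoid.End A →+ A where
  toFun f := f x
  map_zero' := rfl
  map_add' _ _ := rfl

theorem sum_apply' {ι : Type*} (s : Finset ι) (g : ι → AddMonoid.End A) (x : A) :
    (∑ k ∈ s, g k) x = ∑ k ∈ s, (g k) x := map_sum (evHom x) g s

open Finset in
/-- For `p ≥ 5`: if `a ^ p = 1`, `(a - 1) ^ 2` maps into `p A` and the elements of order `p` lie in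
`p A`, then `a - 1` maps into `p A`. -/
theorem into_of_large_prime (hp : p.Prime) (h5 : 5 ≤ p) (a : AddMonoid.End A) (ha : a ^ p = 1)
    (h2 : ∀ x, (a - 1) ((a - 1) x) ∈ nA A p) (hΩ : ∀ x : A, p • x = 0 → x ∈ nA A p) (x : A) :
    (a - 1) x ∈ nA A p := by
  set N : AddMonoid.End A := a - 1 with hN
  have haN : N + 1 = a := by rw [hN, sub_add_cancel]
  have e := (Commute.one_right N).add_pow_prime_eq' hp
  rw [haN, ha, one_pow] at e
  set S : AddMonoid.End A :=
    ∑ k ∈ Ioo 0 p, N ^ k * 1 ^ (p - k) * ((p.choose k / p : ℕ) : AddMonoid.End A) with hS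
  have h0 : N ^ p + (p : AddMonoid.End A) * S = 0 := by
    rw [add_right_comm] at e
    exact right_eq_add.mp e
  -- the sum `S x` is `N x` modulo `p A`
  have hSx : S x - N x ∈ nA A p := by
    have hsplit : Ioo 0 p = insert 1 (Ioo 1 p) := by
      ext k
      simp only [mem_Ioo, mem_insert]
      have := hp.two_le
      omega
    have hnot : (1 : ℕ) ∉ Ioo 1 p := by simp
    rw [hS, hsplit, sum_insert hnot, add_apply']
    have hterm : ((N ^ 1 * 1 ^ (p - 1) * ((p.choose 1 / p : ℕ) : AddMonoid.End A) :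
        AddMonoid.End A)) x = N x := by
      rw [Nat.choose_one_right, Nat.div_self hp.pos, pow_one, one_pow, mul_one, Nat.cast_one,
        mul_one]
    rw [hterm, add_sub_cancel_left]
    rw [sum_apply']
    apply AddSubgroup.sum_mem
    intro k hk
    have hk2 : 2 ≤ k := by have := (mem_Ioo.mp hk).1; omega
    rw [one_pow, mul_one, mul_apply', natCast_apply']
    have hpow : N ^ k = N ^ (k - 2) * N * N := pow_eq_mul_mul hk2 N
    rw [hpow, mul_apply', mul_apply']
    exact pow_map_mem_nA N (k - 2) (h2 _)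
  -- `N ^ p x` lies in `p ^ 2 A`
  have hNp : ∃ v : A, (N ^ p) x = p • (p • v) := by
    have hp4 : N ^ p = N ^ (p - 4) * (N * N) * (N * N) := by
      have : p = (p - 4) + 2 + 2 := by omega
      conv_lhs => rw [this]
      rw [pow_add, pow_add, pow_two]
    obtain ⟨u, hu⟩ := mem_nA.mp (h2 x)
    obtain ⟨v, hv⟩ := mem_nA.mp (h2 u)
    refine ⟨(N ^ (p - 4)) v, ?_⟩
    rw [hp4, mul_apply', mul_apply', mul_apply', mul_apply', ← hu, map_nsmul, map_nsmul, ← hv,
      map_nsmul, map_nsmul]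
  obtain ⟨v, hv⟩ := hNp
  obtain ⟨w, hw⟩ := mem_nA.mp hSx
  have h1 : (N ^ p) x + p • (S x) = 0 := by
    have := congrArg (fun f : AddMonoid.End A => f x) h0
    simpa [add_apply', mul_apply', natCast_apply'] using this
  have hSx' : S x = N x + p • w := by rw [hw]; abel
  rw [hv, hSx', nsmul_add] at h1
  -- `p • (N x + p • v + p • w) = 0`
  have h3 : p • (N x + p • v + p • w) = 0 := by
    rw [nsmul_add, nsmul_add]
    rw [← h1]
    abel
  have h4 := hΩ _ h3
  have h5' : N x = (N x + p • v + p • w) - p • (v + w) := by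
    rw [nsmul_add]; abel
  rw [h5']
  exact (nA A p).sub_mem h4 (nsmul_mem_nA p _)


/-- Nongenerators: a subgroup that together with `p A` generates a `p`-group `A` is all of `A`. -/
theorem eq_top_of_sup_nA_eq_top (m : ℕ) (hm : ∀ x : A, p ^ m • x = 0) (C : AddSubgroup A)
    (h : C ⊔ nA A p = ⊤) : C = ⊤ := by
  have key : ∀ j : ℕ, ∀ z : A, ∃ c ∈ C, ∃ w : A, z = c + p ^ j • w := by
    intro j
    induction j with
    | zero => intro z; exact ⟨0, C.zero_mem, z, by simp⟩
    | succ j ih =>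
      intro z
      obtain ⟨c, hc, w, hw⟩ := ih z
      have hw' : w ∈ C ⊔ nA A p := by rw [h]; trivial
      obtain ⟨c', hc', u, hu, hcu⟩ := AddSubgroup.mem_sup.mp hw'
      obtain ⟨w', hw'⟩ := mem_nA.mp hu
      refine ⟨c + p ^ j • c', C.add_mem hc (C.nsmul_mem hc' _), w', ?_⟩
      rw [hw, ← hcu, ← hw', nsmul_add, pow_succ, mul_nsmul', add_assoc]
  rw [eq_top_iff]
  intro z _
  obtain ⟨c, hc, w, hw⟩ := key m z
  rw [hm, add_zero] at hw
  rw [hw]; exact hc

theorem dvd_of_nsmul_mem (hp : p.Prime) {y : A} (hy : y ∉ nA A p) {n : ℕ}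
    (h : n • y ∈ nA A p) : p ∣ n := by
  by_contra hn
  have hcop : Nat.Coprime n p := (Nat.Coprime.symm ((Nat.Prime.coprime_iff_not_dvd hp).mpr hn))
  obtain ⟨u, -, hu⟩ := Nat.exists_mul_mod_eq_one_of_coprime hcop hp.one_lt
  have h1 : n * u = p * (n * u / p) + 1 := by
    have := Nat.div_add_mod (n * u) p
    omega
  apply hy
  have h2 : (n * u) • y ∈ nA A p := by
    rw [mul_nsmul]
    exact (nA A p).nsmul_mem h u
  rw [h1, add_nsmul, one_nsmul, mul_nsmul'] at h2
  have h3 : p • ((n * u / p) • y) ∈ nA A p := nsmul_mem_nA p _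
  have := (nA A p).sub_mem h2 h3
  rwa [add_sub_cancel_left] at this


theorem index_eq_one_of_chain (hp : p.Prime) {i1 i2 i3 : ℕ} (h : i1 * i2 * i3 = p ^ 2)
    (h1 : i1 ≠ 1) (h2 : i2 ≠ 1) : i3 = 1 := by
  have d1 : i1 ∣ p ^ 2 := ⟨i2 * i3, by rw [← h, mul_assoc]⟩
  have d2 : i2 ∣ p ^ 2 := ⟨i1 * i3, by rw [← h]; ring⟩
  have d3 : i3 ∣ p ^ 2 := ⟨i1 * i2, by rw [← h]; ring⟩
  obtain ⟨a, _, rfl⟩ := (Nat.dvd_prime_pow hp).mp d1
  obtain ⟨b, _, rfl⟩ := (Nat.dvd_prime_pow hp).mp d2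
  obtain ⟨c, _, rfl⟩ := (Nat.dvd_prime_pow hp).mp d3
  rw [← pow_add, ← pow_add] at h
  have h3 := Nat.pow_right_injective hp.two_le h
  have ha : a ≠ 0 := fun h0 => h1 (by rw [h0, pow_zero])
  have hb : b ≠ 0 := fun h0 => h2 (by rw [h0, pow_zero])
  have hc : c = 0 := by omega
  rw [hc, pow_zero]

/-- A homocyclic group of rank two is a product of two cyclic groups of the same order. -/
theorem exists_equiv_zmod_sq (hp : p.Prime) (k : ℕ) (hk : 1 ≤ k) (hexp : ∀ x : A, p ^ k • x = 0)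
    (hL : ∀ x : A, p ^ (k - 1) • x = 0 → x ∈ nA A p) (hidx : (nA A p).index = p ^ 2)
    (N : AddMonoid.End A) (hN2 : ∀ x, N (N x) ∈ nA A p) (x : A) (hx : N x ∉ nA A p) :
    Nonempty ((ZMod (p ^ k) × ZMod (p ^ k)) ≃+ A) := by
  obtain ⟨y, hy⟩ : ∃ y : A, y = N x := ⟨_, rfl⟩
  rw [← hy] at hx
  have hNy : N y ∈ nA A p := by rw [hy]; exact hN2 x
  -- independence modulo `p A`
  have hind : ∀ m n : ℕ, m • x + n • y ∈ nA A p → p ∣ m ∧ p ∣ n := by
    intro m n h
    have h1 : N (m • x + n • y) ∈ nA A p := map_mem_nA N h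
    rw [map_add, map_nsmul, map_nsmul] at h1
    have h2 : n • N y ∈ nA A p := (nA A p).nsmul_mem hNy n
    have h3 : m • y ∈ nA A p := by
      have := (nA A p).sub_mem h1 h2
      rwa [add_sub_cancel_right, ← hy] at this
    have hm : p ∣ m := dvd_of_nsmul_mem hp hx h3
    obtain ⟨m', rfl⟩ := hm
    have h4 : (p * m') • x ∈ nA A p := by rw [mul_nsmul']; exact nsmul_mem_nA p _
    have h5 : n • y ∈ nA A p := by
      have := (nA A p).sub_mem h h4
      rwa [add_sub_cancel_left] at this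
    exact ⟨dvd_mul_right p m', dvd_of_nsmul_mem hp hx h5⟩
  -- divisibility
  have hdiv : ∀ j : ℕ, j ≤ k → ∀ m n : ℕ, m • x + n • y = 0 → p ^ j ∣ m ∧ p ^ j ∣ n := by
    intro j
    induction j with
    | zero => intro _ m n _; simp
    | succ j ih =>
      intro hj m n h
      obtain ⟨⟨m', rfl⟩, ⟨n', rfl⟩⟩ := ih (by omega) m n h
      have h1 : p ^ j • (m' • x + n' • y) = 0 := by
        rw [nsmul_add, ← mul_nsmul', ← mul_nsmul']; exact h
      have h2 : p ^ (k - 1) • (m' • x + n' • y) = 0 := by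
        have : k - 1 = (k - 1 - j) + j := by omega
        rw [this, pow_add, mul_nsmul', h1, nsmul_zero]
      obtain ⟨hm, hn⟩ := hind m' n' (hL _ h2)
      exact ⟨by rw [pow_succ]; exact Nat.mul_dvd_mul_left _ hm,
        by rw [pow_succ]; exact Nat.mul_dvd_mul_left _ hn⟩
  -- generation
  set Y1 : AddSubgroup A := nA A p ⊔ AddSubgroup.zmultiples y with hY1
  set Y2 : AddSubgroup A := Y1 ⊔ AddSubgroup.zmultiples x with hY2
  have hyY1 : y ∈ Y1 := (le_sup_right : AddSubgroup.zmultiples y ≤ Y1) (AddSubgroup.mem_zmultiples y)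
  have hxY2 : x ∈ Y2 := (le_sup_right : AddSubgroup.zmultiples x ≤ Y2) (AddSubgroup.mem_zmultiples x)
  have hxY1 : x ∉ Y1 := by
    intro hmem
    obtain ⟨u, hu, v, hv, huv⟩ := AddSubgroup.mem_sup.mp hmem
    obtain ⟨n, rfl⟩ := AddSubgroup.mem_zmultiples_iff.mp hv
    apply hx
    rw [hy, ← huv, map_add, map_zsmul]
    exact (nA A p).add_mem (map_mem_nA N hu) ((nA A p).zsmul_mem hNy n)
  have hle1 : nA A p ≤ Y1 := le_sup_left
  have hle2 : Y1 ≤ Y2 := le_sup_left
  have hmul : (nA A p).relIndex Y1 * Y1.relIndex Y2 * Y2.index = p ^ 2 := by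
    rw [AddSubgroup.relIndex_mul_relIndex _ _ _ hle1 hle2,
      AddSubgroup.relIndex_mul_index (hle1.trans hle2), hidx]
  have hi1 : (nA A p).relIndex Y1 ≠ 1 := fun h => hx (AddSubgroup.relIndex_eq_one.mp h hyY1)
  have hi2 : Y1.relIndex Y2 ≠ 1 := fun h => hxY1 (AddSubgroup.relIndex_eq_one.mp h hxY2)
  have hY2top : Y2 = ⊤ := AddSubgroup.index_eq_one.mp (index_eq_one_of_chain hp hmul hi1 hi2)
  set C : AddSubgroup A := AddSubgroup.zmultiples x ⊔ AddSubgroup.zmultiples y with hC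
  have hCtop : C = ⊤ := by
    apply eq_top_of_sup_nA_eq_top k hexp
    rw [← hY2top, hY2, hY1, hC]
    ac_rfl
  -- the map
  have hxk : (zmultiplesHom A x) ((p ^ k : ℕ) : ℤ) = 0 := by
    rw [zmultiplesHom_apply, natCast_zsmul, hexp]
  have hyk : (zmultiplesHom A y) ((p ^ k : ℕ) : ℤ) = 0 := by
    rw [zmultiplesHom_apply, natCast_zsmul, hexp]
  set f1 : ZMod (p ^ k) →+ A := ZMod.lift (p ^ k) ⟨zmultiplesHom A x, hxk⟩ with hf1
  set f2 : ZMod (p ^ k) →+ A := ZMod.lift (p ^ k) ⟨zmultiplesHom A y, hyk⟩ with hf2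
  have : NeZero (p ^ k) := ⟨pow_ne_zero k hp.ne_zero⟩
  have hf1v : ∀ s : ZMod (p ^ k), f1 s = s.val • x := by
    intro s
    have h1 : s = ((s.val : ℤ) : ZMod (p ^ k)) := by
      rw [Int.cast_natCast, ZMod.natCast_zmod_val]
    conv_lhs => rw [h1]
    rw [hf1, ZMod.lift_coe]
    show (zmultiplesHom A x) (s.val : ℤ) = _
    rw [zmultiplesHom_apply, natCast_zsmul]
  have hf2v : ∀ s : ZMod (p ^ k), f2 s = s.val • y := by
    intro s
    have h1 : s = ((s.val : ℤ) : ZMod (p ^ k)) := by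
      rw [Int.cast_natCast, ZMod.natCast_zmod_val]
    conv_lhs => rw [h1]
    rw [hf2, ZMod.lift_coe]
    show (zmultiplesHom A y) (s.val : ℤ) = _
    rw [zmultiplesHom_apply, natCast_zsmul]
  set φ : ZMod (p ^ k) × ZMod (p ^ k) →+ A := f1.coprod f2 with hφ
  have hφv : ∀ s t : ZMod (p ^ k), φ (s, t) = s.val • x + t.val • y := by
    intro s t
    rw [hφ, AddMonoidHom.coprod_apply, hf1v, hf2v]
  have hinj : Function.Injective φ := by
    rw [injective_iff_map_eq_zero]
    rintro ⟨s, t⟩ hst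
    rw [hφv] at hst
    obtain ⟨h1, h2⟩ := hdiv k le_rfl _ _ hst
    have hs : s.val = 0 := Nat.eq_zero_of_dvd_of_lt h1 (ZMod.val_lt s)
    have ht : t.val = 0 := Nat.eq_zero_of_dvd_of_lt h2 (ZMod.val_lt t)
    rw [ZMod.val_eq_zero] at hs ht
    rw [hs, ht]; rfl
  have hsurj : Function.Surjective φ := by
    rw [← AddMonoidHom.range_eq_top, eq_top_iff, ← hCtop, hC]
    apply sup_le
    · rw [AddSubgroup.zmultiples_le]
      refine ⟨(1, 0), ?_⟩
      rw [hφv]
      by_cases hk1 : p ^ k = 1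
      · -- impossible as `k ≥ 1`
        exfalso
        have : 1 < p ^ k := Nat.one_lt_pow (by omega) hp.one_lt
        omega
      · haveI : Fact (1 < p ^ k) := ⟨by have := Nat.pos_of_ne_zero (pow_ne_zero k hp.ne_zero); omega⟩
        rw [ZMod.val_one, ZMod.val_zero, one_nsmul, zero_nsmul, add_zero]
    · rw [AddSubgroup.zmultiples_le]
      refine ⟨(0, 1), ?_⟩
      rw [hφv]
      haveI : Fact (1 < p ^ k) := ⟨Nat.one_lt_pow (by omega) hp.one_lt⟩
      rw [ZMod.val_one, ZMod.val_zero, one_nsmul, zero_nsmul, zero_add]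
  exact ⟨AddEquiv.ofBijective φ ⟨hinj, hsurj⟩⟩

end Cfsg.Agent.Lib.Helper84.AR
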