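import Cfsg.Agent.Lib.Helper84.BCExt

/-!
# Claim E of the BCGLO criterion: restrictions of maps defined on larger subgroups extend to `P1`
-/

set_option autoImplicit false
set_option linter.style.haveILetI false
set_option linter.unusedSectionVars false

namespace Cfsg.Agent.Lib.Helper84.BC

open Cfsg Cfsg.FusionSystem Cfsg.Agent.Lib.Helper87 Cfsg.Agent.Lib.Helper85
open Cfsg.Agent.Lib.Helper84.KN

variable {Ω : Type*} [Group Ω] {S : Subgroup Ω}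

variable [Finite S] {p : ℕ} [Fact p.Prime] {F : FusionSystem S} {ℋ : Set (Subgroup Ω)}
  {Ph : Subgroup Ω} {K : Subgroup (MulAut Ph)}

/-- The twist of `exists_extension` is induced, on `Ph`, by an element of `S`. -/
theorem cover (h2 : Ctx2 F p ℋ Ph K) {R : Subgroup Ω} (hPR : Ph ≤ R) (hRS : R ≤ S)
    {φ₀ : R →* Ω} (h₀ : GoodMark F p R (stabK R Ph hPR K) φ₀) {χ : MulAut R}
    (hχ : χ ∈ stabK R Ph hPR K ⊓ F.autGroup R) :
    ∃ y ∈ S, ∀ x : Ph, φ₀ (χ ⟨x, hPR x.2⟩) = y * φ₀ ⟨x, hPR x.2⟩ * y⁻¹ := by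
  haveI : Finite R := finite_of_le hRS
  obtain ⟨T, hT⟩ := h₀.syl
  let N : Subgroup ↥(stabK R Ph hPR K ⊓ F.autGroup R) :=
    { carrier := {a | ∀ x : Ph, (a : MulAut R) ⟨x, hPR x.2⟩ = ⟨x, hPR x.2⟩}
      one_mem' := fun x => rfl
      mul_mem' := by
        intro a b ha hb x
        show (a : MulAut R) ((b : MulAut R) ⟨x, hPR x.2⟩) = _
        rw [hb x, ha x]
      inv_mem' := by
        intro a ha x
        show (a : MulAut R)⁻¹ ⟨x, hPR x.2⟩ = _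
        have h1 : (a : MulAut R)⁻¹ ((a : MulAut R) ⟨x, hPR x.2⟩) = ⟨x, hPR x.2⟩ := by simp
        rw [ha x] at h1
        exact h1 }
  have hNmem : ∀ a : ↥(stabK R Ph hPR K ⊓ F.autGroup R),
      a ∈ N ↔ ∀ x : Ph, (a : MulAut R) ⟨x, hPR x.2⟩ = ⟨x, hPR x.2⟩ := fun a => Iff.rfl
  haveI : N.Normal := by
    constructor
    intro n hn g
    rw [hNmem]
    intro x
    show (g : MulAut R) ((n : MulAut R) ((g : MulAut R)⁻¹ ⟨x, hPR x.2⟩)) = _
    have hg' : (g : MulAut R)⁻¹ ∈ stabK R Ph hPR K := Subgroup.inv_mem _ g.2.1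
    have h1 := stabK_apply_mem hg' x
    have h2' : (g : MulAut R)⁻¹ ⟨x, hPR x.2⟩ = ⟨_, hPR h1⟩ := rfl
    rw [h2', (hNmem n).mp hn ⟨_, h1⟩, ← h2']
    simp
  have hpow : ∀ a : ↥(stabK R Ph hPR K ⊓ F.autGroup R), ∃ m : ℕ, a ^ p ^ m ∈ N := by
    intro a
    obtain ⟨k, hkK, hk⟩ := a.2.1
    obtain ⟨m, hm⟩ := h2.hKp ⟨k, hkK⟩
    have hkm : k ^ p ^ m = 1 := by
      have := congrArg Subtype.val hm
      simpa using this
    refine ⟨m, ?_⟩
    rw [hNmem]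
    intro x
    apply Subtype.ext
    have h3 := pow_restrict hPR (a : MulAut R) k hk (p ^ m) x
    rw [hkm] at h3
    have h4 : ((a ^ p ^ m : ↥(stabK R Ph hPR K ⊓ F.autGroup R)) : MulAut R) =
        (a : MulAut R) ^ p ^ m := rfl
    rw [h4, h3]
    rfl
  obtain ⟨t, ht, n, hn, hχtn⟩ := sylow_mul_normal T N hpow ⟨χ, hχ⟩
  obtain ⟨-, y, hyS, hy⟩ := (hT t).mp ht
  refine ⟨y, hyS, fun x => ?_⟩
  have h5 : χ = (t : MulAut R) * (n : MulAut R) := congrArg Subtype.val hχtn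
  have h6 : χ ⟨x, hPR x.2⟩ = (t : MulAut R) ⟨x, hPR x.2⟩ := by
    rw [h5]
    show (t : MulAut R) ((n : MulAut R) ⟨x, hPR x.2⟩) = _
    rw [(hNmem n).mp hn x]
  rw [h6, hy]

/-- Composition `ψ₃ ∘ c_{y⁻¹} ∘ ψ`, where `ψ` agrees on `Ph` with `c_y ∘ g` for a parametrization
`g` of `Pt`. -/
theorem exists_lam {D : Subgroup Ω} {ψ : D →* Ω} (hψ : ψ ∈ F.Hom D)
    (hDN : D ≤ normalizerIn S Ph) (hPD : Ph ≤ D) {Pt : Subgroup Ω} [Finite Pt]
    {ψ₃ : ↥(normalizerIn S Pt) →* Ω} (hψ₃ : ψ₃ ∈ F.Hom (normalizerIn S Pt)) {y : Ω} (hyS : y ∈ S)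
    (g : Ph → Ω) (hg : ∀ x, g x ∈ Pt) (hgsurj : ∀ w ∈ Pt, ∃ x, g x = w)
    (hψy : ∀ x : Ph, ψ ⟨x, hPD x.2⟩ = y * g x * y⁻¹) :
    ∃ lam ∈ F.Hom D, ∀ (x : Ph) (h : g x ∈ normalizerIn S Pt),
      lam ⟨x, hPD x.2⟩ = ψ₃ ⟨g x, h⟩ := by
  have hc : conjHom ψ.range y⁻¹ ∈ F.Hom ψ.range := F.conj_mem (range_le F hψ) (S.inv_mem hyS)
  obtain ⟨μ, hμ, hμe⟩ := comp_mem' F hψ hc (fun x => ⟨x, rfl⟩)
  have hμe' : ∀ x : D, μ x = y⁻¹ * ψ x * y := by
    intro x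
    rw [hμe]
    show y⁻¹ * ψ x * y⁻¹⁻¹ = _
    rw [inv_inv]
  have hμP : ∀ x : Ph, μ ⟨x, hPD x.2⟩ = g x := by
    intro x
    rw [hμe', hψy]
    group
  have hm : ∀ dd : D, μ dd ∈ normalizerIn S Pt := by
    intro dd
    refine ⟨hom_mem_S F hμ dd, ?_⟩
    apply mem_normalizer_of_conj_mem
    intro w hw
    obtain ⟨x, rfl⟩ := hgsurj w hw
    have hdN : (dd : Ω) ∈ Subgroup.normalizer (Ph : Set Ω) := (hDN dd.2).2
    have hmem : (dd : Ω) * (x : Ω) * (dd : Ω)⁻¹ ∈ Ph :=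
      (Subgroup.mem_normalizer_iff.mp hdN _).mp x.2
    have e : μ dd * μ ⟨x, hPD x.2⟩ * (μ dd)⁻¹ = μ ⟨(dd : Ω) * (x : Ω) * (dd : Ω)⁻¹, hPD hmem⟩ := by
      rw [← map_inv, ← map_mul, ← map_mul]
      rfl
    rw [← hμP x, e, hμP ⟨_, hmem⟩]
    exact hg _
  obtain ⟨lam, hlam, hlame⟩ := comp_mem' F hμ hψ₃ hm
  refine ⟨lam, hlam, fun x h => ?_⟩
  rw [hlame]
  congr 1
  exact Subtype.ext (hμP x)

theorem claimE (h2 : Ctx2 F p ℋ Ph K) :
    ∀ d : ℕ, ∀ (R : Subgroup Ω) (θ : R →* Ω), Nat.card S - Nat.card R = d → θ ∈ F.Hom R →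
      ∀ hPR : Ph ≤ R, R ≤ normalizerIn S Ph → Nat.card Ph < Nat.card R →
      ∀ α : MulAut Ph, (∀ x : Ph, θ ⟨x, hPR x.2⟩ = α x) →
        α ∈ extB F Ph (P1 S Ph K) h2.le_P1 := by
  intro d
  induction d using Nat.strong_induction_on with
  | _ d ih =>
  intro R θ hd hθ hPR hRN hlt α hα
  have hS := h2.c.hS
  have hPhS := h2.hPh
  have hRS : R ≤ S := hom_le F hθ
  have hNhS : normalizerIn S Ph ≤ S := normalizerIn_le S Ph
  haveI : Finite R := finite_of_le hRS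
  haveI : Finite Ph := finite_of_le hPhS
  haveI : Finite (normalizerIn S Ph) := finite_of_le hNhS
  haveI : Finite (P1 S Ph K) := finite_of_le (P1_le_S Ph K)
  have hNhp : IsPGroup p (normalizerIn S Ph) := hS.to_le hNhS
  have hαA : α ∈ F.autGroup Ph := mem_autGroup_of_map hθ hPR hα
  have hinjθ := F.injective_of_mem hθ
  by_cases hP1R : P1 S Ph K ≤ R
  · exact mem_extB_of_map h2 hθ hP1R (fun x => hα x)
  · obtain ⟨φ₀, h₀⟩ := exists_goodMark' hS F hRS (h2.c.big R hRS hlt) (stabK R Ph hPR K)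
    have hinj₀ := F.injective_of_mem h₀.mem
    obtain ⟨χ₁, hχ₁, ψ₁, hψ₁, hψ₁e⟩ := exists_extension hS F h₀ (subtype_mem F hRS)
    obtain ⟨χ₂, hχ₂, ψ₂, hψ₂, hψ₂e⟩ := exists_extension hS F h₀ hθ
    obtain ⟨y₁, hy₁S, hy₁⟩ := cover h2 hPR hRS h₀ hχ₁
    obtain ⟨y₂, hy₂S, hy₂⟩ := cover h2 hPR hRS h₀ hχ₂
    -- `Pt` and Lemma A
    have hPtconj : F.IsConj Ph (im φ₀ hPR) := ⟨_, restrict_mem F h₀.mem hPR, rfl⟩
    obtain ⟨ψ₃, hψ₃, hψ₃e⟩ := lemmaA h2.c h2.hfn rfl h2.hPhH (isConj_symm F hPtconj)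
    have hPtS := isConj_le_right F hPtconj
    haveI : Finite (im φ₀ hPR) := finite_of_le hPtS
    have hP1N : P1 S Ph K ≤ normalizerIn S Ph := P1_le_normalizerIn Ph K
    have hNP1 := h2.normalizerIn_le_normalizer_P1
    -- the first domain
    have hRD₁ : R ≤ nk S R (stabK R Ph hPR K) R.subtype ⊔ R.subtype.range := by
      intro x hx
      exact le_sup_right (a := nk S R (stabK R Ph hPR K) R.subtype)
        (show x ∈ R.subtype.range from ⟨⟨x, hx⟩, rfl⟩)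
    have hD₁N : nk S R (stabK R Ph hPR K) R.subtype ⊔ R.subtype.range ≤ normalizerIn S Ph := by
      apply sup_le
      · intro y hy
        obtain ⟨h1, -, k, -, hk⟩ := exists_of_mem_nk_stabK hPR K hy
        refine ⟨h1, ?_⟩
        apply mem_normalizer_of_conj_mem
        intro w hw
        have := hk ⟨w, hw⟩
        show y * w * y⁻¹ ∈ Ph
        have e : y * w * y⁻¹ = ((k ⟨w, hw⟩ : Ph) : Ω) := this
        rw [e]
        exact (k _).2
      · rw [Subgroup.range_subtype]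
        exact hRN
    have hD₁S := hD₁N.trans hNhS
    haveI : Finite ↥(nk S R (stabK R Ph hPR K) R.subtype ⊔ R.subtype.range) := finite_of_le hD₁S
    have hlt₁ : Nat.card R < Nat.card ↥(nk S R (stabK R Ph hPR K) R.subtype ⊔ R.subtype.range) := by
      have hnot : ¬ (P1 S Ph K ⊓ Subgroup.normalizer (R : Set Ω) ≤ R) := fun hle =>
        hP1R (le_of_normalizer_inf_le hNhp hRN hP1N hNP1 hle)
      obtain ⟨g, hg, hgR⟩ := SetLike.not_le_iff_exists.mp hnot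
      obtain ⟨hgS, k, hkK, hk⟩ := mem_P1.mp hg.1
      have hgnk : g ∈ nk S R (stabK R Ph hPR K) R.subtype := by
        apply mem_nk_stabK hPR K R.subtype_injective hgS
        · rw [Subgroup.range_subtype]
          exact hg.2
        · exact ⟨k, hkK, fun v => hk v⟩
      by_contra hcon
      have heq := Subgroup.eq_of_le_of_card_ge hRD₁ (not_lt.mp hcon)
      apply hgR
      rw [heq]
      exact le_sup_left (b := R.subtype.range) hgnk
    -- `θ` maps `Ph` onto `Ph`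
    have hθP : ∀ v : Ph, θ ⟨v, hPR v.2⟩ ∈ Ph := fun v => by rw [hα]; exact (α v).2
    have hθP' : ∀ v : Ph, (v : Ω) = θ ⟨α⁻¹ v, hPR (α⁻¹ v).2⟩ := by
      intro v
      rw [hα]
      simp
    have himθ : im θ hPR = Ph := im_eq_of_card hPR hinjθ hθP le_rfl
    -- the second domain
    have hYN : θ.range ≤ normalizerIn S Ph := by
      rintro _ ⟨x, rfl⟩
      refine ⟨hom_mem_S F hθ x, ?_⟩
      have h1 : (x : Ω) ∈ Subgroup.normalizer (Ph : Set Ω) := (hRN x.2).2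
      haveI : Finite (im θ hPR) := by rw [himθ]; infer_instance
      have := map_mem_normalizer_im hPR θ x h1
      rwa [himθ] at this
    have hcardY : Nat.card R = Nat.card θ.range := card_eq_of_isConj F ⟨θ, hθ, rfl⟩
    have hRD₂ : ∀ x : R, θ x ∈ nk S R (stabK R Ph hPR K) θ ⊔ θ.range := fun x =>
      le_sup_right (a := nk S R (stabK R Ph hPR K) θ) (show θ x ∈ θ.range from ⟨x, rfl⟩)
    have hPD₂ : Ph ≤ nk S R (stabK R Ph hPR K) θ ⊔ θ.range := by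
      intro v hv
      have e : v = θ ⟨α⁻¹ ⟨v, hv⟩, hPR (α⁻¹ ⟨v, hv⟩).2⟩ := hθP' ⟨v, hv⟩
      rw [e]
      exact hRD₂ _
    have hD₂N : nk S R (stabK R Ph hPR K) θ ⊔ θ.range ≤ normalizerIn S Ph := by
      apply sup_le
      · intro y hy
        obtain ⟨h1, -, k, -, hk⟩ := exists_of_mem_nk_stabK hPR K hy
        refine ⟨h1, ?_⟩
        apply mem_normalizer_of_conj_mem
        intro w hw
        have e : w = θ ⟨α⁻¹ ⟨w, hw⟩, hPR (α⁻¹ ⟨w, hw⟩).2⟩ := hθP' ⟨w, hw⟩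
        rw [e, hk]
        exact hθP _
      · exact hYN
    have hD₂S := hD₂N.trans hNhS
    haveI : Finite ↥(nk S R (stabK R Ph hPR K) θ ⊔ θ.range) := finite_of_le hD₂S
    -- the two composites
    obtain ⟨lam₁, hlam₁, hlam₁e⟩ := exists_lam hψ₁ hD₁N (hPR.trans hRD₁) hψ₃ hy₁S
      (fun x => φ₀ ⟨x, hPR x.2⟩) (fun x => mem_im φ₀ hPR x)
      (by rintro _ ⟨x, rfl⟩; exact ⟨x, rfl⟩)
      (fun x => by
        have := hψ₁e ⟨x, hPR x.2⟩ (hRD₁ (hPR x.2))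
        rw [← hy₁ x, ← this]
        rfl)
    obtain ⟨lam₂, hlam₂, hlam₂e⟩ := exists_lam hψ₂ hD₂N hPD₂ hψ₃ hy₂S
      (fun x => φ₀ ⟨α⁻¹ x, hPR (α⁻¹ x).2⟩) (fun x => mem_im φ₀ hPR (α⁻¹ x))
      (by
        rintro _ ⟨x, rfl⟩
        refine ⟨α x, ?_⟩
        have e : α⁻¹ (α x) = x := by simp
        show φ₀ ⟨(α⁻¹ (α x) : Ph), _⟩ = φ₀ (Subgroup.inclusion hPR x)
        congr 1
        exact Subtype.ext (congrArg (fun t : Ph => (t : Ω)) e))
      (fun x => by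
        have := hψ₂e ⟨α⁻¹ x, hPR (α⁻¹ x).2⟩ (hRD₂ _)
        rw [← hy₂ (α⁻¹ x), ← this]
        congr 1
        exact Subtype.ext (hθP' x))
    have hPtN : ∀ x : Ph, φ₀ ⟨x, hPR x.2⟩ ∈ normalizerIn S (im φ₀ hPR) := fun x =>
      le_normalizerIn hPtS (mem_im φ₀ hPR x)
    obtain ⟨a₁, ha₁A, ha₁⟩ := exists_aut_of_map F hlam₁ (hPR.trans hRD₁) (fun x => by
      rw [hlam₁e x (hPtN x)]
      exact hψ₃e ⟨_, mem_im φ₀ hPR x⟩ _)
    obtain ⟨a₂, ha₂A, ha₂⟩ := exists_aut_of_map F hlam₂ hPD₂ (fun x => by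
      rw [hlam₂e x (hPtN (α⁻¹ x))]
      exact hψ₃e ⟨_, mem_im φ₀ hPR (α⁻¹ x)⟩ _)
    have hcardS₁ : Nat.card ↥(nk S R (stabK R Ph hPR K) R.subtype ⊔ R.subtype.range) ≤ Nat.card S :=
      Subgroup.card_le_of_le hD₁S
    have ha₁B : a₁ ∈ extB F Ph (P1 S Ph K) h2.le_P1 :=
      ih (Nat.card S - Nat.card ↥(nk S R (stabK R Ph hPR K) R.subtype ⊔ R.subtype.range))
        (by omega) _ lam₁ rfl hlam₁ (hPR.trans hRD₁) hD₁N (by omega) a₁ (fun x => (ha₁ x).symm)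
    have ha₂B : a₂ ∈ extB F Ph (P1 S Ph K) h2.le_P1 := by
      by_cases hP1D₂ : P1 S Ph K ≤ nk S R (stabK R Ph hPR K) θ ⊔ θ.range
      · exact mem_extB_of_map h2 hlam₂ hP1D₂ (fun x => (ha₂ x).symm)
      · have hlt₂ : Nat.card R < Nat.card ↥(nk S R (stabK R Ph hPR K) θ ⊔ θ.range) := by
          have hP1Y : ¬ P1 S Ph K ≤ θ.range := fun hle => hP1D₂ (hle.trans le_sup_right)
          have hnot : ¬ (P1 S Ph K ⊓ Subgroup.normalizer (θ.range : Set Ω) ≤ θ.range) := fun hle =>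
            hP1Y (le_of_normalizer_inf_le hNhp hYN hP1N hNP1 hle)
          obtain ⟨g, hg, hgY⟩ := SetLike.not_le_iff_exists.mp hnot
          obtain ⟨hgS, k, hkK, hk⟩ := mem_P1.mp hg.1
          have hk' : α⁻¹ * k * α ∈ K := by
            have := h2.hKn α⁻¹ (Subgroup.inv_mem _ hαA) k hkK
            rwa [inv_inv] at this
          have hgnk : g ∈ nk S R (stabK R Ph hPR K) θ := by
            apply mem_nk_stabK hPR K hinjθ hgS hg.2
            refine ⟨α⁻¹ * k * α, hk', fun v => ?_⟩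
            rw [hα, hk, hα]
            simp
          rw [hcardY]
          by_contra hcon
          have heq := Subgroup.eq_of_le_of_card_ge
            (le_sup_right (a := nk S R (stabK R Ph hPR K) θ) (b := θ.range)) (not_lt.mp hcon)
          apply hgY
          rw [heq]
          exact le_sup_left (b := θ.range) hgnk
        have hcardS₂ : Nat.card ↥(nk S R (stabK R Ph hPR K) θ ⊔ θ.range) ≤ Nat.card S :=
          Subgroup.card_le_of_le hD₂S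
        exact ih (Nat.card S - Nat.card ↥(nk S R (stabK R Ph hPR K) θ ⊔ θ.range))
          (by omega) _ lam₂ rfl hlam₂ hPD₂ hD₂N (by omega) a₂ (fun x => (ha₂ x).symm)
    have hrel : ∀ u : Ph, a₂ (α u) = a₁ u := by
      intro u
      apply Subtype.ext
      rw [ha₂, ha₁, hlam₂e (α u) (hPtN _), hlam₁e u (hPtN u)]
      congr 2
      simp
    have hfin : α = a₂⁻¹ * a₁ := by
      ext u
      show ((α u : Ph) : Ω) = ((a₂⁻¹ (a₁ u) : Ph) : Ω)
      rw [← hrel u]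
      simp
    rw [hfin]
    exact Subgroup.mul_mem _ (Subgroup.inv_mem _ ha₂B) ha₁B

end Cfsg.Agent.Lib.Helper84.BC
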