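import Cfsg.Agent.Lib.Helper84.BCLemmaA

/-!
# Extending automorphisms of `P̂` to `N_S^K(P̂)` (for the BCGLO criterion)
-/

set_option autoImplicit false
set_option linter.style.haveILetI false

namespace Cfsg.Agent.Lib.Helper84.BC

open Cfsg Cfsg.FusionSystem Cfsg.Agent.Lib.Helper87 Cfsg.Agent.Lib.Helper85
open Cfsg.Agent.Lib.Helper84.KN

variable {Ω : Type*} [Group Ω] {S : Subgroup Ω}

/-- Hypotheses on the fully normalized subgroup `Ph ∉ ℋ` and the normal `p`-subgroup `K` of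
`Aut_F(Ph)`. -/
structure Ctx2 (F : FusionSystem S) (p : ℕ) (ℋ : Set (Subgroup Ω)) (Ph : Subgroup Ω)
    (K : Subgroup (MulAut Ph)) : Prop where
  c : Ctx F p ℋ (Nat.card Ph)
  hfn : F.IsFullyNormalized Ph
  hPhH : Ph ∉ ℋ
  hKA : K ≤ F.autGroup Ph
  hKn : ∀ α ∈ F.autGroup Ph, ∀ k ∈ K, α * k * α⁻¹ ∈ K
  hKp : IsPGroup p K
  hInn : Inn Ph ≤ K

/-- `N_S^K(Ph)`. -/
abbrev P1 (S Ph : Subgroup Ω) (K : Subgroup (MulAut Ph)) : Subgroup Ω := nk S Ph K Ph.subtype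

theorem mem_P1 {Ph : Subgroup Ω} {K : Subgroup (MulAut Ph)} {y : Ω} :
    y ∈ P1 S Ph K ↔ y ∈ S ∧ ∃ k ∈ K, ∀ x : Ph, y * (x : Ω) * y⁻¹ = k x := Iff.rfl

theorem P1_le_S (Ph : Subgroup Ω) (K : Subgroup (MulAut Ph)) : P1 S Ph K ≤ S := nk_le Ph K _

theorem P1_le_normalizerIn (Ph : Subgroup Ω) (K : Subgroup (MulAut Ph)) :
    P1 S Ph K ≤ normalizerIn S Ph := by
  intro y hy
  refine ⟨hy.1, ?_⟩
  have := nk_le_normalizer Ph K Ph.subtype hy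
  rwa [Subgroup.range_subtype] at this

theorem le_P1 {Ph : Subgroup Ω} {K : Subgroup (MulAut Ph)} (hPh : Ph ≤ S) (hInn : Inn Ph ≤ K) :
    Ph ≤ P1 S Ph K := by
  intro x hx
  refine ⟨hPh hx, MulAut.conj ⟨x, hx⟩, hInn ⟨⟨x, hx⟩, rfl⟩, fun v => rfl⟩

/-- The inverse of the automorphism induced by `s`. -/
theorem conjAut_inv_coe {P : Subgroup Ω} {s : Ω} (hs : s ∈ Subgroup.normalizer (P : Set Ω))
    (v : P) : (((conjAut P s hs)⁻¹ v : P) : Ω) = s⁻¹ * v * s := by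
  have h1 : conjAut P s hs ((conjAut P s hs)⁻¹ v) = v := by simp
  have h2 := congrArg Subtype.val h1
  rw [conjAut_coe] at h2
  rw [← h2]
  group

section
variable [Finite S] {p : ℕ} [Fact p.Prime] {F : FusionSystem S} {ℋ : Set (Subgroup Ω)}
  {Ph : Subgroup Ω} {K : Subgroup (MulAut Ph)}

theorem Ctx2.hPh (h2 : Ctx2 F p ℋ Ph K) : Ph ≤ S := h2.hfn.1

theorem Ctx2.le_P1 (h2 : Ctx2 F p ℋ Ph K) : Ph ≤ P1 S Ph K := BC.le_P1 h2.hPh h2.hInn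

theorem Ctx2.conj_mem_P1 (h2 : Ctx2 F p ℋ Ph K) {s y : Ω} (hs : s ∈ normalizerIn S Ph)
    (hy : y ∈ P1 S Ph K) : s * y * s⁻¹ ∈ P1 S Ph K := by
  obtain ⟨hyS, k, hkK, hk⟩ := mem_P1.mp hy
  have hσA : conjAut Ph s hs.2 ∈ F.autGroup Ph :=
    autInducedBy_le_autGroup F h2.hPh (conjAut_mem_autInducedBy hs.1 hs.2)
  refine ⟨S.mul_mem (S.mul_mem hs.1 hyS) (S.inv_mem hs.1), _, h2.hKn _ hσA k hkK, fun v => ?_⟩
  show s * y * s⁻¹ * (v : Ω) * (s * y * s⁻¹)⁻¹ =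
    ((conjAut Ph s hs.2 (k ((conjAut Ph s hs.2)⁻¹ v)) : Ph) : Ω)
  rw [conjAut_coe, ← hk, conjAut_inv_coe]
  group

theorem Ctx2.normalizerIn_le_normalizer_P1 (h2 : Ctx2 F p ℋ Ph K) :
    normalizerIn S Ph ≤ Subgroup.normalizer (P1 S Ph K : Set Ω) := by
  intro s hs
  haveI : Finite (P1 S Ph K) := finite_of_le (P1_le_S Ph K)
  apply mem_normalizer_of_conj_mem
  intro y hy
  exact h2.conj_mem_P1 hs hy

end

/-- The automorphisms of `Ph` that extend to automorphisms of `P1` in the system. -/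
def extB (F : FusionSystem S) (Ph Q : Subgroup Ω) (h : Ph ≤ Q) : Subgroup (MulAut Ph) where
  carrier := {α | ∃ β ∈ F.autGroup Q, ∀ x : Ph, ((β ⟨x, h x.2⟩ : Q) : Ω) = α x}
  one_mem' := ⟨1, Subgroup.one_mem _, fun x => rfl⟩
  mul_mem' := by
    rintro a b ⟨β, hβ, hβa⟩ ⟨γ, hγ, hγb⟩
    refine ⟨β * γ, Subgroup.mul_mem _ hβ hγ, fun x => ?_⟩
    have e : γ ⟨x, h x.2⟩ = ⟨b x, h (b x).2⟩ := Subtype.ext (hγb x)
    show ((β (γ ⟨x, h x.2⟩) : Q) : Ω) = a (b x)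
    rw [e, hβa]
  inv_mem' := by
    rintro a ⟨β, hβ, hβa⟩
    refine ⟨β⁻¹, Subgroup.inv_mem _ hβ, fun x => ?_⟩
    have e : β ⟨a⁻¹ x, h (a⁻¹ x).2⟩ = ⟨x, h x.2⟩ := by
      apply Subtype.ext
      rw [hβa]
      simp
    have e2 : β⁻¹ ⟨x, h x.2⟩ = ⟨a⁻¹ x, h (a⁻¹ x).2⟩ := by
      rw [← e]
      simp
    rw [e2]

/-- A map of the system sending `Ph` into itself induces an automorphism of `Ph` in the
system. -/
theorem exists_aut_of_map (F : FusionSystem S) {Ph D : Subgroup Ω} [Finite Ph] {ψ : D →* Ω}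
    (hψ : ψ ∈ F.Hom D) (hPD : Ph ≤ D) (hmap : ∀ x : Ph, ψ ⟨x, hPD x.2⟩ ∈ Ph) :
    ∃ a : MulAut Ph, a ∈ F.autGroup Ph ∧ ∀ x : Ph, ((a x : Ph) : Ω) = ψ ⟨x, hPD x.2⟩ := by
  have hPS : Ph ≤ S := hPD.trans (hom_le F hψ)
  let f : Ph →* Ph := (ψ.comp (Subgroup.inclusion hPD)).codRestrict Ph hmap
  have hinj : Function.Injective f := by
    intro x y hxy
    have h1 : ψ (Subgroup.inclusion hPD x) = ψ (Subgroup.inclusion hPD y) :=
      congrArg Subtype.val hxy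
    exact Subgroup.inclusion_injective hPD (F.injective_of_mem hψ h1)
  have hbij : Function.Bijective f := ⟨hinj, Finite.injective_iff_surjective.mp hinj⟩
  refine ⟨MulEquiv.ofBijective f hbij, ?_, fun x => rfl⟩
  rw [Cfsg.Agent.Lib.Helper87.mem_autGroup_iff F hPS]
  have e : Ph.subtype.comp (MulEquiv.ofBijective f hbij).toMonoidHom =
      ψ.comp (Subgroup.inclusion hPD) := by
    ext x
    rfl
  rw [e]
  exact restrict_mem F hψ hPD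

/-- Two maps of the system from `V` onto `Ph` differ by an automorphism of `Ph` in the system. -/
theorem exists_aut_span (F : FusionSystem S) {V Ph : Subgroup Ω} [Finite Ph] {f g : V →* Ω}
    (hf : f ∈ F.Hom V) (hg : g ∈ F.Hom V) (hfP : ∀ v, f v ∈ Ph) (hgP : ∀ v, g v ∈ Ph)
    (hcard : Nat.card Ph ≤ Nat.card V) :
    ∃ a : MulAut Ph, a ∈ F.autGroup Ph ∧ ∀ (v : V) (h : f v ∈ Ph), g v = a ⟨f v, h⟩ := by
  have hr : f.range = Ph := by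
    have := im_eq_of_card (le_refl V) (F.injective_of_mem hf) (W := Ph) (fun v => hfP v) hcard
    rw [← this]
    ext x
    constructor
    · rintro ⟨v, rfl⟩
      exact ⟨v, rfl⟩
    · rintro ⟨v, rfl⟩
      exact ⟨v, rfl⟩
  obtain ⟨fi, hfi, hfiinv, hfir⟩ := inv_exists F hf hr
  have hm : ∀ x : Ph, fi x ∈ V := fun x => hfir.le ⟨x, rfl⟩
  obtain ⟨χ, hχ, hχe⟩ := comp_mem' F hfi hg hm
  have hmap : ∀ x : Ph, χ ⟨x, (le_refl Ph) x.2⟩ ∈ Ph := by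
    intro x
    rw [hχe]
    exact hgP _
  obtain ⟨a, haA, ha⟩ := exists_aut_of_map F hχ le_rfl hmap
  refine ⟨a, haA, fun v h => ?_⟩
  rw [ha ⟨f v, h⟩, hχe]
  congr 1
  exact Subtype.ext (hfiinv v h).symm

section
variable [Finite S] {p : ℕ} [Fact p.Prime] {F : FusionSystem S} {ℋ : Set (Subgroup Ω)}
  {Ph : Subgroup Ω} {K : Subgroup (MulAut Ph)}

/-- An automorphism of `Ph` induced by a map of the system lies in `Aut_F(Ph)`. -/
theorem mem_autGroup_of_map {D : Subgroup Ω} {ψ : D →* Ω} (hψ : ψ ∈ F.Hom D) (hPD : Ph ≤ D)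
    {α : MulAut Ph} (hα : ∀ x : Ph, ψ ⟨x, hPD x.2⟩ = α x) : α ∈ F.autGroup Ph := by
  have hPS : Ph ≤ S := hPD.trans (hom_le F hψ)
  rw [Cfsg.Agent.Lib.Helper87.mem_autGroup_iff F hPS]
  have e : Ph.subtype.comp α.toMonoidHom = ψ.comp (Subgroup.inclusion hPD) := by
    ext x
    exact (hα x).symm
  rw [e]
  exact restrict_mem F hψ hPD

/-- Direct case: a map defined on a subgroup containing `P1` and inducing `α` on `Ph` shows that
`α` extends to `P1`. -/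
theorem mem_extB_of_map (h2 : Ctx2 F p ℋ Ph K) {D : Subgroup Ω} {ψ : D →* Ω}
    (hψ : ψ ∈ F.Hom D) (hP1D : P1 S Ph K ≤ D) {α : MulAut Ph}
    (hα : ∀ x : Ph, ψ ⟨x, hP1D (h2.le_P1 x.2)⟩ = α x) : α ∈ extB F Ph (P1 S Ph K) h2.le_P1 := by
  have hP1S : P1 S Ph K ≤ S := P1_le_S Ph K
  haveI : Finite (P1 S Ph K) := finite_of_le hP1S
  have hαA : α ∈ F.autGroup Ph := mem_autGroup_of_map hψ (h2.le_P1.trans hP1D) hα
  have hmaps : ∀ g : P1 S Ph K, (ψ.comp (Subgroup.inclusion hP1D)) g ∈ P1 S Ph K := by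
    rintro ⟨g, hg⟩
    obtain ⟨hgS, k, hkK, hk⟩ := mem_P1.mp hg
    refine ⟨hom_mem_S F hψ _, α * k * α⁻¹, h2.hKn α hαA k hkK, fun v => ?_⟩
    have hv : (v : Ω) = ψ ⟨(α⁻¹ v : Ph), hP1D (h2.le_P1 (α⁻¹ v).2)⟩ := by
      rw [hα]
      simp
    have hmem : g * ((α⁻¹ v : Ph) : Ω) * g⁻¹ ∈ Ph := by
      rw [hk]
      exact (k _).2
    have e : ψ (Subgroup.inclusion hP1D ⟨g, hg⟩) *
        ψ ⟨(α⁻¹ v : Ph), hP1D (h2.le_P1 (α⁻¹ v).2)⟩ *
        (ψ (Subgroup.inclusion hP1D ⟨g, hg⟩))⁻¹ =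
        ψ ⟨g * ((α⁻¹ v : Ph) : Ω) * g⁻¹, hP1D (h2.le_P1 hmem)⟩ := by
      rw [← map_inv, ← map_mul, ← map_mul]
      rfl
    show ψ (Subgroup.inclusion hP1D ⟨g, hg⟩) * (v : Ω) *
      (ψ (Subgroup.inclusion hP1D ⟨g, hg⟩))⁻¹ = ((α (k (α⁻¹ v)) : Ph) : Ω)
    rw [hv, e]
    have e2 : (⟨g * ((α⁻¹ v : Ph) : Ω) * g⁻¹, hmem⟩ : Ph) = k (α⁻¹ v) := Subtype.ext (hk _)
    have e3 := hα ⟨g * ((α⁻¹ v : Ph) : Ω) * g⁻¹, hmem⟩
    rw [e3, e2]
  let f : P1 S Ph K →* P1 S Ph K := (ψ.comp (Subgroup.inclusion hP1D)).codRestrict _ hmaps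
  have hinj : Function.Injective f := by
    intro x y hxy
    have h1 : ψ (Subgroup.inclusion hP1D x) = ψ (Subgroup.inclusion hP1D y) :=
      congrArg Subtype.val hxy
    exact Subgroup.inclusion_injective hP1D (F.injective_of_mem hψ h1)
  have hbij : Function.Bijective f := ⟨hinj, Finite.injective_iff_surjective.mp hinj⟩
  refine ⟨MulEquiv.ofBijective f hbij, ?_, fun x => hα x⟩
  rw [Cfsg.Agent.Lib.Helper87.mem_autGroup_iff F hP1S]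
  have e : (P1 S Ph K).subtype.comp (MulEquiv.ofBijective f hbij).toMonoidHom =
      ψ.comp (Subgroup.inclusion hP1D) := by
    ext x
    rfl
  rw [e]
  exact restrict_mem F hψ hP1D

end

end Cfsg.Agent.Lib.Helper84.BC
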