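import Cfsg.Agent.Lib.Helper84.BCLocal

/-!
# Generation by maps with source in a family `ℋ` (for the BCGLO saturation criterion)
-/

set_option autoImplicit false

namespace Cfsg.Agent.Lib.Helper84.BC

open Cfsg Cfsg.FusionSystem Cfsg.Agent.Lib.Helper87 Cfsg.Agent.Lib.Helper85

variable {Ω : Type*} [Group Ω] {S : Subgroup Ω}

/-- Maps generated by restrictions of maps of `F` with source in `ℋ`. -/
inductive GenH (F : FusionSystem S) (ℋ : Set (Subgroup Ω)) : (P : Subgroup Ω) → (P →* Ω) → Prop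
  | base {P Q : Subgroup Ω} (hQ : Q ∈ ℋ) (φ : Q →* Ω) (hφ : φ ∈ F.Hom Q) (hPQ : P ≤ Q) :
      GenH F ℋ P (φ.comp (Subgroup.inclusion hPQ))
  | comp {P Q : Subgroup Ω} {φ : P →* Ω} {ψ : Q →* Ω} (hφ : GenH F ℋ P φ)
      (hψ : GenH F ℋ Q ψ) (h : ∀ x : P, φ x ∈ Q) :
      GenH F ℋ P (ψ.comp (φ.codRestrict Q h))

theorem GenH.mem_hom {F : FusionSystem S} {ℋ : Set (Subgroup Ω)} {P : Subgroup Ω} {φ : P →* Ω}
    (h : GenH F ℋ P φ) : φ ∈ F.Hom P := by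
  induction h with
  | base hQ φ hφ hPQ => exact restrict_mem F hφ hPQ
  | comp _ _ h ih1 ih2 => exact F.comp_mem ih1 ih2 h

theorem GenH.restrict {F : FusionSystem S} {ℋ : Set (Subgroup Ω)} {P : Subgroup Ω} {φ : P →* Ω}
    (h : GenH F ℋ P φ) : ∀ {P' : Subgroup Ω} (hP' : P' ≤ P),
    GenH F ℋ P' (φ.comp (Subgroup.inclusion hP')) := by
  induction h with
  | base hQ φ hφ hPQ =>
    intro P' hP'
    exact GenH.base hQ φ hφ (hP'.trans hPQ)
  | @comp P Q φ ψ _ hψ h ih1 _ =>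
    intro P' hP'
    have := GenH.comp (ih1 hP') hψ (fun x => h _)
    exact this

theorem GenH.inv {F : FusionSystem S} {ℋ : Set (Subgroup Ω)}
    (hconj : ∀ P ∈ ℋ, ∀ Q, F.IsConj P Q → Q ∈ ℋ) {P : Subgroup Ω} {φ : P →* Ω}
    (h : GenH F ℋ P φ) :
    ∃ ψ : φ.range →* Ω, GenH F ℋ φ.range ψ ∧ ∀ x : P, ψ ⟨φ x, ⟨x, rfl⟩⟩ = x := by
  induction h with
  | @base P Q hQ φ hφ hPQ =>
    obtain ⟨ψ, hψ, hψe⟩ := F.inv_mem hφ
    have hle : (φ.comp (Subgroup.inclusion hPQ)).range ≤ φ.range := by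
      rintro _ ⟨x, rfl⟩
      exact ⟨_, rfl⟩
    refine ⟨_, GenH.base (hconj Q hQ _ ⟨φ, hφ, rfl⟩) ψ hψ hle, fun x => ?_⟩
    exact hψe (Subgroup.inclusion hPQ x)
  | @comp P Q φ ψ _ _ h ih1 ih2 =>
    obtain ⟨φi, hφi, hφinv⟩ := ih1
    obtain ⟨ψi, hψi, hψinv⟩ := ih2
    have hle : (ψ.comp (φ.codRestrict Q h)).range ≤ ψ.range := by
      rintro _ ⟨x, rfl⟩
      exact ⟨_, rfl⟩
    have hmaps : ∀ y : (ψ.comp (φ.codRestrict Q h)).range,
        (ψi.comp (Subgroup.inclusion hle)) y ∈ φ.range := by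
      rintro ⟨_, x, rfl⟩
      show ψi ⟨ψ ⟨φ x, h x⟩, _⟩ ∈ φ.range
      rw [hψinv ⟨φ x, h x⟩]
      exact ⟨x, rfl⟩
    refine ⟨_, GenH.comp (hψi.restrict hle) hφi hmaps, fun x => ?_⟩
    show φi ⟨ψi ⟨ψ ⟨φ x, h x⟩, _⟩, _⟩ = x
    rw [← hφinv x]
    congr 1
    exact Subtype.ext (hψinv ⟨φ x, h x⟩)

/-- The fusion system of all maps generated by `ℋ`. -/
def genSystem (F : FusionSystem S) (ℋ : Set (Subgroup Ω))
    (hconj : ∀ P ∈ ℋ, ∀ Q, F.IsConj P Q → Q ∈ ℋ) (hS : S ∈ ℋ) : FusionSystem S where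
  Hom P := {φ | GenH F ℋ P φ}
  le_of_mem h := F.le_of_mem (GenH.mem_hom h)
  injective_of_mem h := F.injective_of_mem (GenH.mem_hom h)
  conj_mem := by
    intro P g hP hg
    have h1 := GenH.base (F := F) hS (conjHom S g) (F.conj_mem le_rfl hg) hP
    have e : (conjHom S g).comp (Subgroup.inclusion hP) = conjHom P g := by
      ext x; rfl
    rw [e] at h1
    exact h1
  comp_mem := fun hφ hψ h => GenH.comp hφ hψ h
  inv_mem := fun h => by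
    obtain ⟨ψ, hψ, hψe⟩ := GenH.inv hconj h
    exact ⟨ψ, hψ, hψe⟩

/-- If `F` is the smallest system containing its maps with source in `ℋ`, every map of `F` is
generated by `ℋ`. -/
theorem all_gen (F : FusionSystem S) (ℋ : Set (Subgroup Ω))
    (hconj : ∀ P ∈ ℋ, ∀ Q, F.IsConj P Q → Q ∈ ℋ) (hS : S ∈ ℋ)
    (hgen : ∀ E : FusionSystem S, (∀ P ∈ ℋ, F.Hom P ⊆ E.Hom P) → F ≤ E)
    (P : Subgroup Ω) (φ : P →* Ω) (hφ : φ ∈ F.Hom P) : GenH F ℋ P φ := by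
  have h1 : F ≤ genSystem F ℋ hconj hS := by
    apply hgen
    intro Q hQ ψ hψ
    have h2 := GenH.base (F := F) hQ ψ hψ le_rfl
    have e : ψ.comp (Subgroup.inclusion le_rfl) = ψ := by
      ext x; rfl
    rw [e] at h2
    exact h2
  exact h1 P hφ

/-- `S` itself belongs to `ℋ`. -/
theorem top_mem [Finite S] {p : ℕ} (F : FusionSystem S) (ℋ : Set (Subgroup Ω))
    (hstar : ∀ P : Subgroup Ω, F.IsCentric P → P ∉ ℋ → ∃ Q, F.IsConj P Q ∧
      ¬ (autInducedBy S Q ⊓ (pCore p ↥(F.autGroup Q)).map (F.autGroup Q).subtype ≤ Inn Q)) :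
    S ∈ ℋ := by
  by_contra hcon
  have hcen : F.IsCentric S := by
    refine ⟨le_rfl, fun Q hQ => ?_⟩
    rw [eq_top_of_isConj_top F hQ]
    exact inf_le_left
  obtain ⟨Q, hQ, hne⟩ := hstar S hcen hcon
  have hQS : Q = S := eq_top_of_isConj_top F hQ
  subst hQS
  exact hne (inf_le_left.trans autInducedBy_top_le_inn)

end Cfsg.Agent.Lib.Helper84.BC
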