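import Cfsg.Agent.Lib.Helper84.BCClaimE

/-!
# Every automorphism of `P̂` in the system extends to `P1` (for the BCGLO criterion)
-/

set_option autoImplicit false
set_option linter.style.haveILetI false
set_option linter.unusedSectionVars false

namespace Cfsg.Agent.Lib.Helper84.BC

open Cfsg Cfsg.FusionSystem Cfsg.Agent.Lib.Helper87 Cfsg.Agent.Lib.Helper85
open Cfsg.Agent.Lib.Helper84.KN

variable {Ω : Type*} [Group Ω] {S : Subgroup Ω}

variable [Finite S] {p : ℕ} [Fact p.Prime] {F : FusionSystem S} {ℋ : Set (Subgroup Ω)}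
  {Ph : Subgroup Ω} {K : Subgroup (MulAut Ph)}

/-- Span form of Claim E: two maps from `R₀ > P'` carrying `P'` onto `Ph`. -/
theorem claimE_span (h2 : Ctx2 F p ℋ Ph K) {P' R₀ : Subgroup Ω} (hP'R : P' ≤ R₀)
    (hRN : R₀ ≤ normalizerIn S P') (hcardP' : Nat.card P' = Nat.card Ph)
    (hlt : Nat.card Ph < Nat.card R₀) {ψa θb : R₀ →* Ω} (hψa : ψa ∈ F.Hom R₀)
    (hθb : θb ∈ F.Hom R₀) (hψaP : ∀ v : P', ψa ⟨v, hP'R v.2⟩ ∈ Ph) (α : MulAut Ph)
    (hα : ∀ (v : P') (hx : ψa ⟨v, hP'R v.2⟩ ∈ Ph), θb ⟨v, hP'R v.2⟩ = α ⟨ψa ⟨v, hP'R v.2⟩, hx⟩) :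
    α ∈ extB F Ph (P1 S Ph K) h2.le_P1 := by
  have hPhS := h2.hPh
  have hR₀S : R₀ ≤ S := hom_le F hψa
  haveI : Finite Ph := finite_of_le hPhS
  haveI : Finite R₀ := finite_of_le hR₀S
  have hinj := F.injective_of_mem hψa
  have hsurj := exists_preimage_of_card hP'R hinj hψaP hcardP'.ge
  have him : im ψa hP'R = Ph := im_eq_of_card hP'R hinj hψaP hcardP'.ge
  obtain ⟨ψi, hψi, hψiinv, hψir⟩ := inv_exists F hψa rfl
  have hm : ∀ z : ψa.range, ψi z ∈ R₀ := fun z => hψir.le ⟨z, rfl⟩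
  obtain ⟨θ, hθ, hθe⟩ := comp_mem' F hψi hθb hm
  have hPhR : Ph ≤ ψa.range := by
    intro v hv
    obtain ⟨u, hu⟩ := hsurj v hv
    exact ⟨_, hu⟩
  have hRNh : ψa.range ≤ normalizerIn S Ph := by
    rintro _ ⟨x, rfl⟩
    refine ⟨hom_mem_S F hψa x, ?_⟩
    haveI : Finite (im ψa hP'R) := by rw [him]; infer_instance
    have := map_mem_normalizer_im hP'R ψa x (hRN x.2).2
    rwa [him] at this
  have hcard : Nat.card R₀ = Nat.card ψa.range := card_eq_of_isConj F ⟨ψa, hψa, rfl⟩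
  refine claimE h2 _ ψa.range θ rfl hθ hPhR hRNh (by omega) α (fun x => ?_)
  obtain ⟨u, hu⟩ := hsurj x x.2
  have e1 : (⟨(x : Ω), hPhR x.2⟩ : ψa.range) = ⟨ψa ⟨u, hP'R u.2⟩, ⟨_, rfl⟩⟩ := Subtype.ext hu.symm
  rw [e1, hθe]
  have e2 : (⟨ψi ⟨ψa ⟨u, hP'R u.2⟩, ⟨_, rfl⟩⟩, hm _⟩ : R₀) = ⟨u, hP'R u.2⟩ :=
    Subtype.ext (hψiinv _ _)
  rw [e2, hα u (hψaP u)]
  congr 2
  exact Subtype.ext hu

/-- Restrictions of generated maps, read through maps given by Lemma A, extend to `P1`. -/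
theorem genAut (h2 : Ctx2 F p ℋ Ph K) {P : Subgroup Ω} {φ : P →* Ω} (h : GenH F ℋ P φ) :
    ∀ (P' W : Subgroup Ω) (hP'P : P' ≤ P), Nat.card P' = Nat.card Ph → P' ∉ ℋ →
      im φ hP'P = W →
      ∀ ψa ∈ F.Hom (normalizerIn S P'),
        (∀ (v : P') (hv : (v : Ω) ∈ normalizerIn S P'), ψa ⟨v, hv⟩ ∈ Ph) →
      ∀ ψb ∈ F.Hom (normalizerIn S W),
        (∀ (w : W) (hw : (w : Ω) ∈ normalizerIn S W), ψb ⟨w, hw⟩ ∈ Ph) →
      ∀ α : MulAut Ph,
        (∀ (v : P') (hv : (v : Ω) ∈ normalizerIn S P') (hw : φ ⟨v, hP'P v.2⟩ ∈ normalizerIn S W)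
          (hx : ψa ⟨v, hv⟩ ∈ Ph), ψb ⟨φ ⟨v, hP'P v.2⟩, hw⟩ = α ⟨ψa ⟨v, hv⟩, hx⟩) →
        α ∈ extB F Ph (P1 S Ph K) h2.le_P1 := by
  have hPhS := h2.hPh
  haveI : Finite Ph := finite_of_le hPhS
  induction h with
  | @base P Q hQ φ hφ hPQ =>
    intro P' W hP'P hnP' hP'H him ψa hψa hψaP ψb hψb hψbP α hα
    have hQS : Q ≤ S := hom_le F hφ
    have hP'Q : P' ≤ Q := hP'P.trans hPQ
    haveI : Finite Q := finite_of_le hQS
    haveI : Finite P' := finite_of_le (hP'Q.trans hQS)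
    have hQp : IsPGroup p Q := h2.c.hS.to_le hQS
    have hne : P' ≠ Q := fun h => hP'H (h ▸ hQ)
    have him' : im φ hP'Q = W := him
    have hWS : W ≤ S := him' ▸ range_le F (restrict_mem F hφ hP'Q)
    haveI : Finite W := finite_of_le hWS
    obtain ⟨g, hg, hgP'⟩ := exists_mem_normalizerIn_not_mem hQp hP'Q hne
    have hXQ : normalizerIn Q P' ≤ Q := normalizerIn_le Q P'
    have hXS : normalizerIn Q P' ≤ S := hXQ.trans hQS
    haveI : Finite (normalizerIn Q P') := finite_of_le hXS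
    have hP'X : P' ≤ normalizerIn Q P' := le_normalizerIn hP'Q
    have hXN : normalizerIn Q P' ≤ normalizerIn S P' := fun x hx => ⟨hQS hx.1, hx.2⟩
    have hlt : Nat.card Ph < Nat.card (normalizerIn Q P') := by
      rw [← hnP']
      by_contra hcon
      have heq := Subgroup.eq_of_le_of_card_ge hP'X (not_lt.mp hcon)
      apply hgP'
      rw [heq]
      exact hg
    have hm : ∀ x : normalizerIn Q P',
        (φ.comp (Subgroup.inclusion hXQ)) x ∈ normalizerIn S W := by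
      intro x
      refine ⟨hom_mem_S F hφ _, ?_⟩
      haveI : Finite (im φ hP'Q) := by rw [him']; infer_instance
      have := map_mem_normalizer_im hP'Q φ (Subgroup.inclusion hXQ x) x.2.2
      rwa [him'] at this
    obtain ⟨θb, hθb, hθbe⟩ := comp_mem' F (restrict_mem F hφ hXQ) hψb hm
    refine claimE_span h2 hP'X hXN hnP' hlt (restrict_mem F hψa hXN) hθb
      (fun v => hψaP v _) α (fun v hx => ?_)
    rw [hθbe]
    exact hα v _ _ _
  | @comp P Q φ ψ hφ hψ h ih1 ih2 =>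
    intro P' W hP'P hnP' hP'H him ψa hψa hψaP ψb hψb hψbP α hα
    have hφF : φ ∈ F.Hom P := hφ.mem_hom
    have hP'S : P' ≤ S := hP'P.trans (hom_le F hφF)
    haveI : Finite P' := finite_of_le hP'S
    have hP'N : P' ≤ normalizerIn S P' := le_normalizerIn hP'S
    have hP₁Q : im φ hP'P ≤ Q := by
      rintro _ ⟨v, rfl⟩
      exact h _
    have hconj₁ : F.IsConj P' (im φ hP'P) := ⟨_, restrict_mem F hφF hP'P, rfl⟩
    have hP₁S : im φ hP'P ≤ S := isConj_le_right F hconj₁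
    have hP₁N : im φ hP'P ≤ normalizerIn S (im φ hP'P) := le_normalizerIn hP₁S
    have hcard₁ : Nat.card ↥(im φ hP'P) = Nat.card Ph := by
      rw [← card_eq_of_isConj F hconj₁, hnP']
    have hP₁H : im φ hP'P ∉ ℋ := fun hc => hP'H (h2.c.conj _ hc _ (isConj_symm F hconj₁))
    have him₂ : im ψ hP₁Q = W := by
      rw [← him]
      ext x
      constructor
      · rintro ⟨⟨_, v, rfl⟩, rfl⟩
        exact ⟨v, rfl⟩
      · rintro ⟨v, rfl⟩
        exact ⟨⟨_, v, rfl⟩, rfl⟩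
    -- `P'` is conjugate to `Ph`
    have hfa : ψa.comp (Subgroup.inclusion hP'N) ∈ F.Hom P' := restrict_mem F hψa hP'N
    have hfaP : ∀ v : P', (ψa.comp (Subgroup.inclusion hP'N)) v ∈ Ph := fun v => hψaP v _
    have hconjP' : F.IsConj P' Ph := by
      refine ⟨_, hfa, ?_⟩
      have := im_eq_of_card (le_refl P') (F.injective_of_mem hfa) (W := Ph)
        (fun v => hfaP v) hnP'.ge
      rw [← this]
      ext x
      constructor
      · rintro ⟨v, rfl⟩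
        exact ⟨v, rfl⟩
      · rintro ⟨v, rfl⟩
        exact ⟨v, rfl⟩
    have hconjP₁ : F.IsConj (im φ hP'P) Ph := isConj_trans F (isConj_symm F hconj₁) hconjP'
    obtain ⟨ψc, hψc, hψcP⟩ := lemmaA h2.c h2.hfn rfl h2.hPhH hconjP₁
    -- the automorphism `a₁`
    have hmc : ∀ v : P', (φ.comp (Subgroup.inclusion hP'P)) v ∈ normalizerIn S (im φ hP'P) :=
      fun v => hP₁N ⟨v, rfl⟩
    obtain ⟨gc, hgc, hgce⟩ := comp_mem' F (restrict_mem F hφF hP'P) hψc hmc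
    have hgcP : ∀ v : P', gc v ∈ Ph := by
      intro v
      rw [hgce]
      exact hψcP ⟨_, ⟨v, rfl⟩⟩ _
    obtain ⟨a₁, ha₁A, ha₁⟩ := exists_aut_span F hfa hgc hfaP hgcP hnP'.ge
    have ha₁B : a₁ ∈ extB F Ph (P1 S Ph K) h2.le_P1 := by
      refine ih1 P' (im φ hP'P) hP'P hnP' hP'H rfl ψa hψa hψaP ψc hψc hψcP a₁ ?_
      intro v hv hw hx
      have := ha₁ v (hfaP v)
      rw [hgce] at this
      exact this
    have ha₂B : α * a₁⁻¹ ∈ extB F Ph (P1 S Ph K) h2.le_P1 := by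
      refine ih2 (im φ hP'P) W hP₁Q hcard₁ hP₁H him₂ ψc hψc hψcP ψb hψb hψbP (α * a₁⁻¹) ?_
      rintro ⟨_, v, rfl⟩ hv hw hx
      have h3 := hα v (hP'N v.2) hw (hψaP v _)
      have h4 := ha₁ v (hfaP v)
      rw [hgce] at h4
      have h5 : (⟨ψc ⟨(φ.comp (Subgroup.inclusion hP'P)) v, hv⟩, hx⟩ : Ph) =
          a₁ ⟨ψa ⟨v, hP'N v.2⟩, hψaP v _⟩ := Subtype.ext h4
      show ψb ⟨ψ ⟨φ ⟨v, hP'P v.2⟩, _⟩, hw⟩ =
        ((α (a₁⁻¹ ⟨ψc ⟨(φ.comp (Subgroup.inclusion hP'P)) v, hv⟩, hx⟩) : Ph) : Ω)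
      rw [h5]
      have h6 : a₁⁻¹ (a₁ ⟨ψa ⟨v, hP'N v.2⟩, hψaP v _⟩) = ⟨ψa ⟨v, hP'N v.2⟩, hψaP v _⟩ := by simp
      rw [h6]
      exact h3
    have hfin : α = (α * a₁⁻¹) * a₁ := by simp
    rw [hfin]
    exact Subgroup.mul_mem _ ha₂B ha₁B

/-- Every automorphism of `Ph` in the system extends to `P1`. -/
theorem autGroup_le_extB (h2 : Ctx2 F p ℋ Ph K) :
    F.autGroup Ph ≤ extB F Ph (P1 S Ph K) h2.le_P1 := by
  intro α hαA
  have hPhS := h2.hPh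
  have hφ : Ph.subtype.comp α.toMonoidHom ∈ F.Hom Ph :=
    (Cfsg.Agent.Lib.Helper87.mem_autGroup_iff F hPhS α).mp hαA
  have him : im (Ph.subtype.comp α.toMonoidHom) (le_refl Ph) = Ph := by
    ext x
    constructor
    · rintro ⟨v, rfl⟩
      exact (α v).2
    · intro hx
      refine ⟨α.symm ⟨x, hx⟩, ?_⟩
      show ((α (α.symm ⟨x, hx⟩) : Ph) : Ω) = x
      rw [MulEquiv.apply_symm_apply]
  have hι : (normalizerIn S Ph).subtype ∈ F.Hom (normalizerIn S Ph) :=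
    subtype_mem F (normalizerIn_le S Ph)
  refine genAut h2 (h2.c.gen Ph _ hφ) Ph Ph le_rfl rfl h2.hPhH him _ hι (fun v _ => v.2) _ hι
    (fun v _ => v.2) α ?_
  intro v hv hw hx
  rfl

end Cfsg.Agent.Lib.Helper84.BC
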