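import Cfsg.Agent.Lib.Helper84.BCStab

/-!
# Lemma A of the BCGLO criterion: maps `N_S(P') → N_S(P̂)` onto a fully normalized member
-/

set_option autoImplicit false
set_option linter.style.haveILetI false

namespace Cfsg.Agent.Lib.Helper84.BC

open Cfsg Cfsg.FusionSystem Cfsg.Agent.Lib.Helper87 Cfsg.Agent.Lib.Helper85
open Cfsg.Agent.Lib.Helper84.KN

variable {Ω : Type*} [Group Ω] {S : Subgroup Ω}

/-- Conjugation inside the source of an injective hom, for elements of a subgroup normalized. -/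
theorem map_conj_mem_im {D V : Subgroup Ω} (hVD : V ≤ D) (f : D →* Ω) (d : D)
    (hd : (d : Ω) ∈ Subgroup.normalizer (V : Set Ω)) (v : V) :
    f d * f ⟨v, hVD v.2⟩ * (f d)⁻¹ ∈ im f hVD := by
  have hmem : (d : Ω) * (v : Ω) * (d : Ω)⁻¹ ∈ V := (Subgroup.mem_normalizer_iff.mp hd _).mp v.2
  have e : f d * f ⟨v, hVD v.2⟩ * (f d)⁻¹ = f ⟨(d : Ω) * (v : Ω) * (d : Ω)⁻¹, hVD hmem⟩ := by
    rw [← map_inv, ← map_mul, ← map_mul]
    rfl
  rw [e]
  exact mem_im f hVD ⟨_, hmem⟩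

/-- The image of the source normalizes the image of a normalized subgroup. -/
theorem map_mem_normalizer_im {D V : Subgroup Ω} (hVD : V ≤ D) (f : D →* Ω) [Finite (im f hVD)]
    (d : D) (hd : (d : Ω) ∈ Subgroup.normalizer (V : Set Ω)) :
    f d ∈ Subgroup.normalizer (im f hVD : Set Ω) := by
  apply mem_normalizer_of_conj_mem
  rintro _ ⟨v, rfl⟩
  exact map_conj_mem_im hVD f d hd v

theorem lemmaA_aux [Finite S] {p : ℕ} [Fact p.Prime] {F : FusionSystem S}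
    {ℋ : Set (Subgroup Ω)} {n : ℕ} (c : Ctx F p ℋ n) {Ph : Subgroup Ω}
    (hfn : F.IsFullyNormalized Ph) (hn : Nat.card Ph = n) :
    ∀ d : ℕ, ∀ (P' X : Subgroup Ω) (φ : X →* Ω), Nat.card S - Nat.card X = d → φ ∈ F.Hom X →
      ∀ hP'X : P' ≤ X, X ≤ normalizerIn S P' → n < Nat.card X → Nat.card P' = n →
      (∀ v : P', φ ⟨v, hP'X v.2⟩ ∈ Ph) →
      ∃ ψ ∈ F.Hom (normalizerIn S P'),
        ∀ (v : P') (hv : (v : Ω) ∈ normalizerIn S P'), ψ ⟨v, hv⟩ ∈ Ph := by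
  intro d
  induction d using Nat.strong_induction_on with
  | _ d ih =>
  intro P' X φ hd hφ hP'X hXN hnX hnP' hmap
  have hXS : X ≤ S := hom_le F hφ
  have hP'S : P' ≤ S := hP'X.trans hXS
  have hPhS : Ph ≤ S := hfn.1
  have hNS : normalizerIn S P' ≤ S := normalizerIn_le S P'
  have hNhS : normalizerIn S Ph ≤ S := normalizerIn_le S Ph
  haveI : Finite X := finite_of_le hXS
  haveI : Finite P' := finite_of_le hP'S
  haveI : Finite Ph := finite_of_le hPhS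
  haveI : Finite (normalizerIn S P') := finite_of_le hNS
  haveI : Finite (normalizerIn S Ph) := finite_of_le hNhS
  by_cases hXeq : X = normalizerIn S P'
  · subst hXeq
    exact ⟨φ, hφ, fun v hv => hmap v⟩
  · have hinj := F.injective_of_mem hφ
    have him : im φ hP'X = Ph := im_eq_of_card hP'X hinj hmap (by rw [hn, hnP'])
    have hconj : F.IsConj P' Ph := ⟨_, restrict_mem F hφ hP'X, him⟩
    have hcardN : Nat.card (normalizerIn S P') ≤ Nat.card (normalizerIn S Ph) :=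
      hfn.2 P' (isConj_symm F hconj)
    have hN'p : IsPGroup p (normalizerIn S P') := c.hS.to_le hNS
    have hNhp : IsPGroup p (normalizerIn S Ph) := c.hS.to_le hNhS
    obtain ⟨φ₀, h₀⟩ := exists_goodMark' c.hS F hXS (c.big X hXS hnX) (stabK X P' hP'X ⊤)
    have hinj₀ := F.injective_of_mem h₀.mem
    have hι : X.subtype ∈ F.Hom X := subtype_mem F hXS
    obtain ⟨χ₁, hχ₁, ψ₁, hψ₁, hψ₁e⟩ := exists_extension c.hS F h₀ hι
    obtain ⟨χ₂, hχ₂, ψ₂, hψ₂, hψ₂e⟩ := exists_extension c.hS F h₀ hφ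
    -- the first domain
    have hXD₁ : X ≤ nk S X (stabK X P' hP'X ⊤) X.subtype ⊔ X.subtype.range := by
      intro x hx
      exact le_sup_right (a := nk S X (stabK X P' hP'X ⊤) X.subtype)
        (show x ∈ X.subtype.range from ⟨⟨x, hx⟩, rfl⟩)
    have hD₁N : nk S X (stabK X P' hP'X ⊤) X.subtype ⊔ X.subtype.range ≤ normalizerIn S P' := by
      apply sup_le
      · intro y hy
        obtain ⟨h1, -, h3⟩ := (mem_nk_stabK_top_iff hP'X X.subtype_injective).mp hy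
        rw [im_subtype] at h3
        exact ⟨h1, h3⟩
      · rw [Subgroup.range_subtype]
        exact hXN
    have hD₁S := hD₁N.trans hNS
    haveI : Finite ↥(nk S X (stabK X P' hP'X ⊤) X.subtype ⊔ X.subtype.range) := finite_of_le hD₁S
    have hlt₁ : Nat.card X < Nat.card ↥(nk S X (stabK X P' hP'X ⊤) X.subtype ⊔ X.subtype.range) := by
      obtain ⟨g, hg, hgX⟩ := exists_mem_normalizerIn_not_mem hN'p hXN hXeq
      have hgnk : g ∈ nk S X (stabK X P' hP'X ⊤) X.subtype := by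
        rw [mem_nk_stabK_top_iff hP'X X.subtype_injective, im_subtype, Subgroup.range_subtype]
        exact ⟨hNS hg.1, hg.2, hg.1.2⟩
      by_contra hcon
      have heq := Subgroup.eq_of_le_of_card_ge hXD₁ (not_lt.mp hcon)
      apply hgX
      rw [heq]
      exact le_sup_left (b := X.subtype.range) hgnk
    -- the second domain
    have hYN : φ.range ≤ normalizerIn S Ph := by
      rintro _ ⟨x, rfl⟩
      refine ⟨hom_mem_S F hφ x, ?_⟩
      have h1 : (x : Ω) ∈ Subgroup.normalizer (P' : Set Ω) := (hXN x.2).2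
      haveI : Finite (im φ hP'X) := him ▸ inferInstance
      have := map_mem_normalizer_im hP'X φ x h1
      rwa [him] at this
    have hcardY : Nat.card X = Nat.card φ.range := card_eq_of_isConj F ⟨φ, hφ, rfl⟩
    have hXltN : Nat.card X < Nat.card (normalizerIn S P') := by
      by_contra hcon
      exact hXeq (Subgroup.eq_of_le_of_card_ge hXN (not_lt.mp hcon))
    have hYne : φ.range ≠ normalizerIn S Ph := by
      intro h
      rw [h] at hcardY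
      omega
    have hD₂N : nk S X (stabK X P' hP'X ⊤) φ ⊔ φ.range ≤ normalizerIn S Ph := by
      apply sup_le
      · intro y hy
        obtain ⟨h1, -, h3⟩ := (mem_nk_stabK_top_iff hP'X hinj).mp hy
        rw [him] at h3
        exact ⟨h1, h3⟩
      · exact hYN
    have hD₂S := hD₂N.trans hNhS
    haveI : Finite ↥(nk S X (stabK X P' hP'X ⊤) φ ⊔ φ.range) := finite_of_le hD₂S
    have hlt₂ : Nat.card X < Nat.card ↥(nk S X (stabK X P' hP'X ⊤) φ ⊔ φ.range) := by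
      obtain ⟨g, hg, hgY⟩ := exists_mem_normalizerIn_not_mem hNhp hYN hYne
      have hgnk : g ∈ nk S X (stabK X P' hP'X ⊤) φ := by
        rw [mem_nk_stabK_top_iff hP'X hinj, him]
        exact ⟨hNhS hg.1, hg.2, hg.1.2⟩
      rw [hcardY]
      by_contra hcon
      have heq := Subgroup.eq_of_le_of_card_ge
        (le_sup_right (a := nk S X (stabK X P' hP'X ⊤) φ) (b := φ.range)) (not_lt.mp hcon)
      apply hgY
      rw [heq]
      exact le_sup_left (b := φ.range) hgnk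
    -- the image of `P'` under the good marking
    have hPtconj : F.IsConj P' (im φ₀ hP'X) := ⟨_, restrict_mem F h₀.mem hP'X, rfl⟩
    have hPtS : im φ₀ hP'X ≤ S := isConj_le_right F hPtconj
    haveI : Finite (im φ₀ hP'X) := finite_of_le hPtS
    have hcardPt : Nat.card (im φ₀ hP'X) = n := by
      rw [← card_eq_of_isConj F hPtconj, hnP']
    -- `ψ₂` and its inverse
    obtain ⟨ψ₂i, hψ₂i, hψ₂inv, hψ₂ir⟩ := inv_exists F hψ₂ rfl
    have hcardX₂ : Nat.card ↥(nk S X (stabK X P' hP'X ⊤) φ ⊔ φ.range) = Nat.card ψ₂.range :=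
      card_eq_of_isConj F ⟨ψ₂, hψ₂, rfl⟩
    have hX₂S : ψ₂.range ≤ S := range_le F hψ₂
    haveI : Finite ψ₂.range := finite_of_le hX₂S
    have hRD₂ : ∀ x : X, φ x ∈ nk S X (stabK X P' hP'X ⊤) φ ⊔ φ.range := fun x =>
      le_sup_right (a := nk S X (stabK X P' hP'X ⊤) φ) (show φ x ∈ φ.range from ⟨x, rfl⟩)
    -- elements of `Pt` as values of `ψ₂`
    have hPt₂ : ∀ w ∈ im φ₀ hP'X, ∃ u : P', ψ₂ ⟨φ ⟨u, hP'X u.2⟩, hRD₂ _⟩ = w := by
      rintro _ ⟨v, rfl⟩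
      obtain ⟨u, hu⟩ := stabK_exists_preimage hχ₂.1 v
      refine ⟨u, ?_⟩
      rw [hψ₂e, hu]
      rfl
    have hψ₂Pt : ∀ u : P', ψ₂ ⟨φ ⟨u, hP'X u.2⟩, hRD₂ _⟩ ∈ im φ₀ hP'X := by
      intro u
      rw [hψ₂e]
      exact ⟨⟨_, stabK_apply_mem hχ₂.1 u⟩, rfl⟩
    have hPtX₂ : im φ₀ hP'X ≤ ψ₂.range := by
      intro w hw
      obtain ⟨u, rfl⟩ := hPt₂ w hw
      exact ⟨_, rfl⟩
    have hX₂N : ψ₂.range ≤ normalizerIn S (im φ₀ hP'X) := by
      rintro _ ⟨dd, rfl⟩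
      refine ⟨hom_mem_S F hψ₂ dd, ?_⟩
      apply mem_normalizer_of_conj_mem
      intro w hw
      obtain ⟨u, rfl⟩ := hPt₂ w hw
      have hdN : (dd : Ω) ∈ Subgroup.normalizer (Ph : Set Ω) := (hD₂N dd.2).2
      have hmem : (dd : Ω) * φ ⟨u, hP'X u.2⟩ * (dd : Ω)⁻¹ ∈ Ph :=
        (Subgroup.mem_normalizer_iff.mp hdN _).mp (hmap u)
      obtain ⟨u', hu'⟩ := exists_preimage_of_card hP'X hinj hmap (by rw [hn, hnP']) _ hmem
      have e : ψ₂ dd * ψ₂ ⟨φ ⟨u, hP'X u.2⟩, hRD₂ _⟩ * (ψ₂ dd)⁻¹ =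
          ψ₂ ⟨φ ⟨u', hP'X u'.2⟩, hRD₂ _⟩ := by
        rw [← map_inv, ← map_mul, ← map_mul]
        congr 1
        apply Subtype.ext
        exact hu'.symm
      rw [e]
      exact hψ₂Pt u'
    have hmap₂ : ∀ v : ↥(im φ₀ hP'X), ψ₂i ⟨v, hPtX₂ v.2⟩ ∈ Ph := by
      rintro ⟨w, hw⟩
      obtain ⟨u, rfl⟩ := hPt₂ w hw
      rw [hψ₂inv]
      exact hmap u
    have hcardS₂ : Nat.card ψ₂.range ≤ Nat.card S := Subgroup.card_le_of_le hX₂S
    obtain ⟨ψ₃, hψ₃, hψ₃e⟩ := ih (Nat.card S - Nat.card ψ₂.range) (by omega) (im φ₀ hP'X) ψ₂.range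
      ψ₂i rfl hψ₂i hPtX₂ hX₂N (by omega) hcardPt hmap₂
    -- compose `ψ₃ ∘ ψ₁`
    have hXD₁' : ∀ x : X, X.subtype x ∈ nk S X (stabK X P' hP'X ⊤) X.subtype ⊔ X.subtype.range :=
      fun x => hXD₁ x.2
    have hPt₁ : ∀ w ∈ im φ₀ hP'X, ∃ u : P', ψ₁ ⟨X.subtype ⟨u, hP'X u.2⟩, hXD₁' _⟩ = w := by
      rintro _ ⟨v, rfl⟩
      obtain ⟨u, hu⟩ := stabK_exists_preimage hχ₁.1 v
      refine ⟨u, ?_⟩
      rw [hψ₁e, hu]
      rfl
    have hψ₁Pt : ∀ u : P', ψ₁ ⟨X.subtype ⟨u, hP'X u.2⟩, hXD₁' _⟩ ∈ im φ₀ hP'X := by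
      intro u
      rw [hψ₁e]
      exact ⟨⟨_, stabK_apply_mem hχ₁.1 u⟩, rfl⟩
    have hm : ∀ dd : ↥(nk S X (stabK X P' hP'X ⊤) X.subtype ⊔ X.subtype.range),
        ψ₁ dd ∈ normalizerIn S (im φ₀ hP'X) := by
      intro dd
      refine ⟨hom_mem_S F hψ₁ dd, ?_⟩
      apply mem_normalizer_of_conj_mem
      intro w hw
      obtain ⟨u, rfl⟩ := hPt₁ w hw
      have hdN : (dd : Ω) ∈ Subgroup.normalizer (P' : Set Ω) := (hD₁N dd.2).2
      have hmem : (dd : Ω) * (u : Ω) * (dd : Ω)⁻¹ ∈ P' :=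
        (Subgroup.mem_normalizer_iff.mp hdN _).mp u.2
      have e : ψ₁ dd * ψ₁ ⟨X.subtype ⟨u, hP'X u.2⟩, hXD₁' _⟩ * (ψ₁ dd)⁻¹ =
          ψ₁ ⟨X.subtype ⟨(⟨_, hmem⟩ : P'), hP'X hmem⟩, hXD₁' _⟩ := by
        rw [← map_inv, ← map_mul, ← map_mul]
        rfl
      rw [e]
      exact hψ₁Pt ⟨_, hmem⟩
    obtain ⟨θ₁, hθ₁, hθ₁e⟩ := comp_mem' F hψ₁ hψ₃ hm
    have hP'D₁ : P' ≤ nk S X (stabK X P' hP'X ⊤) X.subtype ⊔ X.subtype.range := hP'X.trans hXD₁
    have hmap₁ : ∀ v : P', θ₁ ⟨v, hP'D₁ v.2⟩ ∈ Ph := by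
      intro v
      rw [hθ₁e]
      exact hψ₃e ⟨_, hψ₁Pt v⟩ _
    have hcardS₁ : Nat.card ↥(nk S X (stabK X P' hP'X ⊤) X.subtype ⊔ X.subtype.range) ≤ Nat.card S :=
      Subgroup.card_le_of_le hD₁S
    exact ih (Nat.card S - Nat.card ↥(nk S X (stabK X P' hP'X ⊤) X.subtype ⊔ X.subtype.range))
      (by omega) P' _ θ₁ rfl hθ₁ hP'D₁ hD₁N (by omega) hnP' hmap₁

/-- Lemma A along generated maps. -/
theorem lemmaA_gen [Finite S] {p : ℕ} [Fact p.Prime] {F : FusionSystem S}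
    {ℋ : Set (Subgroup Ω)} {n : ℕ} (c : Ctx F p ℋ n) {Ph : Subgroup Ω}
    (hfn : F.IsFullyNormalized Ph) (hn : Nat.card Ph = n) {P : Subgroup Ω} {φ : P →* Ω}
    (h : GenH F ℋ P φ) :
    ∀ (P' W : Subgroup Ω) (hP'P : P' ≤ P), Nat.card P' = n → P' ∉ ℋ → im φ hP'P = W →
      (∃ ψ ∈ F.Hom (normalizerIn S W),
        ∀ (v : W) (hv : (v : Ω) ∈ normalizerIn S W), ψ ⟨v, hv⟩ ∈ Ph) →
      ∃ ψ' ∈ F.Hom (normalizerIn S P'),
        ∀ (v : P') (hv : (v : Ω) ∈ normalizerIn S P'), ψ' ⟨v, hv⟩ ∈ Ph := by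
  induction h with
  | @base P Q hQ φ hφ hPQ =>
    intro P' W hP'P hnP' hP'H him ⟨ψ, hψ, hψe⟩
    have hQS : Q ≤ S := hom_le F hφ
    have hP'Q : P' ≤ Q := hP'P.trans hPQ
    haveI : Finite Q := finite_of_le hQS
    haveI : Finite P' := finite_of_le (hP'Q.trans hQS)
    have hQp : IsPGroup p Q := c.hS.to_le hQS
    have hne : P' ≠ Q := fun h => hP'H (h ▸ hQ)
    have him' : im φ hP'Q = W := him
    have hWS : W ≤ S := him' ▸ range_le F (restrict_mem F hφ hP'Q)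
    haveI : Finite W := finite_of_le hWS
    obtain ⟨g, hg, hgP'⟩ := exists_mem_normalizerIn_not_mem hQp hP'Q hne
    have hXQ : normalizerIn Q P' ≤ Q := normalizerIn_le Q P'
    have hXS : normalizerIn Q P' ≤ S := hXQ.trans hQS
    haveI : Finite (normalizerIn Q P') := finite_of_le hXS
    have hP'X : P' ≤ normalizerIn Q P' := le_normalizerIn hP'Q
    have hXN : normalizerIn Q P' ≤ normalizerIn S P' := fun x hx => ⟨hQS hx.1, hx.2⟩
    have hlt : n < Nat.card (normalizerIn Q P') := by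
      rw [← hnP']
      by_contra hcon
      have heq := Subgroup.eq_of_le_of_card_ge hP'X (not_lt.mp hcon)
      apply hgP'
      rw [heq]
      exact hg
    have hm : ∀ x : normalizerIn Q P',
        (φ.comp (Subgroup.inclusion hXQ)) x ∈ normalizerIn S W := by
      intro x
      refine ⟨hom_mem_S F hφ _, ?_⟩
      haveI : Finite (im φ hP'Q) := him' ▸ inferInstance
      have := map_mem_normalizer_im hP'Q φ (Subgroup.inclusion hXQ x) x.2.2
      rwa [him'] at this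
    obtain ⟨θ, hθ, hθe⟩ := comp_mem' F (restrict_mem F hφ hXQ) hψ hm
    refine lemmaA_aux c hfn hn _ P' _ θ rfl hθ hP'X hXN hlt hnP' (fun v => ?_)
    rw [hθe]
    have hvW : (φ.comp (Subgroup.inclusion hXQ)) ⟨v, hP'X v.2⟩ ∈ W := by
      rw [← him']
      exact ⟨v, rfl⟩
    exact hψe ⟨_, hvW⟩ _
  | @comp P Q φ ψ hφ hψ h ih1 ih2 =>
    intro P' W hP'P hnP' hP'H him hex
    have hφF : φ ∈ F.Hom P := hφ.mem_hom
    have hP₁Q : im φ hP'P ≤ Q := by
      rintro _ ⟨v, rfl⟩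
      exact h _
    have hconj₁ : F.IsConj P' (im φ hP'P) := ⟨_, restrict_mem F hφF hP'P, rfl⟩
    have hcard₁ : Nat.card ↥(im φ hP'P) = n := by
      rw [← card_eq_of_isConj F hconj₁, hnP']
    have hP₁H : im φ hP'P ∉ ℋ := fun hc => hP'H (c.conj _ hc _ (isConj_symm F hconj₁))
    have him₂ : im ψ hP₁Q = W := by
      rw [← him]
      ext x
      constructor
      · rintro ⟨⟨_, v, rfl⟩, rfl⟩
        exact ⟨v, rfl⟩
      · rintro ⟨v, rfl⟩
        exact ⟨⟨_, v, rfl⟩, rfl⟩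
    have h2 := ih2 (im φ hP'P) W hP₁Q hcard₁ hP₁H him₂ hex
    exact ih1 P' (im φ hP'P) hP'P hnP' hP'H rfl h2

/-- **Lemma A**: every member of the class of a fully normalized `P̂ ∉ ℋ` admits a map of the
system from its normalizer carrying it onto `P̂`. -/
theorem lemmaA [Finite S] {p : ℕ} [Fact p.Prime] {F : FusionSystem S}
    {ℋ : Set (Subgroup Ω)} {n : ℕ} (c : Ctx F p ℋ n) {Ph : Subgroup Ω}
    (hfn : F.IsFullyNormalized Ph) (hn : Nat.card Ph = n) (hPhH : Ph ∉ ℋ)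
    {P' : Subgroup Ω} (hc : F.IsConj P' Ph) :
    ∃ ψ ∈ F.Hom (normalizerIn S P'),
      ∀ (v : P') (hv : (v : Ω) ∈ normalizerIn S P'), ψ ⟨v, hv⟩ ∈ Ph := by
  obtain ⟨φ, hφ, hr⟩ := hc
  have hc' : F.IsConj P' Ph := ⟨φ, hφ, hr⟩
  have hnP' : Nat.card P' = n := by rw [card_eq_of_isConj F hc', hn]
  have hP'H : P' ∉ ℋ := fun h => hPhH (c.conj _ h _ hc')
  have him : im φ (le_refl P') = Ph := by
    rw [← hr]
    ext x
    constructor
    · rintro ⟨v, rfl⟩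
      exact ⟨v, rfl⟩
    · rintro ⟨v, rfl⟩
      exact ⟨v, rfl⟩
  refine lemmaA_gen c hfn hn (c.gen P' φ hφ) P' Ph le_rfl hnP' hP'H him ?_
  exact ⟨(normalizerIn S Ph).subtype, subtype_mem F (normalizerIn_le S Ph), fun v _ => v.2⟩

end Cfsg.Agent.Lib.Helper84.BC
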