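import Cfsg.Agent.Lib.Helper84.KNorm
import Cfsg.Agent.Lib.Helper85.RobertsShpectorov

/-!
# Local versions of saturation lemmas (for the BCGLO saturation criterion)

The lemmas here are the versions of AKO I.2.6(c), AKO I.5.2 and of the Roberts-Shpectorov step in
which saturation of the whole system is replaced by the existence of a fully automized receptive
conjugate of the subgroup at hand.
-/

set_option autoImplicit false

namespace Cfsg.Agent.Lib.Helper84.BC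

open Cfsg Cfsg.FusionSystem Cfsg.Agent.Lib.Helper87 Cfsg.Agent.Lib.Helper85
open Cfsg.Agent.Lib.Helper84.KN

variable {Ω : Type*} [Group Ω] {S : Subgroup Ω}

/-- AKO I.2.6(c), second half: fully centralized subgroups with a fully automized receptive conjugate are
receptive (local version). -/
theorem receptive_of_fullyCentralized' [Finite S] {p : ℕ} [Fact p.Prime] (hS : IsPGroup p S)
    (F : FusionSystem S) {P : Subgroup Ω}
    (hsat : ∃ Q, F.IsConj P Q ∧ F.IsFullyAutomized p Q ∧ F.IsReceptive Q)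
    (hfc : F.IsFullyCentralized P) :
    F.IsReceptive P := by
  have hP : P ≤ S := hfc.1
  obtain ⟨Q, hc, hfa, hrec⟩ := hsat
  obtain ⟨ψ, hψ, h1, h2, h3⟩ := exists_normalizer_map hS F hfa hrec hc
  have hPN : P ≤ normalizerIn S P := le_normalizerIn hP
  have hCN : centralizerIn S P ≤ normalizerIn S P := fun c hc =>
    ⟨hc.1, Subgroup.centralizer_le_normalizer _ hc.2⟩
  -- `ψ` maps `C_S(P)` onto `C_S(Q)`
  have hCmaps : ∀ c : centralizerIn S P, ψ (Subgroup.inclusion hCN c) ∈ centralizerIn S Q := by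
    intro c
    refine ⟨hom_mem_S F hψ _, ?_⟩
    intro q hq
    obtain ⟨x, hx, rfl⟩ := h3 q hq
    rw [← map_mul, ← map_mul]
    congr 1
    apply Subtype.ext
    exact c.2.2 x hx
  have hCsurj : ∀ c ∈ centralizerIn S Q, ∃ z : normalizerIn S P, ψ z = c := by
    have hfin : Finite (centralizerIn S Q) := finite_of_le (centralizerIn_le S Q)
    let f : centralizerIn S P → centralizerIn S Q := fun c => ⟨_, hCmaps c⟩
    have hf : Function.Injective f := by
      intro a b hab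
      have h5 : ψ (Subgroup.inclusion hCN a) = ψ (Subgroup.inclusion hCN b) :=
        congrArg Subtype.val hab
      exact Subgroup.inclusion_injective hCN (F.injective_of_mem hψ h5)
    have hbij := hf.bijective_of_nat_card_le (hfc.2 Q hc)
    intro c hc'
    obtain ⟨z, hz⟩ := hbij.2 ⟨c, hc'⟩
    exact ⟨Subgroup.inclusion hCN z, congrArg Subtype.val hz⟩
  refine ⟨hP, fun R θ hθ hrθ => ?_⟩
  have hmapsθ : ∀ x : R, θ x ∈ normalizerIn S P := fun x => hPN (hrθ.le ⟨x, rfl⟩)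
  have hρ := F.comp_mem hθ hψ hmapsθ
  set ρ : R →* Ω := ψ.comp (θ.codRestrict (normalizerIn S P) hmapsθ) with hρdef
  have hρapp : ∀ x : R, ρ x = ψ ⟨θ x, hmapsθ x⟩ := fun x => rfl
  have hrρ : ρ.range = Q := by
    apply le_antisymm
    · rintro _ ⟨x, rfl⟩
      exact h2 _ (hrθ.le ⟨x, rfl⟩)
    · intro q hq
      obtain ⟨y, hy, rfl⟩ := h3 q hq
      obtain ⟨x, hx⟩ := hrθ.ge hy
      refine ⟨x, ?_⟩
      rw [hρapp]
      congr 1
      exact Subtype.ext hx
  -- generators of the extender of `θ` give elements normalizing `P`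
  have hgen : ∀ g : Ω, g ∈ S → g ∈ Subgroup.normalizer (R : Set Ω) → ∀ h ∈ S,
      (∀ (x : R) (hx : g * (x : Ω) * g⁻¹ ∈ R), θ ⟨g * x * g⁻¹, hx⟩ = h * θ x * h⁻¹) →
      h ∈ normalizerIn S P := by
    intro g hgS hgN h hhS hh
    refine ⟨hhS, ?_⟩
    show h ∈ Subgroup.normalizer (P : Set Ω)
    rw [Subgroup.mem_normalizer_iff]
    intro n
    constructor
    · intro hn
      obtain ⟨x, rfl⟩ := hrθ.ge hn
      have hx : g * (x : Ω) * g⁻¹ ∈ R := (Subgroup.mem_normalizer_iff.mp hgN _).mp x.2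
      rw [← hh x hx]
      exact hrθ.le ⟨_, rfl⟩
    · intro hn
      obtain ⟨x', hx'⟩ := hrθ.ge hn
      have hx : g⁻¹ * (x' : Ω) * g ∈ R := by
        have := (Subgroup.mem_normalizer_iff.mp (Subgroup.inv_mem _ hgN) (x' : Ω)).mp x'.2
        simpa using this
      have hx2 : g * ((⟨g⁻¹ * (x' : Ω) * g, hx⟩ : R) : Ω) * g⁻¹ ∈ R := by
        have : g * (g⁻¹ * (x' : Ω) * g) * g⁻¹ = x' := by group
        show g * (g⁻¹ * (x' : Ω) * g) * g⁻¹ ∈ R
        rw [this]; exact x'.2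
      have h5 := hh ⟨g⁻¹ * (x' : Ω) * g, hx⟩ hx2
      have h6 : (⟨g * ((⟨g⁻¹ * (x' : Ω) * g, hx⟩ : R) : Ω) * g⁻¹, hx2⟩ : R) = x' := by
        apply Subtype.ext
        show g * (g⁻¹ * (x' : Ω) * g) * g⁻¹ = x'
        group
      rw [h6, hx'] at h5
      have h7 : n = θ ⟨g⁻¹ * (x' : Ω) * g, hx⟩ := by
        have := mul_left_cancel (mul_right_cancel h5)
        exact this
      rw [h7]
      exact hrθ.le ⟨_, rfl⟩
  -- the extender of `θ` is contained in the extender of `ρ`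
  have hNle : extender S R θ ≤ extender S R ρ := by
    apply (Subgroup.closure_le _).mpr
    rintro g ⟨hgS, hgN, h, hhS, hh⟩
    have hhN := hgen g hgS hgN h hhS hh
    refine Subgroup.subset_closure ⟨hgS, hgN, ψ ⟨h, hhN⟩, hom_mem_S F hψ _, fun x hx => ?_⟩
    rw [hρapp, hρapp, ← map_inv, ← map_mul, ← map_mul]
    congr 1
    apply Subtype.ext
    exact hh x hx
  obtain ⟨χ, hχ, hχe⟩ := extend_to_sub F hρ hrρ hrec hNle
  have hRN : R ≤ extender S R θ := self_le_extender F hθ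
  -- `χ` takes values in the image of `ψ`
  have hχrange : ∀ y : extender S R θ, χ y ∈ ψ.range := by
    rintro ⟨y, hy⟩
    refine Subgroup.closure_induction
      (p := fun y hy => χ ⟨y, hy⟩ ∈ ψ.range) ?_ ?_ ?_ ?_ hy
    · rintro g ⟨hgS, hgN, h, hhS, hh⟩
      have hhN := hgen g hgS hgN h hhS hh
      have hgE : g ∈ extender S R θ := Subgroup.subset_closure ⟨hgS, hgN, h, hhS, hh⟩
      have hcen : (ψ ⟨h, hhN⟩)⁻¹ * χ ⟨g, hgE⟩ ∈ centralizerIn S Q := by
        refine ⟨S.mul_mem (S.inv_mem (hom_mem_S F hψ _)) (hom_mem_S F hχ _), ?_⟩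
        intro q hq
        rw [← hrρ] at hq
        obtain ⟨x, rfl⟩ := hq
        have hx : g * (x : Ω) * g⁻¹ ∈ R := (Subgroup.mem_normalizer_iff.mp hgN _).mp x.2
        have e1 : χ ⟨g, hgE⟩ * ρ x * (χ ⟨g, hgE⟩)⁻¹ = ρ ⟨g * x * g⁻¹, hx⟩ := by
          rw [← hχe x x.2 (hRN x.2), ← hχe _ hx (hRN hx), ← map_inv, ← map_mul, ← map_mul]
          rfl
        have e2 : ρ ⟨g * x * g⁻¹, hx⟩ = ψ ⟨h, hhN⟩ * ρ x * (ψ ⟨h, hhN⟩)⁻¹ := by
          rw [hρapp, hρapp, ← map_inv, ← map_mul, ← map_mul]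
          congr 1
          apply Subtype.ext
          exact hh x hx
        rw [e2] at e1
        calc ρ x * ((ψ ⟨h, hhN⟩)⁻¹ * χ ⟨g, hgE⟩)
            = (ψ ⟨h, hhN⟩)⁻¹ * (ψ ⟨h, hhN⟩ * ρ x * (ψ ⟨h, hhN⟩)⁻¹) * χ ⟨g, hgE⟩ := by group
          _ = (ψ ⟨h, hhN⟩)⁻¹ * (χ ⟨g, hgE⟩ * ρ x * (χ ⟨g, hgE⟩)⁻¹) * χ ⟨g, hgE⟩ := by rw [e1]
          _ = (ψ ⟨h, hhN⟩)⁻¹ * χ ⟨g, hgE⟩ * ρ x := by group
      obtain ⟨z, hz⟩ := hCsurj _ hcen
      refine ⟨⟨h, hhN⟩ * z, ?_⟩
      rw [map_mul, hz]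
      group
    · have : (⟨1, Subgroup.one_mem _⟩ : extender S R θ) = 1 := rfl
      rw [this, map_one]
      exact Subgroup.one_mem _
    · intro a b ha hb iha ihb
      have : (⟨a * b, Subgroup.mul_mem _ ha hb⟩ : extender S R θ) = ⟨a, ha⟩ * ⟨b, hb⟩ := rfl
      rw [this, map_mul]
      exact Subgroup.mul_mem _ iha ihb
    · intro a ha iha
      have : (⟨a⁻¹, Subgroup.inv_mem _ ha⟩ : extender S R θ) = ⟨a, ha⟩⁻¹ := rfl
      rw [this, map_inv]
      exact Subgroup.inv_mem _ iha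
  obtain ⟨ψ', hψ', hψ'e⟩ := F.inv_mem hψ
  refine ⟨_, F.comp_mem hχ hψ' hχrange, fun x hR hN => ?_⟩
  show ψ' ⟨χ ⟨x, hN⟩, hχrange _⟩ = θ ⟨x, hR⟩
  have e1 : χ ⟨x, hN⟩ = ψ ⟨θ ⟨x, hR⟩, hmapsθ _⟩ := by
    rw [hχe x hR hN, hρapp]
  have e2 : (⟨χ ⟨x, hN⟩, hχrange _⟩ : ψ.range) = ⟨ψ ⟨θ ⟨x, hR⟩, hmapsθ _⟩, ⟨_, rfl⟩⟩ :=
    Subtype.ext e1
  rw [e2, hψ'e]

/-- In a saturated system every `(U, K)` has a good marking. -/
theorem exists_goodMark' [Finite S] {p : ℕ} [Fact p.Prime] (hS : IsPGroup p S)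
    (F : FusionSystem S) {U : Subgroup Ω} (hU : U ≤ S)
    (hsat : ∃ V, F.IsConj U V ∧ F.IsFullyAutomized p V ∧ F.IsReceptive V)
    (K : Subgroup (MulAut U)) : ∃ φ₀ : U →* Ω, GoodMark F p U K φ₀ := by
  obtain ⟨V, ⟨φ₁, hφ₁, hr⟩, hfa, hrec⟩ := hsat
  have hfinU : Finite U := finite_of_le hU
  have hV : V ≤ S := hfa.1
  have hfinV : Finite V := finite_of_le hV
  let e := isoOfHom φ₁ (F.injective_of_mem hφ₁) hr
  have he : ∀ x : U, ((e x : V) : Ω) = φ₁ x := fun x => rfl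
  obtain ⟨T₀⟩ : Nonempty (Sylow p ↥(K ⊓ F.autGroup U)) := inferInstance
  let T : Subgroup (MulAut U) :=
    (T₀ : Subgroup ↥(K ⊓ F.autGroup U)).map (K ⊓ F.autGroup U).subtype
  let T' : Subgroup (MulAut V) := T.map (MulAut.congr e).toMonoidHom
  have hT' : T' ≤ F.autGroup V := by
    rintro _ ⟨_, ⟨a, ha, rfl⟩, rfl⟩
    exact autGroup_congr_mem F hφ₁ hr e he a.2.2
  have hT'p : IsPGroup p T' := (T₀.2.map _).map _
  obtain ⟨β, hβ, hβT⟩ := exists_conj_into_autS F hfa T' hT' hT'p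
  have hβF : V.subtype.comp β.toMonoidHom ∈ F.Hom V :=
    (Cfsg.Agent.Lib.Helper87.mem_autGroup_iff F hV β).mp hβ
  have hm : ∀ x : U, φ₁ x ∈ V := fun x => hr.le ⟨x, rfl⟩
  obtain ⟨φ₀, hφ₀, hφ₀e⟩ := comp_mem' F hφ₁ hβF hm
  have hφ₀e' : ∀ x : U, φ₀ x = ((β (e x) : V) : Ω) := fun x => by rw [hφ₀e]; rfl
  have hφ₀r : φ₀.range = V := by
    apply le_antisymm
    · rintro _ ⟨x, rfl⟩
      rw [hφ₀e']
      exact (β (e x)).2
    · intro v hv
      refine ⟨e.symm (β⁻¹ ⟨v, hv⟩), ?_⟩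
      rw [hφ₀e']
      simp
  have hTb : ∀ a ∈ T₀, (a : MulAut U) ∈ bk S U K φ₀ := by
    intro a ha
    have h1 : β * (MulAut.congr e a.1) * β⁻¹ ∈ autInducedBy S V :=
      hβT _ ⟨a.1, ⟨a, ha, rfl⟩, rfl⟩
    obtain ⟨y, hyS, hy⟩ := (Cfsg.Agent.Lib.Helper87.mem_autInducedBy_iff S V _).mp h1
    refine ⟨a.2.1, y, hyS, fun x => ?_⟩
    have h2 := hy (β (e x))
    rw [hφ₀e', hφ₀e', ← h2]
    have h3 : (β * (MulAut.congr e a.1) * β⁻¹) (β (e x)) = β (e ((a : MulAut U) x)) := by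
      show β ((MulAut.congr e a.1) (β⁻¹ (β (e x)))) = _
      have h4 : β⁻¹ (β (e x)) = e x := by simp
      rw [h4]
      show β (e ((a : MulAut U) (e.symm (e x)))) = _
      rw [MulEquiv.symm_apply_apply]
    rw [h3]
  have hbp : IsPGroup p ((bk S U K φ₀).subgroupOf (K ⊓ F.autGroup U)) :=
    (bk_isPGroup hS K (F.injective_of_mem hφ₀)).comap_of_injective _
      (Subgroup.subtype_injective _)
  have hle : (T₀ : Subgroup ↥(K ⊓ F.autGroup U)) ≤
      (bk S U K φ₀).subgroupOf (K ⊓ F.autGroup U) := fun a ha =>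
    Subgroup.mem_subgroupOf.mpr (hTb a ha)
  have heq := T₀.is_maximal' hbp hle
  refine ⟨φ₀, hφ₀, hφ₀r ▸ hrec, T₀, fun a => ?_⟩
  constructor
  · intro ha
    exact hTb a ha
  · intro ha
    have : a ∈ (bk S U K φ₀).subgroupOf (K ⊓ F.autGroup U) := Subgroup.mem_subgroupOf.mpr ha
    rw [heq] at this
    exact this


open scoped Pointwise in
/-- AKO I.5.2 (a) ⇒ (b): if `U` is fully `K`-normalized in a saturated system, the inclusion is a
good marking: `U` is receptive and the automorphisms in `K` induced by `S` form a Sylow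
`p`-subgroup of `K ⊓ Aut_F(U)`. -/
theorem goodMark_subtype' [Finite S] {p : ℕ} [Fact p.Prime] (hS : IsPGroup p S)
    (F : FusionSystem S) {U : Subgroup Ω} (hU : U ≤ S)
    (hsat : ∃ V, F.IsConj U V ∧ F.IsFullyAutomized p V ∧ F.IsReceptive V)
    (K : Subgroup (MulAut U))
    (hfull : ∀ φ ∈ F.Hom U, Nat.card (nk S U K φ) ≤ Nat.card (nk S U K U.subtype)) :
    GoodMark F p U K U.subtype := by
  obtain ⟨φ₀, h₀⟩ := exists_goodMark' hS F hU hsat K
  have hι : U.subtype ∈ F.Hom U := Cfsg.Agent.Lib.Helper87.subtype_mem F hU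
  obtain ⟨χ, hχ, ψ, hψ, hψe⟩ := exists_extension hS F h₀ hι
  have hcard := hfull φ₀ h₀.mem
  have hsurj := exists_preimage_of_card_le F hψ hχ.1 le_rfl hψe hcard
  have hfinU : Finite U := finite_of_le hU
  have hinj₀ := F.injective_of_mem h₀.mem
  have hND : nk S U K U.subtype ≤ nk S U K U.subtype ⊔ U.subtype.range := le_sup_left
  have hRD : U.subtype.range ≤ nk S U K U.subtype ⊔ U.subtype.range := le_sup_right
  refine ⟨hι, ?_, ?_⟩
  · -- receptive
    rw [Subgroup.range_subtype]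
    apply receptive_of_fullyCentralized' hS F hsat
    refine ⟨hU, fun U' hU' => ?_⟩
    have hV : F.IsConj U φ₀.range := ⟨φ₀, h₀.mem, rfl⟩
    have hVfc := fullyCentralized_of_receptive F h₀.recep
    have h1 := hVfc.2 U' (Cfsg.Agent.Lib.Helper87.isConj_trans F
      (Cfsg.Agent.Lib.Helper87.isConj_symm F hV) hU')
    refine h1.trans ?_
    have hfin : Finite (centralizerIn S U) := finite_of_le (centralizerIn_le S U)
    have hcnk : ∀ c : centralizerIn S φ₀.range, (c : Ω) ∈ nk S U K φ₀ := by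
      intro c
      refine ⟨c.2.1, 1, K.one_mem, fun x => ?_⟩
      have h2 : φ₀ x * (c : Ω) = (c : Ω) * φ₀ x := c.2.2 (φ₀ x) ⟨x, rfl⟩
      show (c : Ω) * φ₀ x * (c : Ω)⁻¹ = φ₀ x
      rw [← h2]
      group
    have hex : ∀ c : centralizerIn S φ₀.range, ∃ (y : Ω) (hy : y ∈ nk S U K U.subtype),
        ψ ⟨y, hND hy⟩ = c := fun c => hsurj c (hcnk c)
    choose g hg hgc using hex
    have hgC : ∀ c : centralizerIn S φ₀.range, g c ∈ centralizerIn S U := by
      intro c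
      refine ⟨(hg c).1, ?_⟩
      intro x hx
      have hxD : x ∈ nk S U K U.subtype ⊔ U.subtype.range := hRD ⟨⟨x, hx⟩, rfl⟩
      have h3 : ψ ⟨x, hxD⟩ = φ₀ (χ ⟨x, hx⟩) := hψe ⟨x, hx⟩ hxD
      have h4 : ψ ⟨x, hxD⟩ * ψ ⟨g c, hND (hg c)⟩ = ψ ⟨g c, hND (hg c)⟩ * ψ ⟨x, hxD⟩ := by
        rw [hgc c, h3]
        exact c.2.2 _ ⟨_, rfl⟩
      rw [← map_mul, ← map_mul] at h4
      have h5 := F.injective_of_mem hψ h4
      exact congrArg Subtype.val h5
    let f : centralizerIn S φ₀.range → centralizerIn S U := fun c => ⟨g c, hgC c⟩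
    have hf : Function.Injective f := by
      intro a b hab
      have h6 : g a = g b := congrArg (fun z : centralizerIn S U => (z : Ω)) hab
      apply Subtype.ext
      rw [← hgc a, ← hgc b]
      congr 1
      exact Subtype.ext h6
    exact Nat.card_le_card_of_injective f hf
  · -- Sylow
    obtain ⟨R₀, hR₀⟩ := h₀.syl
    have hiff : ∀ a : MulAut U, a ∈ bk S U K U.subtype ↔ χ * a * χ⁻¹ ∈ bk S U K φ₀ := by
      intro a
      constructor
      · rintro ⟨haK, y, hyS, hy⟩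
        have hynk : y ∈ nk S U K U.subtype := ⟨hyS, a, haK, hy⟩
        refine ⟨K.mul_mem (K.mul_mem hχ.1 haK) (K.inv_mem hχ.1), ψ ⟨y, hND hynk⟩,
          hom_mem_S F hψ _, fun z => ?_⟩
        exact conj_map ψ χ hRD hψe (hND hynk) hy z
      · rintro ⟨hk'K, y', hy'S, hy'⟩
        have hy'nk : y' ∈ nk S U K φ₀ := ⟨hy'S, _, hk'K, hy'⟩
        obtain ⟨y, hynk, hyψ⟩ := hsurj y' hy'nk
        obtain ⟨hyS, k, hkK, hk⟩ := hynk
        have h7 : ∀ z : U, y' * φ₀ z * y'⁻¹ = φ₀ ((χ * k * χ⁻¹) z) := by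
          intro z
          rw [← hyψ]
          exact conj_map ψ χ hRD hψe _ hk z
        have h8 : χ * a * χ⁻¹ = χ * k * χ⁻¹ := eq_of_conj_eq hinj₀ hy' h7
        have h9 : a = k := by
          have := congrArg (fun t => χ⁻¹ * t * χ) h8
          simpa [mul_assoc] using this
        rw [h9]
        exact ⟨hkK, y, hyS, hk⟩
    refine ⟨(⟨χ, hχ⟩ : ↥(K ⊓ F.autGroup U))⁻¹ • R₀, fun a => ?_⟩
    rw [hiff]
    have h12 := hR₀ (⟨χ * (a : MulAut U) * χ⁻¹, (K ⊓ F.autGroup U).mul_mem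
          ((K ⊓ F.autGroup U).mul_mem hχ a.2) ((K ⊓ F.autGroup U).inv_mem hχ)⟩ :
            ↥(K ⊓ F.autGroup U))
    rw [← h12]
    have h10 : a ∈ ((⟨χ, hχ⟩ : ↥(K ⊓ F.autGroup U))⁻¹ • R₀ : Sylow p ↥(K ⊓ F.autGroup U)) ↔
        a ∈ MulAut.conj (⟨χ, hχ⟩ : ↥(K ⊓ F.autGroup U))⁻¹ •
          (R₀ : Subgroup ↥(K ⊓ F.autGroup U)) := Iff.rfl
    rw [h10, Subgroup.mem_pointwise_smul_iff_inv_smul_mem]
    have h11 : (MulAut.conj (⟨χ, hχ⟩ : ↥(K ⊓ F.autGroup U))⁻¹)⁻¹ • a =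
        (⟨χ * (a : MulAut U) * χ⁻¹, (K ⊓ F.autGroup U).mul_mem
          ((K ⊓ F.autGroup U).mul_mem hχ a.2) ((K ⊓ F.autGroup U).inv_mem hχ)⟩ :
            ↥(K ⊓ F.autGroup U)) := by
      apply Subtype.ext
      simp [MulAut.smul_def, MulAut.conj_apply]
    rw [h11]
    rfl


/-- Roberts–Shpectorov step, local form: a fully normalized receptive subgroup `P ≠ S` whose
normalizer has a fully automized conjugate is fully automized. -/
theorem fullyAutomized_of_receptive' [Finite S] {p : ℕ} [Fact p.Prime]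
    (hS : IsPGroup p S) (F : FusionSystem S) {P : Subgroup Ω} (hfn : F.IsFullyNormalized P)
    (hrec : F.IsReceptive P)
    (hN : ∃ N', F.IsConj (normalizerIn S P) N' ∧ F.IsFullyAutomized p N') :
    F.IsFullyAutomized p P := by
  have hP : P ≤ S := hfn.1
  have hPN : P ≤ normalizerIn S P := le_normalizerIn hP
  have hNS : normalizerIn S P ≤ S := normalizerIn_le S P
  haveI : Finite P := finite_of_le hP
  haveI : Finite (normalizerIn S P) := finite_of_le hNS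
  have hASle : autInducedBy S P ≤ F.autGroup P := autInducedBy_le_autGroup F hP
  have hASp : IsPGroup p (autInducedBy S P) := autInducedBy_isPGroup hS P
  have hASp' : IsPGroup p ((autInducedBy S P).subgroupOf (F.autGroup P)) :=
    hASp.comap_of_injective _ (Subgroup.subtype_injective _)
  obtain ⟨R, hR⟩ := hASp'.exists_le_sylow
  have hXp : IsPGroup p ((R : Subgroup (F.autGroup P)).map (F.autGroup P).subtype) :=
    R.isPGroup'.map _
  have hXA : (R : Subgroup (F.autGroup P)).map (F.autGroup P).subtype ≤ F.autGroup P := by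
    rintro _ ⟨β, -, rfl⟩
    exact β.2
  have hASX : autInducedBy S P ≤ (R : Subgroup (F.autGroup P)).map (F.autGroup P).subtype :=
    fun β hβ => ⟨⟨β, hASle hβ⟩, hR (Subgroup.mem_subgroupOf.mpr hβ), rfl⟩
  by_cases hEq : autInducedBy S P = (R : Subgroup (F.autGroup P)).map (F.autGroup P).subtype
  · refine ⟨hP, R, ?_⟩
    ext ⟨β, hβA⟩
    constructor
    · intro hβ
      rw [Subgroup.mem_subgroupOf, hEq]
      exact ⟨⟨β, hβA⟩, hβ, rfl⟩
    · intro hβ
      exact hR hβ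
  · exfalso
    obtain ⟨α, hαN, hαAS⟩ := exists_mem_normalizerIn_not_mem hXp hASX hEq
    have hαA : α ∈ F.autGroup P := hXA hαN.1
    have hnorm : ∀ β ∈ autInducedBy S P, α * β * α⁻¹ ∈ autInducedBy S P :=
      fun β hβ => (Subgroup.mem_normalizer_iff.mp hαN.2 β).mp hβ
    obtain ⟨ψ, hψ, hψres⟩ := exists_aut_normalizer_extending F hP hrec hαA hnorm
    have hpos : 0 < orderOf ψ := orderOf_pos ψ
    obtain ⟨a, m, hm, hord⟩ :=
      Nat.exists_eq_pow_mul_and_not_dvd hpos.ne' p (Nat.Prime.ne_one Fact.out)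
    have hcop : m.Coprime p := by
      rw [Nat.coprime_comm]
      exact (Nat.Prime.coprime_iff_not_dvd Fact.out).mpr hm
    have h1 : (ψ ^ m) ^ (p ^ a) = 1 := by
      rw [← pow_mul, mul_comm, ← hord, pow_orderOf_eq_one]
    have hres₁ : ∀ x : P, (((ψ ^ m) ⟨x, hPN x.2⟩ : normalizerIn S P) : Ω) = (α ^ m) x :=
      fun x => pow_restrict hPN ψ α hψres m x
    obtain ⟨N', hc, hfaN'⟩ := hN
    have key := aut_induced_of_extension F hfn hc hfaN' (ψ ^ m)
      (Subgroup.pow_mem _ hψ m) a h1 (α ^ m) hres₁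
    obtain ⟨b, hb⟩ := hXp ⟨α, hαN.1⟩
    have hαb : α ^ (p ^ b) = 1 := by
      have := congrArg Subtype.val hb
      simpa using this
    have hco : m.Coprime (orderOf α) :=
      Nat.Coprime.coprime_dvd_right (orderOf_dvd_of_pow_eq_one hαb) (Nat.Coprime.pow_right b hcop)
    obtain ⟨u, hu⟩ := exists_pow_eq_self_of_coprime hco
    apply hαAS
    rw [← hu]
    exact Subgroup.pow_mem _ key u

/-- A Sylow `p`-subgroup covers every quotient that is a `p`-group. -/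
theorem sylow_mul_normal {G : Type*} [Group G] [Finite G] {p : ℕ} [Fact p.Prime] (T : Sylow p G)
    (N : Subgroup G) [N.Normal] (h : ∀ g : G, ∃ m : ℕ, g ^ p ^ m ∈ N) (g : G) :
    ∃ t ∈ T, ∃ n ∈ N, g = t * n := by
  have hq : IsPGroup p (G ⧸ N) := by
    intro q
    induction q using QuotientGroup.induction_on with
    | H g =>
      obtain ⟨m, hm⟩ := h g
      refine ⟨m, ?_⟩
      rw [← QuotientGroup.mk_pow]
      exact (QuotientGroup.eq_one_iff _).mpr hm
  obtain ⟨k, hk⟩ := IsPGroup.iff_card.mp hq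
  have hidx : N.index = p ^ k := by
    rw [Subgroup.index_eq_card]; exact hk
  have h1 : ((T : Subgroup G) ⊔ N).index ∣ p ^ k := hidx ▸ Subgroup.index_dvd_of_le le_sup_right
  have h2 : ((T : Subgroup G) ⊔ N).index ∣ (T : Subgroup G).index :=
    Subgroup.index_dvd_of_le le_sup_left
  obtain ⟨j, -, hj⟩ := (Nat.dvd_prime_pow Fact.out).mp h1
  have hj0 : j = 0 := by
    by_contra hne
    have : p ∣ ((T : Subgroup G) ⊔ N).index := by
      rw [hj]; exact dvd_pow_self p hne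
    exact T.not_dvd_index (this.trans h2)
  rw [hj0, pow_zero] at hj
  have htop : (T : Subgroup G) ⊔ N = ⊤ := Subgroup.index_eq_one.mp hj
  have hg : g ∈ (T : Subgroup G) ⊔ N := htop ▸ Subgroup.mem_top g
  obtain ⟨t, ht, n, hn, rfl⟩ := Subgroup.mem_sup_of_normal_right.mp hg
  exact ⟨t, ht, n, hn, rfl⟩

end Cfsg.Agent.Lib.Helper84.BC
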