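import Cfsg.Agent.Lib.Helper84.BCRec

/-!
# The BCGLO saturation criterion (AKO Theorem I.3.10): assembly
-/

set_option autoImplicit false
set_option linter.style.haveILetI false
set_option linter.unusedSectionVars false

namespace Cfsg.Agent.Lib.Helper84.BC

open Cfsg Cfsg.FusionSystem Cfsg.Agent.Lib.Helper87 Cfsg.Agent.Lib.Helper85
open Cfsg.Agent.Lib.Helper84.KN

variable {Ω : Type*} [Group Ω] {S : Subgroup Ω}

theorem pCore_map_mulEquiv_le {A B : Type*} [Group A] [Group B] (p : ℕ) (e : A ≃* B) :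
    (Cfsg.pCore p A).map e.toMonoidHom ≤ Cfsg.pCore p B := by
  rw [Subgroup.map_le_iff_le_comap]
  apply sSup_le
  rintro N ⟨hNn, hNp⟩
  rw [← Subgroup.map_le_iff_le_comap]
  apply le_sSup
  exact ⟨hNn.map _ e.surjective, hNp.map _⟩

variable [Finite S] {p : ℕ} [Fact p.Prime] {F : FusionSystem S} {ℋ : Set (Subgroup Ω)}
  {Ph : Subgroup Ω}

/-- The canonical normal `p`-subgroup `O_p(Aut_F(Ph))`. -/
abbrev KO (F : FusionSystem S) (p : ℕ) (Ph : Subgroup Ω) : Subgroup (MulAut Ph) :=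
  (pCore p (F.autGroup Ph)).map (F.autGroup Ph).subtype

theorem ctx2_of (c : Ctx F p ℋ (Nat.card Ph)) (hfn : F.IsFullyNormalized Ph) (hPhH : Ph ∉ ℋ) :
    Ctx2 F p ℋ Ph (KO F p Ph) where
  c := c
  hfn := hfn
  hPhH := hPhH
  hKA := by
    rintro _ ⟨k, -, rfl⟩
    exact k.2
  hKn := by
    rintro α hα _ ⟨k, hk, rfl⟩
    have hn := Cfsg.Agent.Lib.Helper87.pCore_normal p (F.autGroup Ph)
    exact ⟨_, hn.conj_mem k hk ⟨α, hα⟩, rfl⟩
  hKp := (Cfsg.Agent.Lib.Helper87.pCore_isPGroup p _).map _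
  hInn := inn_le_pCore c.hS F hfn.1

/-- Transport of `O_p(Aut_F(Q))` to `O_p(Aut_F(Ph))` along an isomorphism of the system. -/
theorem congr_mem_KO {Q : Subgroup Ω} {φ : Q →* Ω} (hφ : φ ∈ F.Hom Q) (hr : φ.range = Ph)
    (e : Q ≃* Ph) (he : ∀ x : Q, ((e x : Ph) : Ω) = φ x) {γ : MulAut Q} (hγ : γ ∈ KO F p Q) :
    MulAut.congr e γ ∈ KO F p Ph := by
  obtain ⟨γ', hγ', rfl⟩ := hγ
  let E' : ↥(F.autGroup Q) ≃* ↥(F.autGroup Ph) :=
    ((MulAut.congr e).subgroupMap (F.autGroup Q)).trans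
      (MulEquiv.subgroupCongr (autGroup_map_congr F hφ hr e he))
  have h1 : E' γ' ∈ pCore p ↥(F.autGroup Ph) :=
    pCore_map_mulEquiv_le p E' ⟨γ', hγ', rfl⟩
  exact ⟨E' γ', h1, rfl⟩

/-- A subgroup element outside `Q` acting on a conjugate `Q` through an element transported into
`K` shows that `P1` is strictly larger than `Ph`. -/
theorem P1_lt {K : Subgroup (MulAut Ph)} (h2 : Ctx2 F p ℋ Ph K) {Q : Subgroup Ω}
    (hc : F.IsConj Ph Q) {g : Ω} (hgS : g ∈ S) (hgN : g ∈ Subgroup.normalizer (Q : Set Ω))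
    (hgQ : g ∉ Q)
    (hK : ∀ (φ : Q →* Ω), φ ∈ F.Hom Q → φ.range = Ph → ∀ e : Q ≃* Ph,
      (∀ x : Q, ((e x : Ph) : Ω) = φ x) → MulAut.congr e (conjAut Q g hgN) ∈ K) :
    Nat.card Ph < Nat.card (P1 S Ph K) := by
  have hPhS := h2.hPh
  have hQS : Q ≤ S := isConj_le_right F hc
  haveI : Finite Ph := finite_of_le hPhS
  haveI : Finite Q := finite_of_le hQS
  haveI : Finite (P1 S Ph K) := finite_of_le (P1_le_S Ph K)
  have hcard : Nat.card Ph = Nat.card Q := card_eq_of_isConj F hc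
  obtain ⟨ψ, hψ, hψP⟩ := lemmaA h2.c h2.hfn rfl h2.hPhH (isConj_symm F hc)
  have hQN : Q ≤ normalizerIn S Q := le_normalizerIn hQS
  have hinj := F.injective_of_mem hψ
  have hφ : ψ.comp (Subgroup.inclusion hQN) ∈ F.Hom Q := restrict_mem F hψ hQN
  have hr : (ψ.comp (Subgroup.inclusion hQN)).range = Ph :=
    im_eq_of_card hQN hinj (fun v => hψP v _) hcard.le
  have hinjφ := F.injective_of_mem hφ
  let e : Q ≃* Ph := isoOfHom _ hinjφ hr
  have he : ∀ x : Q, ((e x : Ph) : Ω) = (ψ.comp (Subgroup.inclusion hQN)) x := fun x => rfl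
  have hk := hK _ hφ hr e he
  have hgNS : g ∈ normalizerIn S Q := ⟨hgS, hgN⟩
  have hy : ψ ⟨g, hgNS⟩ ∈ P1 S Ph K := by
    refine ⟨hom_mem_S F hψ _, _, hk, fun v => ?_⟩
    show ψ ⟨g, hgNS⟩ * (v : Ω) * (ψ ⟨g, hgNS⟩)⁻¹ =
      ((e (conjAut Q g hgN (e.symm v)) : Ph) : Ω)
    rw [he]
    have hv : (v : Ω) = ψ ⟨(e.symm v : Q), hQN (e.symm v).2⟩ := by
      have := he (e.symm v)
      rw [MulEquiv.apply_symm_apply] at this
      exact this
    rw [hv, ← map_inv, ← map_mul, ← map_mul]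
    show ψ _ = ψ _
    congr 1
  have hyPh : ψ ⟨g, hgNS⟩ ∉ Ph := by
    intro hmem
    rw [← hr] at hmem
    obtain ⟨u, hu⟩ := hmem
    have h3 : Subgroup.inclusion hQN u = ⟨g, hgNS⟩ := hinj hu
    apply hgQ
    have h4 := congrArg (fun t : normalizerIn S Q => (t : Ω)) h3
    simp only [Subgroup.coe_inclusion] at h4
    rw [← h4]
    exact u.2
  by_contra hcon
  have heq := Subgroup.eq_of_le_of_card_ge h2.le_P1 (not_lt.mp hcon)
  apply hyPh
  rw [heq]
  exact hy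

/-- The main induction: every subgroup of `S` has a fully automized receptive conjugate. -/
theorem exists_fa_receptive (hS : IsPGroup p S) (F : FusionSystem S) (ℋ : Set (Subgroup Ω))
    (hℋconj : ∀ P ∈ ℋ, ∀ Q, F.IsConj P Q → Q ∈ ℋ)
    (hsat : ∀ P ∈ ℋ, ∃ Q, F.IsConj P Q ∧ F.IsFullyAutomized p Q ∧ F.IsReceptive Q)
    (hgen : ∀ E : FusionSystem S, (∀ P ∈ ℋ, F.Hom P ⊆ E.Hom P) → F ≤ E)
    (hstar : ∀ P : Subgroup Ω, F.IsCentric P → P ∉ ℋ → ∃ Q, F.IsConj P Q ∧
      ¬ (autInducedBy S Q ⊓ (pCore p ↥(F.autGroup Q)).map (F.autGroup Q).subtype ≤ Inn Q)) :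
    ∀ d : ℕ, ∀ P : Subgroup Ω, P ≤ S → Nat.card S - Nat.card P = d →
      ∃ Q, F.IsConj P Q ∧ F.IsFullyAutomized p Q ∧ F.IsReceptive Q := by
  have hSℋ : S ∈ ℋ := top_mem F ℋ hstar
  have hgen' := all_gen F ℋ hℋconj hSℋ hgen
  intro d
  induction d using Nat.strong_induction_on with
  | _ d ih =>
  intro P hP hd
  by_cases hPℋ : P ∈ ℋ
  · exact hsat P hPℋ
  · haveI : Finite P := finite_of_le hP
    obtain ⟨Ph, hcP, hfn⟩ := exists_fullyNormalized_conj F hP
    have hPhS : Ph ≤ S := hfn.1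
    haveI : Finite Ph := finite_of_le hPhS
    have hcard : Nat.card P = Nat.card Ph := card_eq_of_isConj F hcP
    have hPhH : Ph ∉ ℋ := fun h => hPℋ (hℋconj _ h _ (isConj_symm F hcP))
    have c : Ctx F p ℋ (Nat.card Ph) := by
      refine ⟨hS, fun R hR hlt => ?_, hgen', hℋconj⟩
      haveI : Finite R := finite_of_le hR
      have hle : Nat.card R ≤ Nat.card S := Subgroup.card_le_of_le hR
      exact ih (Nat.card S - Nat.card R) (by omega) R hR rfl
    have h2 := ctx2_of c hfn hPhH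
    have hPhne : Ph ≠ S := fun h => hPhH (h ▸ hSℋ)
    -- `P1` is strictly larger
    have hlt : Nat.card Ph < Nat.card (P1 S Ph (KO F p Ph)) := by
      by_cases hcen : F.IsCentric Ph
      · obtain ⟨Q, hcQ, hne⟩ := hstar Ph hcen hPhH
        have hQS : Q ≤ S := isConj_le_right F hcQ
        haveI : Finite Q := finite_of_le hQS
        obtain ⟨γ, hγ, hγI⟩ := SetLike.not_le_iff_exists.mp hne
        obtain ⟨g, hgS, hg⟩ := (mem_autInducedBy_iff S Q γ).mp hγ.1
        have hgN : g ∈ Subgroup.normalizer (Q : Set Ω) := by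
          apply mem_normalizer_of_conj_mem
          intro k hk
          rw [← hg ⟨k, hk⟩]
          exact (γ _).2
        have hγeq : γ = conjAut Q g hgN := by
          ext x
          rw [hg, conjAut_coe]
        have hgQ : g ∉ Q := by
          intro hgQ
          apply hγI
          refine ⟨⟨g, hgQ⟩, ?_⟩
          ext x
          rw [hg]
          rfl
        refine P1_lt h2 hcQ hgS hgN hgQ (fun φ hφ hr e he => ?_)
        rw [← hγeq]
        exact congr_mem_KO hφ hr e he hγ.2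
      · have hcen' : ∃ Q, F.IsConj Ph Q ∧ ¬ centralizerIn S Q ≤ Q := by
          by_contra hcon
          apply hcen
          refine ⟨hPhS, fun Q hQ => ?_⟩
          by_contra hle
          exact hcon ⟨Q, hQ, hle⟩
        obtain ⟨Q, hcQ, hnle⟩ := hcen'
        obtain ⟨g, hg, hgQ⟩ := SetLike.not_le_iff_exists.mp hnle
        have hgN : g ∈ Subgroup.normalizer (Q : Set Ω) :=
          Subgroup.centralizer_le_normalizer _ hg.2
        refine P1_lt h2 hcQ hg.1 hgN hgQ (fun φ hφ hr e he => ?_)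
        have h1 : conjAut Q g hgN = 1 := by
          ext x
          rw [conjAut_coe]
          have := hg.2 x x.2
          show g * (x : Ω) * g⁻¹ = x
          rw [← this]
          group
        rw [h1, map_one]
        exact Subgroup.one_mem _
    have hrec : F.IsReceptive Ph := receptive_Ph h2 hlt
    have hNlt : Nat.card Ph < Nat.card (normalizerIn S Ph) :=
      card_lt_card_normalizerIn hS hPhS hPhne
    obtain ⟨N', hcN, hfaN, -⟩ := c.big (normalizerIn S Ph) (normalizerIn_le S Ph) hNlt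
    have hfa : F.IsFullyAutomized p Ph := fullyAutomized_of_receptive' hS F hfn hrec ⟨N', hcN, hfaN⟩
    exact ⟨Ph, hcP, hfa, hrec⟩

/-- **BCGLO saturation criterion** (AKO Theorem I.3.10). -/
theorem isSaturated_of_family (hS : IsPGroup p S) (F : FusionSystem S) (ℋ : Set (Subgroup Ω))
    (hℋconj : ∀ P ∈ ℋ, ∀ Q, F.IsConj P Q → Q ∈ ℋ)
    (hsat : ∀ P ∈ ℋ, ∃ Q, F.IsConj P Q ∧ F.IsFullyAutomized p Q ∧ F.IsReceptive Q)
    (hgen : ∀ E : FusionSystem S, (∀ P ∈ ℋ, F.Hom P ⊆ E.Hom P) → F ≤ E)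
    (hstar : ∀ P : Subgroup Ω, F.IsCentric P → P ∉ ℋ → ∃ Q, F.IsConj P Q ∧
      ¬ (autInducedBy S Q ⊓ (pCore p ↥(F.autGroup Q)).map (F.autGroup Q).subtype ≤ Inn Q)) :
    F.IsSaturated p := fun P hP =>
  exists_fa_receptive hS F ℋ hℋconj hsat hgen hstar _ P hP rfl

end Cfsg.Agent.Lib.Helper84.BC
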