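import Cfsg.Agent.Lib.Helper84.BCGenAut

/-!
# Receptivity of the fully normalized `P̂` (for the BCGLO criterion)
-/

set_option autoImplicit false
set_option linter.style.haveILetI false
set_option linter.unusedSectionVars false

namespace Cfsg.Agent.Lib.Helper84.BC

open Cfsg Cfsg.FusionSystem Cfsg.Agent.Lib.Helper87 Cfsg.Agent.Lib.Helper85
open Cfsg.Agent.Lib.Helper84.KN

variable {Ω : Type*} [Group Ω] {S : Subgroup Ω}

variable [Finite S] {p : ℕ} [Fact p.Prime] {F : FusionSystem S} {ℋ : Set (Subgroup Ω)}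
  {Ph : Subgroup Ω} {K : Subgroup (MulAut Ph)}

/-- The inclusion of `P1` is a good marking for the stabilizer of `Ph` acting through
`Aut_S(Ph)`. -/
theorem goodMark_P1 (h2 : Ctx2 F p ℋ Ph K) (hlt : Nat.card Ph < Nat.card (P1 S Ph K)) :
    GoodMark F p (P1 S Ph K) (stabK (P1 S Ph K) Ph h2.le_P1 (autInducedBy S Ph))
      (P1 S Ph K).subtype := by
  have hS := h2.c.hS
  have hPhS := h2.hPh
  have hP1S : P1 S Ph K ≤ S := P1_le_S Ph K
  have hNhS : normalizerIn S Ph ≤ S := normalizerIn_le S Ph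
  haveI : Finite Ph := finite_of_le hPhS
  haveI : Finite (P1 S Ph K) := finite_of_le hP1S
  haveI : Finite (normalizerIn S Ph) := finite_of_le hNhS
  have hNP1 := h2.normalizerIn_le_normalizer_P1
  apply goodMark_subtype' hS F hP1S (h2.c.big _ hP1S hlt)
  intro φ' hφ'
  have hinj' := F.injective_of_mem hφ'
  have h1 : normalizerIn S Ph ≤
      nk S (P1 S Ph K) (stabK (P1 S Ph K) Ph h2.le_P1 (autInducedBy S Ph)) (P1 S Ph K).subtype := by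
    intro y hy
    apply mem_nk_stabK h2.le_P1 _ (P1 S Ph K).subtype_injective hy.1
    · rw [Subgroup.range_subtype]
      exact hNP1 hy
    · exact ⟨conjAut Ph y hy.2, conjAut_mem_autInducedBy hy.1 hy.2, fun v => rfl⟩
  have hconj : F.IsConj Ph (im φ' h2.le_P1) := ⟨_, restrict_mem F hφ' h2.le_P1, rfl⟩
  have h2' : nk S (P1 S Ph K) (stabK (P1 S Ph K) Ph h2.le_P1 (autInducedBy S Ph)) φ' ≤
      normalizerIn S (im φ' h2.le_P1) := by
    intro y hy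
    obtain ⟨hyS, -, k, -, hk⟩ := exists_of_mem_nk_stabK h2.le_P1 _ hy
    refine ⟨hyS, ?_⟩
    exact mem_normalizer_range_of_aut (φ := φ'.comp (Subgroup.inclusion h2.le_P1)) (α := k)
      (fun u => hk u)
  have h3 := h2.hfn.2 _ hconj
  haveI : Finite (normalizerIn S (im φ' h2.le_P1)) := finite_of_le (normalizerIn_le S _)
  haveI : Finite ↥(nk S (P1 S Ph K) (stabK (P1 S Ph K) Ph h2.le_P1 (autInducedBy S Ph))
      (P1 S Ph K).subtype) := finite_of_le (nk_le _ _ _)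
  exact (Subgroup.card_le_of_le h2').trans (h3.trans (Subgroup.card_le_of_le h1))

/-- The inverse of an extension restricts to the inverse. -/
theorem ext_inv_apply {Ph Q : Subgroup Ω} (h : Ph ≤ Q) {β : MulAut Q} {α : MulAut Ph}
    (hβα : ∀ x : Ph, ((β ⟨x, h x.2⟩ : Q) : Ω) = α x) (x : Ph) :
    β⁻¹ ⟨x, h x.2⟩ = ⟨α⁻¹ x, h (α⁻¹ x).2⟩ := by
  have e : β ⟨α⁻¹ x, h (α⁻¹ x).2⟩ = ⟨x, h x.2⟩ := by
    apply Subtype.ext
    rw [hβα]
    simp
  rw [← e]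
  simp

theorem receptive_Ph (h2 : Ctx2 F p ℋ Ph K) (hlt : Nat.card Ph < Nat.card (P1 S Ph K)) :
    F.IsReceptive Ph := by
  have hS := h2.c.hS
  have hPhS := h2.hPh
  have hP1S : P1 S Ph K ≤ S := P1_le_S Ph K
  have hNhS : normalizerIn S Ph ≤ S := normalizerIn_le S Ph
  haveI : Finite Ph := finite_of_le hPhS
  haveI : Finite (P1 S Ph K) := finite_of_le hP1S
  haveI : Finite (normalizerIn S Ph) := finite_of_le hNhS
  have hNP1 := h2.normalizerIn_le_normalizer_P1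
  have hgood := goodMark_P1 h2 hlt
  have hAB := autGroup_le_extB h2
  refine ⟨hPhS, fun R φ hφ hr => ?_⟩
  have hRS : R ≤ S := hom_le F hφ
  haveI : Finite R := finite_of_le hRS
  have hcR : F.IsConj R Ph := ⟨φ, hφ, hr⟩
  have hcardR : Nat.card R = Nat.card Ph := card_eq_of_isConj F hcR
  obtain ⟨ψL, hψL, hψLP⟩ := lemmaA h2.c h2.hfn rfl h2.hPhH hcR
  have hRN : R ≤ normalizerIn S R := le_normalizerIn hRS
  have hf : ψL.comp (Subgroup.inclusion hRN) ∈ F.Hom R := restrict_mem F hψL hRN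
  have hfP : ∀ v : R, (ψL.comp (Subgroup.inclusion hRN)) v ∈ Ph := fun v => hψLP v _
  have hgP : ∀ v : R, φ v ∈ Ph := fun v => hr ▸ ⟨v, rfl⟩
  obtain ⟨α, hαA, hα⟩ := exists_aut_span F hf hφ hfP hgP hcardR.ge
  obtain ⟨β, hβ, hβα⟩ := hAB hαA
  have hinjL := F.injective_of_mem hψL
  have hsurjL := exists_preimage_of_card hRN hinjL (fun v => hψLP v _) hcardR.ge
  have himL : im ψL hRN = Ph := im_eq_of_card hRN hinjL (fun v => hψLP v _) hcardR.ge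
  -- the marking `μ = β⁻¹`
  have hμ : (P1 S Ph K).subtype.comp (β⁻¹).toMonoidHom ∈ F.Hom (P1 S Ph K) :=
    (Cfsg.Agent.Lib.Helper87.mem_autGroup_iff F hP1S β⁻¹).mp (Subgroup.inv_mem _ hβ)
  have hμinj := F.injective_of_mem hμ
  have hμr : ((P1 S Ph K).subtype.comp (β⁻¹).toMonoidHom).range = P1 S Ph K := by
    apply le_antisymm
    · rintro _ ⟨x, rfl⟩
      exact (β⁻¹ x).2
    · intro x hx
      exact ⟨β ⟨x, hx⟩, by simp⟩
  obtain ⟨χ, hχ, ψ', hψ', hψ'e⟩ := exists_extension hS F hgood hμ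
  obtain ⟨σ, hσ, hχσ⟩ := hχ.1
  obtain ⟨s, hsS, hs⟩ := (mem_autInducedBy_iff S Ph σ).mp hσ
  -- `ψ'` on `Ph`
  have hPhD : Ph ≤ nk S (P1 S Ph K) (stabK (P1 S Ph K) Ph h2.le_P1 (autInducedBy S Ph))
      ((P1 S Ph K).subtype.comp (β⁻¹).toMonoidHom) ⊔
        ((P1 S Ph K).subtype.comp (β⁻¹).toMonoidHom).range := by
    rw [hμr]
    exact h2.le_P1.trans le_sup_right
  have hψ'Ph : ∀ z : Ph, ψ' ⟨z, hPhD z.2⟩ = s * (α z : Ph) * s⁻¹ := by
    intro z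
    have e1 : ((P1 S Ph K).subtype.comp (β⁻¹).toMonoidHom) (β ⟨z, h2.le_P1 z.2⟩) = (z : Ω) := by
      show ((β⁻¹ (β ⟨z, h2.le_P1 z.2⟩) : P1 S Ph K) : Ω) = z
      simp
    have e2 := hψ'e (β ⟨z, h2.le_P1 z.2⟩) (by rw [e1]; exact hPhD z.2)
    have e3 : (⟨((P1 S Ph K).subtype.comp (β⁻¹).toMonoidHom) (β ⟨z, h2.le_P1 z.2⟩),
        (by rw [e1]; exact hPhD z.2)⟩ : ↥(nk S (P1 S Ph K)
          (stabK (P1 S Ph K) Ph h2.le_P1 (autInducedBy S Ph))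
          ((P1 S Ph K).subtype.comp (β⁻¹).toMonoidHom) ⊔
            ((P1 S Ph K).subtype.comp (β⁻¹).toMonoidHom).range)) = ⟨z, hPhD z.2⟩ :=
      Subtype.ext e1
    rw [e3] at e2
    rw [e2]
    have e4 : β ⟨z, h2.le_P1 z.2⟩ = ⟨α z, h2.le_P1 (α z).2⟩ := Subtype.ext (hβα z)
    rw [e4]
    show ((χ ⟨α z, h2.le_P1 (α z).2⟩ : P1 S Ph K) : Ω) = _
    rw [hχσ, hs]
  -- the image of the extender
  have hEN : extender S R φ ≤ normalizerIn S R := Cfsg.Agent.Lib.Helper84.extender_le R φ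
  have hLN : ∀ x : normalizerIn S R, ψL x ∈ normalizerIn S Ph := by
    intro x
    refine ⟨hom_mem_S F hψL x, ?_⟩
    haveI : Finite (im ψL hRN) := by rw [himL]; infer_instance
    have := map_mem_normalizer_im hRN ψL x x.2.2
    rwa [himL] at this
  have hnk : ∀ g (hg : g ∈ extender S R φ), ψL ⟨g, hEN hg⟩ ∈
      nk S (P1 S Ph K) (stabK (P1 S Ph K) Ph h2.le_P1 (autInducedBy S Ph))
        ((P1 S Ph K).subtype.comp (β⁻¹).toMonoidHom) := by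
    intro g hg
    refine Subgroup.closure_induction
      (p := fun g hg => ψL ⟨g, hEN hg⟩ ∈
        nk S (P1 S Ph K) (stabK (P1 S Ph K) Ph h2.le_P1 (autInducedBy S Ph))
          ((P1 S Ph K).subtype.comp (β⁻¹).toMonoidHom)) ?_ ?_ ?_ ?_ hg
    · rintro g ⟨hgS, hgN, hh, hhS, hhe⟩
      have hgE : g ∈ extender S R φ := Subgroup.subset_closure ⟨hgS, hgN, hh, hhS, hhe⟩
      have hyN := hLN ⟨g, hEN hgE⟩
      -- `hh` normalizes `Ph`
      have hhN : hh ∈ Subgroup.normalizer (Ph : Set Ω) := by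
        apply mem_normalizer_of_conj_mem
        intro w hw
        rw [← hr] at hw
        obtain ⟨x, rfl⟩ := hw
        have hx : g * (x : Ω) * g⁻¹ ∈ R := (Subgroup.mem_normalizer_iff.mp hgN _).mp x.2
        rw [← hhe x hx]
        exact hgP _
      apply mem_nk_stabK h2.le_P1 _ hμinj hyN.1
      · rw [hμr]
        exact hNP1 hyN
      · refine ⟨conjAut Ph hh hhN, conjAut_mem_autInducedBy hhS hhN, fun v => ?_⟩
        show ψL ⟨g, hEN hgE⟩ * ((β⁻¹ ⟨v, h2.le_P1 v.2⟩ : P1 S Ph K) : Ω) * (ψL ⟨g, hEN hgE⟩)⁻¹ =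
          ((β⁻¹ ⟨conjAut Ph hh hhN v, h2.le_P1 (conjAut Ph hh hhN v).2⟩ : P1 S Ph K) : Ω)
        rw [ext_inv_apply h2.le_P1 hβα, ext_inv_apply h2.le_P1 hβα]
        show ψL ⟨g, hEN hgE⟩ * ((α⁻¹ v : Ph) : Ω) * (ψL ⟨g, hEN hgE⟩)⁻¹ =
          ((α⁻¹ (conjAut Ph hh hhN v) : Ph) : Ω)
        obtain ⟨x, hx⟩ := hsurjL _ (α⁻¹ v).2
        have hxg : g * (x : Ω) * g⁻¹ ∈ R := (Subgroup.mem_normalizer_iff.mp hgN _).mp x.2
        have e1 : ψL ⟨g, hEN hgE⟩ * ((α⁻¹ v : Ph) : Ω) * (ψL ⟨g, hEN hgE⟩)⁻¹ =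
            ψL ⟨g * (x : Ω) * g⁻¹, hRN hxg⟩ := by
          rw [← hx, ← map_inv, ← map_mul, ← map_mul]
          rfl
        rw [e1]
        -- apply `α`
        have e2 : φ ⟨g * (x : Ω) * g⁻¹, hxg⟩ =
            α ⟨ψL ⟨g * (x : Ω) * g⁻¹, hRN hxg⟩, hψLP ⟨_, hxg⟩ _⟩ :=
          hα ⟨g * (x : Ω) * g⁻¹, hxg⟩ (hψLP ⟨_, hxg⟩ _)
        have e3 : φ x = α ⟨ψL ⟨x, hRN x.2⟩, hψLP x _⟩ := hα x (hψLP x _)
        have e4 := hhe x hxg
        have e5 : (⟨ψL ⟨x, hRN x.2⟩, hψLP x _⟩ : Ph) = α⁻¹ v := Subtype.ext hx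
        have e6 : α ⟨ψL ⟨g * (x : Ω) * g⁻¹, hRN hxg⟩, hψLP ⟨_, hxg⟩ _⟩ = conjAut Ph hh hhN v := by
          apply Subtype.ext
          rw [conjAut_coe]
          rw [← e2, e4, e3, e5]
          simp
        rw [← e6]
        simp
    · have : (⟨1, hEN (Subgroup.one_mem _)⟩ : normalizerIn S R) = 1 := rfl
      rw [this, map_one]
      exact Subgroup.one_mem _
    · intro a b ha hb iha ihb
      have : (⟨a * b, hEN (Subgroup.mul_mem _ ha hb)⟩ : normalizerIn S R) =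
          ⟨a, hEN ha⟩ * ⟨b, hEN hb⟩ := rfl
      rw [this, map_mul]
      exact Subgroup.mul_mem _ iha ihb
    · intro a ha iha
      have : (⟨a⁻¹, hEN (Subgroup.inv_mem _ ha)⟩ : normalizerIn S R) = ⟨a, hEN ha⟩⁻¹ := rfl
      rw [this, map_inv]
      exact Subgroup.inv_mem _ iha
  -- assemble
  have hρ : ψL.comp (Subgroup.inclusion hEN) ∈ F.Hom (extender S R φ) := restrict_mem F hψL hEN
  have hmD : ∀ x : extender S R φ, (ψL.comp (Subgroup.inclusion hEN)) x ∈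
      nk S (P1 S Ph K) (stabK (P1 S Ph K) Ph h2.le_P1 (autInducedBy S Ph))
        ((P1 S Ph K).subtype.comp (β⁻¹).toMonoidHom) ⊔
          ((P1 S Ph K).subtype.comp (β⁻¹).toMonoidHom).range :=
    fun x => le_sup_left (b := ((P1 S Ph K).subtype.comp (β⁻¹).toMonoidHom).range) (hnk x x.2)
  obtain ⟨χ₁, hχ₁, hχ₁e⟩ := comp_mem' F hρ hψ' hmD
  have hc : conjHom χ₁.range s⁻¹ ∈ F.Hom χ₁.range := F.conj_mem (range_le F hχ₁) (S.inv_mem hsS)
  obtain ⟨ψfin, hψfin, hψfine⟩ := comp_mem' F hχ₁ hc (fun x => ⟨x, rfl⟩)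
  refine ⟨ψfin, hψfin, fun x hP hN => ?_⟩
  rw [hψfine]
  show s⁻¹ * χ₁ ⟨x, hN⟩ * s⁻¹⁻¹ = φ ⟨x, hP⟩
  rw [inv_inv, hχ₁e]
  have e1 : (⟨(ψL.comp (Subgroup.inclusion hEN)) ⟨x, hN⟩, hmD ⟨x, hN⟩⟩ :
      ↥(nk S (P1 S Ph K) (stabK (P1 S Ph K) Ph h2.le_P1 (autInducedBy S Ph))
        ((P1 S Ph K).subtype.comp (β⁻¹).toMonoidHom) ⊔
          ((P1 S Ph K).subtype.comp (β⁻¹).toMonoidHom).range)) =
      ⟨((⟨ψL ⟨x, hRN hP⟩, hψLP ⟨x, hP⟩ _⟩ : Ph) : Ω), hPhD (hψLP ⟨x, hP⟩ _)⟩ := rfl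
  rw [e1, hψ'Ph, hα ⟨x, hP⟩ (hψLP ⟨x, hP⟩ _)]
  have e2 : (ψL.comp (Subgroup.inclusion hRN)) ⟨x, hP⟩ = ψL ⟨x, hRN hP⟩ := rfl
  simp only [e2]
  group

end Cfsg.Agent.Lib.Helper84.BC
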