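import Cfsg.Agent.Lib.Helper84.KNorm

/-!
# The groups `K ⋆ I ≤ Aut(PQ)` and their `K`-normalizers (for AKO I.5.5)
-/

set_option autoImplicit false

namespace Cfsg.Agent.Lib.Helper84.KN

open Cfsg Cfsg.FusionSystem Cfsg.Agent.Lib.Helper87

variable {Ω : Type*} [Group Ω] {S : Subgroup Ω}

/-- For an injective `φ` and `y` normalizing its range, the automorphism `φ⁻¹ c_y φ`. -/
theorem exists_aut_of_mem_normalizer {U : Subgroup Ω} {φ : U →* Ω} (hinj : Function.Injective φ)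
    {y : Ω} (hy : y ∈ Subgroup.normalizer (φ.range : Set Ω)) :
    ∃ α : MulAut U, ∀ u : U, y * φ u * y⁻¹ = φ (α u) := by
  refine ⟨(MulAut.congr (MonoidHom.ofInjective hinj).symm) (conjAut φ.range y hy), fun u => ?_⟩
  have h1 : φ ((MulAut.congr (MonoidHom.ofInjective hinj).symm) (conjAut φ.range y hy) u) =
      ((conjAut φ.range y hy (MonoidHom.ofInjective hinj u) : φ.range) : Ω) :=
    MonoidHom.apply_ofInjective_symm hinj _
  rw [h1, conjAut_coe, MonoidHom.ofInjective_apply]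

/-- Conversely an automorphism `α` with `y φ(u) y⁻¹ = φ(α u)` shows that `y` normalizes the
range. -/
theorem mem_normalizer_range_of_aut {U : Subgroup Ω} {φ : U →* Ω} {y : Ω} {α : MulAut U}
    (h : ∀ u : U, y * φ u * y⁻¹ = φ (α u)) : y ∈ Subgroup.normalizer (φ.range : Set Ω) := by
  rw [Subgroup.mem_normalizer_iff]
  intro n
  constructor
  · rintro ⟨x, rfl⟩
    exact ⟨α x, (h x).symm⟩
  · rintro ⟨x', hx'⟩
    refine ⟨α⁻¹ x', ?_⟩
    rw [← conj_inv_eq h x', hx']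
    group

/-- `K ⋆ I`: the automorphisms of `P ⊔ Q` acting on `P` by an element of `I` and on `Q` by an
element of `K`. -/
def star (P Q : Subgroup Ω) (I : Subgroup (MulAut P)) (K : Subgroup (MulAut Q)) :
    Subgroup (MulAut ↥(P ⊔ Q)) where
  carrier := {α |
    (∃ i ∈ I, ∀ g : P, α (Subgroup.inclusion le_sup_left g) = Subgroup.inclusion le_sup_left (i g)) ∧
    (∃ k ∈ K, ∀ x : Q, α (Subgroup.inclusion le_sup_right x) = Subgroup.inclusion le_sup_right (k x))}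
  one_mem' := ⟨⟨1, I.one_mem, fun _ => rfl⟩, ⟨1, K.one_mem, fun _ => rfl⟩⟩
  mul_mem' := by
    rintro α β ⟨⟨i, hi, hαi⟩, ⟨k, hk, hαk⟩⟩ ⟨⟨j, hj, hβj⟩, ⟨l, hl, hβl⟩⟩
    refine ⟨⟨i * j, I.mul_mem hi hj, fun g => ?_⟩, ⟨k * l, K.mul_mem hk hl, fun x => ?_⟩⟩
    · show α (β _) = _
      rw [hβj, hαi]; rfl
    · show α (β _) = _
      rw [hβl, hαk]; rfl
  inv_mem' := by
    rintro α ⟨⟨i, hi, hαi⟩, ⟨k, hk, hαk⟩⟩
    refine ⟨⟨i⁻¹, I.inv_mem hi, fun g => ?_⟩, ⟨k⁻¹, K.inv_mem hk, fun x => ?_⟩⟩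
    · have h := hαi (i⁻¹ g)
      have e : i (i⁻¹ g) = g := by simp
      rw [e] at h
      rw [← h]
      simp
    · have h := hαk (k⁻¹ x)
      have e : k (k⁻¹ x) = x := by simp
      rw [e] at h
      rw [← h]
      simp

theorem mem_star {P Q : Subgroup Ω} {I : Subgroup (MulAut P)} {K : Subgroup (MulAut Q)}
    {α : MulAut ↥(P ⊔ Q)} : α ∈ star P Q I K ↔
    (∃ i ∈ I, ∀ g : P, α (Subgroup.inclusion le_sup_left g) = Subgroup.inclusion le_sup_left (i g)) ∧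
    (∃ k ∈ K, ∀ x : Q, α (Subgroup.inclusion le_sup_right x) = Subgroup.inclusion le_sup_right (k x)) :=
  Iff.rfl

theorem star_mono {P Q : Subgroup Ω} {I I' : Subgroup (MulAut P)} {K : Subgroup (MulAut Q)}
    (h : I ≤ I') : star P Q I K ≤ star P Q I' K := by
  rintro α ⟨⟨i, hi, hαi⟩, hk⟩
  exact ⟨⟨i, h hi, hαi⟩, hk⟩

/-- The explicit description of the `K ⋆ I`-normalizer of a marking of `P ⊔ Q`. -/
theorem mem_nk_star {P Q : Subgroup Ω} {I : Subgroup (MulAut P)} {K : Subgroup (MulAut Q)}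
    {φ : ↥(P ⊔ Q) →* Ω} (hinj : Function.Injective φ) {y : Ω} :
    y ∈ nk S (P ⊔ Q) (star P Q I K) φ ↔ y ∈ S ∧
      (∃ i ∈ I, ∀ g : P, y * φ (Subgroup.inclusion le_sup_left g) * y⁻¹ =
        φ (Subgroup.inclusion le_sup_left (i g))) ∧
      (∃ k ∈ K, ∀ x : Q, y * φ (Subgroup.inclusion le_sup_right x) * y⁻¹ =
        φ (Subgroup.inclusion le_sup_right (k x))) := by
  constructor
  · rintro ⟨hyS, α, ⟨⟨i, hi, hαi⟩, ⟨k, hk, hαk⟩⟩, hα⟩
    refine ⟨hyS, ⟨i, hi, fun g => ?_⟩, ⟨k, hk, fun x => ?_⟩⟩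
    · rw [hα, hαi]
    · rw [hα, hαk]
  · rintro ⟨hyS, ⟨i, hi, hyi⟩, ⟨k, hk, hyk⟩⟩
    -- `y` normalizes the range
    have hall : ∀ u : ↥(P ⊔ Q), u ∈
        (φ.range.comap ((MulAut.conj y).toMonoidHom.comp φ)) ⊓
        (φ.range.comap ((MulAut.conj y⁻¹).toMonoidHom.comp φ)) := by
      apply forall_sup_of_subgroup
      · intro g hg
        refine ⟨?_, ?_⟩
        · show y * φ _ * y⁻¹ ∈ φ.range
          exact ⟨_, (hyi ⟨g, hg⟩).symm⟩
        · show y⁻¹ * φ _ * y⁻¹⁻¹ ∈ φ.range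
          have h := hyi (i⁻¹ ⟨g, hg⟩)
          have e : i (i⁻¹ ⟨g, hg⟩) = ⟨g, hg⟩ := by simp
          rw [e] at h
          refine ⟨Subgroup.inclusion le_sup_left (i⁻¹ ⟨g, hg⟩), ?_⟩
          have h' : φ (Subgroup.inclusion le_sup_left (⟨g, hg⟩ : P)) =
              φ (⟨g, (le_sup_left : P ≤ P ⊔ Q) hg⟩ : ↥(P ⊔ Q)) := rfl
          rw [← h', ← h]
          group
      · intro x hx
        refine ⟨?_, ?_⟩
        · show y * φ _ * y⁻¹ ∈ φ.range
          exact ⟨_, (hyk ⟨x, hx⟩).symm⟩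
        · show y⁻¹ * φ _ * y⁻¹⁻¹ ∈ φ.range
          have h := hyk (k⁻¹ ⟨x, hx⟩)
          have e : k (k⁻¹ ⟨x, hx⟩) = ⟨x, hx⟩ := by simp
          rw [e] at h
          refine ⟨Subgroup.inclusion le_sup_right (k⁻¹ ⟨x, hx⟩), ?_⟩
          have h' : φ (Subgroup.inclusion le_sup_right (⟨x, hx⟩ : Q)) =
              φ (⟨x, (le_sup_right : Q ≤ P ⊔ Q) hx⟩ : ↥(P ⊔ Q)) := rfl
          rw [← h', ← h]
          group
    have hyN : y ∈ Subgroup.normalizer (φ.range : Set Ω) := by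
      rw [Subgroup.mem_normalizer_iff]
      intro n
      constructor
      · rintro ⟨u, rfl⟩
        exact (hall u).1
      · intro hn
        obtain ⟨u, hu⟩ := hn
        have h2 : y⁻¹ * φ u * y⁻¹⁻¹ ∈ φ.range := (hall u).2
        rw [hu] at h2
        have e : y⁻¹ * (y * n * y⁻¹) * y⁻¹⁻¹ = n := by group
        rwa [e] at h2
    obtain ⟨α, hα⟩ := exists_aut_of_mem_normalizer hinj hyN
    refine ⟨hyS, α, ⟨⟨i, hi, fun g => ?_⟩, ⟨k, hk, fun x => ?_⟩⟩, hα⟩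
    · apply hinj
      rw [← hα, hyi]
    · apply hinj
      rw [← hα, hyk]

/-- The `K ⋆ Aut(P)`-normalizer of a marking: normalize the image of `P`, act on the image of `Q`
through `K`. -/
theorem mem_nk_star_top {P Q : Subgroup Ω} {K : Subgroup (MulAut Q)}
    {φ : ↥(P ⊔ Q) →* Ω} (hinj : Function.Injective φ) {y : Ω} :
    y ∈ nk S (P ⊔ Q) (star P Q ⊤ K) φ ↔ y ∈ S ∧
      y ∈ Subgroup.normalizer
        ((φ.comp (Subgroup.inclusion (le_sup_left : P ≤ P ⊔ Q))).range : Set Ω) ∧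
      (∃ k ∈ K, ∀ x : Q, y * φ (Subgroup.inclusion le_sup_right x) * y⁻¹ =
        φ (Subgroup.inclusion le_sup_right (k x))) := by
  rw [mem_nk_star hinj]
  have hinjP : Function.Injective (φ.comp (Subgroup.inclusion (le_sup_left : P ≤ P ⊔ Q))) :=
    hinj.comp (Subgroup.inclusion_injective _)
  constructor
  · rintro ⟨hyS, ⟨i, -, hi⟩, hk⟩
    exact ⟨hyS, mem_normalizer_range_of_aut
      (φ := φ.comp (Subgroup.inclusion (le_sup_left : P ≤ P ⊔ Q))) (α := i) hi, hk⟩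
  · rintro ⟨hyS, hyN, hk⟩
    obtain ⟨i, hi⟩ := exists_aut_of_mem_normalizer hinjP hyN
    exact ⟨hyS, ⟨i, Subgroup.mem_top _, hi⟩, hk⟩

theorem star_aut_unique {P Q : Subgroup Ω} {α : MulAut ↥(P ⊔ Q)} {i j : MulAut P}
    (hi : ∀ g : P, α (Subgroup.inclusion le_sup_left g) = Subgroup.inclusion le_sup_left (i g))
    (hj : ∀ g : P, α (Subgroup.inclusion le_sup_left g) = Subgroup.inclusion le_sup_left (j g)) :
    i = j := by
  ext g
  have := (hi g).symm.trans (hj g)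
  have h2 := Subgroup.inclusion_injective _ this
  rw [h2]

/-- Restriction to `P` of an automorphism in `K ⋆ I`. -/
noncomputable def resP (P Q : Subgroup Ω) (I : Subgroup (MulAut P)) (K : Subgroup (MulAut Q)) :
    ↥(star P Q I K) →* MulAut P where
  toFun α := Classical.choose α.2.1
  map_one' := by
    have h := Classical.choose_spec (1 : ↥(star P Q I K)).2.1
    exact star_aut_unique (α := (1 : MulAut ↥(P ⊔ Q))) h.2 (fun _ => rfl)
  map_mul' := by
    intro α β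
    have h := Classical.choose_spec (α * β).2.1
    have hα := Classical.choose_spec α.2.1
    have hβ := Classical.choose_spec β.2.1
    refine star_aut_unique (α := (α : MulAut ↥(P ⊔ Q)) * (β : MulAut ↥(P ⊔ Q))) h.2 (fun g => ?_)
    show (α : MulAut ↥(P ⊔ Q)) ((β : MulAut ↥(P ⊔ Q)) _) = _
    rw [hβ.2, hα.2]
    rfl

theorem resP_mem {P Q : Subgroup Ω} {I : Subgroup (MulAut P)} {K : Subgroup (MulAut Q)}
    (α : ↥(star P Q I K)) : resP P Q I K α ∈ I :=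
  (Classical.choose_spec α.2.1).1

theorem resP_spec {P Q : Subgroup Ω} {I : Subgroup (MulAut P)} {K : Subgroup (MulAut Q)}
    (α : ↥(star P Q I K)) (g : P) :
    (α : MulAut ↥(P ⊔ Q)) (Subgroup.inclusion le_sup_left g) =
      Subgroup.inclusion le_sup_left (resP P Q I K α g) :=
  (Classical.choose_spec α.2.1).2 g

theorem resP_coe {P Q : Subgroup Ω} {I : Subgroup (MulAut P)} {K : Subgroup (MulAut Q)}
    (α : ↥(star P Q I K)) (g : P) :
    ((resP P Q I K α g : P) : Ω) =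
      (((α : MulAut ↥(P ⊔ Q)) (Subgroup.inclusion le_sup_left g) : ↥(P ⊔ Q)) : Ω) := by
  rw [resP_spec]
  rfl

theorem resP_eq_of {P Q : Subgroup Ω} {I : Subgroup (MulAut P)} {K : Subgroup (MulAut Q)}
    (α : ↥(star P Q I K)) {i : MulAut P}
    (hi : ∀ g : P, (((α : MulAut ↥(P ⊔ Q)) (Subgroup.inclusion le_sup_left g) : ↥(P ⊔ Q)) : Ω) =
      ((i g : P) : Ω)) : resP P Q I K α = i := by
  ext g
  rw [resP_coe, hi]

end Cfsg.Agent.Lib.Helper84.KN
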