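import Cfsg.Agent.Lib.Helper84.BCGen
import Cfsg.Agent.Lib.Helper84.KStar

/-!
# Stabilizer subgroups of `Aut(X)` and their `K`-normalizers (for the BCGLO criterion)
-/

set_option autoImplicit false

namespace Cfsg.Agent.Lib.Helper84.BC

open Cfsg Cfsg.FusionSystem Cfsg.Agent.Lib.Helper87 Cfsg.Agent.Lib.Helper85
open Cfsg.Agent.Lib.Helper84.KN

variable {Ω : Type*} [Group Ω] {S : Subgroup Ω}

/-- The hypotheses carried through the proof of the saturation criterion. -/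
structure Ctx (F : FusionSystem S) (p : ℕ) (ℋ : Set (Subgroup Ω)) (n : ℕ) : Prop where
  hS : IsPGroup p S
  big : ∀ R : Subgroup Ω, R ≤ S → n < Nat.card R →
    ∃ Q, F.IsConj R Q ∧ F.IsFullyAutomized p Q ∧ F.IsReceptive Q
  gen : ∀ (P : Subgroup Ω) (φ : P →* Ω), φ ∈ F.Hom P → GenH F ℋ P φ
  conj : ∀ P ∈ ℋ, ∀ Q, F.IsConj P Q → Q ∈ ℋ

/-- The automorphisms of `X` that restrict on `V ≤ X` to an element of `K ≤ Aut(V)`. -/
def stabK (X V : Subgroup Ω) (hVX : V ≤ X) (K : Subgroup (MulAut V)) : Subgroup (MulAut X) where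
  carrier := {β | ∃ k ∈ K, ∀ v : V, ((β ⟨v, hVX v.2⟩ : X) : Ω) = k v}
  one_mem' := ⟨1, K.one_mem, fun v => rfl⟩
  mul_mem' := by
    rintro a b ⟨k, hk, hka⟩ ⟨l, hl, hlb⟩
    refine ⟨k * l, K.mul_mem hk hl, fun v => ?_⟩
    have e : b ⟨v, hVX v.2⟩ = ⟨l v, hVX (l v).2⟩ := Subtype.ext (hlb v)
    show ((a (b ⟨v, hVX v.2⟩) : X) : Ω) = k (l v)
    rw [e, hka]
  inv_mem' := by
    rintro a ⟨k, hk, hka⟩
    refine ⟨k⁻¹, K.inv_mem hk, fun v => ?_⟩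
    have e : a ⟨k⁻¹ v, hVX (k⁻¹ v).2⟩ = ⟨v, hVX v.2⟩ := by
      apply Subtype.ext
      rw [hka]
      simp
    have e2 : a⁻¹ ⟨v, hVX v.2⟩ = ⟨k⁻¹ v, hVX (k⁻¹ v).2⟩ := by
      rw [← e]
      simp
    rw [e2]

theorem mem_stabK {X V : Subgroup Ω} {hVX : V ≤ X} {K : Subgroup (MulAut V)} {β : MulAut X} :
    β ∈ stabK X V hVX K ↔ ∃ k ∈ K, ∀ v : V, ((β ⟨v, hVX v.2⟩ : X) : Ω) = k v := Iff.rfl

theorem stabK_apply_mem {X V : Subgroup Ω} {hVX : V ≤ X} {K : Subgroup (MulAut V)} {β : MulAut X}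
    (hβ : β ∈ stabK X V hVX K) (v : V) : ((β ⟨v, hVX v.2⟩ : X) : Ω) ∈ V := by
  obtain ⟨k, -, hk⟩ := hβ
  rw [hk]
  exact (k v).2

theorem stabK_exists_preimage {X V : Subgroup Ω} {hVX : V ≤ X} {K : Subgroup (MulAut V)}
    {β : MulAut X} (hβ : β ∈ stabK X V hVX K) (v : V) :
    ∃ u : V, β ⟨u, hVX u.2⟩ = ⟨v, hVX v.2⟩ := by
  obtain ⟨k, -, hk⟩ := hβ
  refine ⟨k⁻¹ v, Subtype.ext ?_⟩
  rw [hk]
  simp

/-- The image of `V ≤ D` under `f : D →* Ω`. -/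
abbrev im {D : Subgroup Ω} (f : D →* Ω) {V : Subgroup Ω} (hVD : V ≤ D) : Subgroup Ω :=
  (f.comp (Subgroup.inclusion hVD)).range

theorem mem_im {D : Subgroup Ω} (f : D →* Ω) {V : Subgroup Ω} (hVD : V ≤ D) (v : V) :
    f ⟨v, hVD v.2⟩ ∈ im f hVD := ⟨v, rfl⟩

theorem im_subtype {D V : Subgroup Ω} (hVD : V ≤ D) : im D.subtype hVD = V := by
  ext x
  constructor
  · rintro ⟨v, rfl⟩
    exact v.2
  · intro h
    exact ⟨⟨x, h⟩, rfl⟩

/-- Membership in the `K`-normalizer of a marking, for a stabilizer subgroup. -/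
theorem mem_nk_stabK {X V : Subgroup Ω} (hVX : V ≤ X) (K : Subgroup (MulAut V)) {φ : X →* Ω}
    (hinj : Function.Injective φ) {y : Ω} (hyS : y ∈ S)
    (hyN : y ∈ Subgroup.normalizer (φ.range : Set Ω))
    (hk : ∃ k ∈ K, ∀ v : V, y * φ ⟨v, hVX v.2⟩ * y⁻¹ = φ ⟨k v, hVX (k v).2⟩) :
    y ∈ nk S X (stabK X V hVX K) φ := by
  obtain ⟨α, hα⟩ := exists_aut_of_mem_normalizer hinj hyN
  obtain ⟨k, hkK, hk⟩ := hk
  refine ⟨hyS, α, ⟨k, hkK, fun v => ?_⟩, hα⟩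
  have := (hα ⟨v, hVX v.2⟩).symm.trans (hk v)
  exact congrArg Subtype.val (hinj this)

theorem exists_of_mem_nk_stabK {X V : Subgroup Ω} (hVX : V ≤ X) (K : Subgroup (MulAut V))
    {φ : X →* Ω} {y : Ω} (hy : y ∈ nk S X (stabK X V hVX K) φ) :
    y ∈ S ∧ y ∈ Subgroup.normalizer (φ.range : Set Ω) ∧
      ∃ k ∈ K, ∀ v : V, y * φ ⟨v, hVX v.2⟩ * y⁻¹ = φ ⟨k v, hVX (k v).2⟩ := by
  refine ⟨hy.1, nk_le_normalizer X _ φ hy, ?_⟩
  obtain ⟨-, β, ⟨k, hkK, hkβ⟩, hβ⟩ := hy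
  refine ⟨k, hkK, fun v => ?_⟩
  rw [hβ]
  congr 1
  exact Subtype.ext (hkβ v)

/-- For `K = ⊤`: the `K`-normalizer consists of the elements of `S` normalizing both images. -/
theorem mem_nk_stabK_top_iff {X V : Subgroup Ω} (hVX : V ≤ X) {φ : X →* Ω}
    (hinj : Function.Injective φ) {y : Ω} :
    y ∈ nk S X (stabK X V hVX ⊤) φ ↔ y ∈ S ∧ y ∈ Subgroup.normalizer (φ.range : Set Ω) ∧
      y ∈ Subgroup.normalizer (im φ hVX : Set Ω) := by
  constructor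
  · intro hy
    obtain ⟨h1, h2, k, -, hk⟩ := exists_of_mem_nk_stabK hVX ⊤ hy
    refine ⟨h1, h2, ?_⟩
    exact mem_normalizer_range_of_aut (φ := φ.comp (Subgroup.inclusion hVX)) (α := k)
      (fun u => hk u)
  · rintro ⟨h1, h2, h3⟩
    have hinj' : Function.Injective (φ.comp (Subgroup.inclusion hVX)) :=
      hinj.comp (Subgroup.inclusion_injective hVX)
    obtain ⟨k, hk⟩ := exists_aut_of_mem_normalizer hinj' h3
    exact mem_nk_stabK hVX ⊤ hinj h1 h2 ⟨k, Subgroup.mem_top k, fun v => hk v⟩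

/-- An injective map sending `V` into `W` with `|W| ≤ |V|` sends `V` onto `W`. -/
theorem exists_preimage_of_card {D V W : Subgroup Ω} (hVD : V ≤ D) {f : D →* Ω}
    (hinj : Function.Injective f) [Finite W] (hmap : ∀ v : V, f ⟨v, hVD v.2⟩ ∈ W)
    (hcard : Nat.card W ≤ Nat.card V) : ∀ w ∈ W, ∃ v : V, f ⟨v, hVD v.2⟩ = w := by
  let g : V → W := fun v => ⟨f ⟨v, hVD v.2⟩, hmap v⟩
  have hg : Function.Injective g := by
    intro a b hab
    have h1 : f ⟨a, hVD a.2⟩ = f ⟨b, hVD b.2⟩ := congrArg Subtype.val hab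
    have h2 := hinj h1
    exact Subtype.ext (congrArg (fun t : D => (t : Ω)) h2)
  have hbij := hg.bijective_of_nat_card_le hcard
  intro w hw
  obtain ⟨v, hv⟩ := hbij.2 ⟨w, hw⟩
  exact ⟨v, congrArg Subtype.val hv⟩

theorem im_eq_of_card {D V W : Subgroup Ω} (hVD : V ≤ D) {f : D →* Ω}
    (hinj : Function.Injective f) [Finite W] (hmap : ∀ v : V, f ⟨v, hVD v.2⟩ ∈ W)
    (hcard : Nat.card W ≤ Nat.card V) : im f hVD = W := by
  apply le_antisymm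
  · rintro _ ⟨v, rfl⟩
    exact hmap v
  · intro w hw
    obtain ⟨v, hv⟩ := exists_preimage_of_card hVD hinj hmap hcard w hw
    exact ⟨v, hv⟩

/-- With `f` injective and `f(V) = W`, an element of `D` mapped into `W` lies in `V`. -/
theorem mem_of_map_mem_im {D V : Subgroup Ω} (hVD : V ≤ D) {f : D →* Ω}
    (hinj : Function.Injective f) {x : D} (hx : f x ∈ im f hVD) : (x : Ω) ∈ V := by
  obtain ⟨v, hv⟩ := hx
  have : (⟨v, hVD v.2⟩ : D) = x := hinj hv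
  rw [← this]
  exact v.2

end Cfsg.Agent.Lib.Helper84.BC
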