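import Mathlib
import Cfsg.Prelude.Def_FusionSystem
import Cfsg.Agent.Lib.Helper84.FusionBasic
import Cfsg.Agent.Lib.Helper84.FusionSup

set_option autoImplicit false

namespace Cfsg.Agent.Lib.Helper84

open Cfsg Cfsg.FusionSystem

variable {Ω : Type*} [Group Ω] {S : Subgroup Ω}

theorem centralizerHom_conj (F : FusionSystem S) {Q : Subgroup Ω} (hQ : Q ≤ S) {P : Subgroup Ω} {g : Ω}
    (hP : P ≤ centralizerIn S Q) (hg : g ∈ centralizerIn S Q) :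
    Cfsg.conjHom P g ∈ F.centralizerHom Q P := by
  have hPS : P ≤ S := le_trans hP inf_le_left
  have hgS : g ∈ S := hg.1
  have hgC : g ∈ Subgroup.centralizer (Q : Set Ω) := hg.2
  refine ⟨F.conj_mem hPS hgS, hP, ?_, Cfsg.conjHom (P ⊔ Q) g, F.conj_mem (sup_le hPS hQ) hgS, ?_, ?_⟩
  · intro x
    show g * (x : Ω) * g⁻¹ ∈ centralizerIn S Q
    exact Subgroup.mul_mem _ (Subgroup.mul_mem _ hg (hP x.2)) (Subgroup.inv_mem _ hg)
  · intro x
    rfl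
  · intro x
    show g * (x : Ω) * g⁻¹ = x
    have := (Subgroup.mem_centralizer_iff.mp hgC) x x.2
    rw [← this]; group

theorem centralizerHom_comp (F : FusionSystem S) {Q : Subgroup Ω} {P P' : Subgroup Ω}
    {φ : P →* Ω} {ψ : P' →* Ω} (hφ : φ ∈ F.centralizerHom Q P) (hψ : ψ ∈ F.centralizerHom Q P')
    (h : ∀ x : P, φ x ∈ P') : ψ.comp (φ.codRestrict P' h) ∈ F.centralizerHom Q P := by
  obtain ⟨hφF, hPN, hφN, φ', hφ', hφext, hφQ⟩ := hφ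
  obtain ⟨hψF, hP'N, hψN, ψ', hψ', hψext, hψQ⟩ := hψ
  have hmaps : ∀ z : ↥(P ⊔ Q), φ' z ∈ P' ⊔ Q := by
    apply sup_hom_mem
    · intro x
      rw [hφext]
      exact (le_sup_left : P' ≤ P' ⊔ Q) (h x)
    · intro x
      rw [hφQ]
      exact (le_sup_right : Q ≤ P' ⊔ Q) x.2
  refine ⟨F.comp_mem hφF hψF h, hPN, fun x => hψN _, ψ'.comp (φ'.codRestrict (P' ⊔ Q) hmaps),
    F.comp_mem hφ' hψ' hmaps, ?_, ?_⟩
  · intro x
    show ψ' ⟨φ' (Subgroup.inclusion le_sup_left x), _⟩ = ψ ⟨φ x, _⟩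
    rw [← hψext ⟨φ x, h x⟩]
    congr 1
    apply Subtype.ext
    exact hφext x
  · intro x
    show ψ' ⟨φ' (Subgroup.inclusion le_sup_right x), _⟩ = x
    rw [← hψQ x]
    congr 1
    apply Subtype.ext
    exact hφQ x

theorem centralizerHom_inv (F : FusionSystem S) {Q : Subgroup Ω} {P : Subgroup Ω}
    {φ : P →* Ω} (hφ : φ ∈ F.centralizerHom Q P) :
    ∃ ψ ∈ F.centralizerHom Q φ.range, ∀ x : P, ψ ⟨φ x, ⟨x, rfl⟩⟩ = (x : Ω) := by
  obtain ⟨hφF, hPN, hφN, φ', hφ', hφext, hφQ⟩ := hφ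
  obtain ⟨θ, hθ, hθinv⟩ := F.inv_mem hφ'
  have hle1 : φ.range ≤ φ'.range := by
    rintro _ ⟨x, rfl⟩
    exact ⟨Subgroup.inclusion le_sup_left x, hφext x⟩
  have hle2 : Q ≤ φ'.range := by
    intro y hy
    exact ⟨Subgroup.inclusion le_sup_right ⟨y, hy⟩, hφQ ⟨y, hy⟩⟩
  have hle : φ.range ⊔ Q ≤ φ'.range := sup_le hle1 hle2
  refine ⟨θ.comp (Subgroup.inclusion hle1), ⟨restrict_mem F hθ hle1, ?_, ?_,
    θ.comp (Subgroup.inclusion hle), restrict_mem F hθ hle, ?_, ?_⟩, ?_⟩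
  · rintro _ ⟨x, rfl⟩
    exact hφN x
  · rintro ⟨_, x, rfl⟩
    show θ ⟨φ x, _⟩ ∈ centralizerIn S Q
    have h1 : θ ⟨φ' (Subgroup.inclusion le_sup_left x), ⟨_, rfl⟩⟩ = ((Subgroup.inclusion le_sup_left x : ↥(P ⊔ Q)) : Ω) :=
      hθinv _
    have h2 : (⟨φ x, hle1 ⟨x, rfl⟩⟩ : φ'.range) = ⟨φ' (Subgroup.inclusion le_sup_left x), ⟨_, rfl⟩⟩ :=
      Subtype.ext (hφext x).symm
    rw [h2, h1]
    exact hPN x.2
  · intro x
    rfl
  · intro x
    show θ ⟨(x : Ω), _⟩ = x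
    have h2 : (⟨(x : Ω), hle2 x.2⟩ : φ'.range) = ⟨φ' (Subgroup.inclusion le_sup_right x), ⟨_, rfl⟩⟩ :=
      Subtype.ext (hφQ x).symm
    rw [h2, hθinv]
    rfl
  · intro x
    show θ ⟨φ x, _⟩ = x
    have h2 : (⟨φ x, hle1 ⟨x, rfl⟩⟩ : φ'.range) = ⟨φ' (Subgroup.inclusion le_sup_left x), ⟨_, rfl⟩⟩ :=
      Subtype.ext (hφext x).symm
    rw [h2, hθinv]
    rfl

/-- the centralizer fusion system `C_F(Q)` -/
def centralizerSystem (F : FusionSystem S) (Q : Subgroup Ω) (hQ : Q ≤ S) :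
    FusionSystem (centralizerIn S Q) where
  Hom P := F.centralizerHom Q P
  le_of_mem h := ⟨h.2.1, h.2.2.1⟩
  injective_of_mem h := F.injective_of_mem h.1
  conj_mem hP hg := centralizerHom_conj F hQ hP hg
  comp_mem hφ hψ h := centralizerHom_comp F hφ hψ h
  inv_mem hφ := centralizerHom_inv F hφ

theorem centralizerSystem_spec (F : FusionSystem S) (Q : Subgroup Ω) (hQ : Q ≤ S) :
    F.IsCentralizerSystem Q (centralizerSystem F Q hQ) := fun _ => rfl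

end Cfsg.Agent.Lib.Helper84
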