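import Mathlib
import Cfsg.Prelude.Def_EvenType
import Cfsg.Prelude.Def_KGroupFacts
import Cfsg.Agent.Lib.Helper86.AutChain
import Cfsg.Agent.Lib.Helper86.Ess
import Cfsg.Agent.Lib.Helper32.Rank2Ker

set_option autoImplicit false

/-!
A finite `p`-group with a chain of characteristic subgroups from `⊤` down into the Frattini subgroup
with all factors of order `p` cannot be an essential subgroup: its automorphism group is `p`-closed.
-/

namespace Cfsg.Agent.Lib.Helper84

open Cfsg.Agent.Lib.Helper86 Cfsg.Agent.Lib.Helper32.Rank2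

/-- If a finite `p`-group has a chain of characteristic subgroups from `⊤` into the Frattini subgroup
with all factors of order `p`, then all `p`-elements of its automorphism group lie in one
`p`-subgroup. -/
theorem exists_pgroup_of_chain_frattini {H : Type*} [Group H] [Finite H] (p : ℕ) [Fact p.Prime]
    (hH : IsPGroup p H) (k : ℕ) (C : ℕ → Subgroup H) (h0 : C 0 = ⊤) (hk : C k ≤ frattini H)
    (hanti : ∀ i < k, C (i + 1) ≤ C i)
    (hchar : ∀ i, ∀ σ : MulAut H, ∀ x ∈ C i, σ x ∈ C i)
    (hidx : ∀ i < k, Nat.card (C i) = p * Nat.card (C (i + 1))) :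
    ∃ K : Subgroup (MulAut H), IsPGroup p K ∧
      ∀ σ : MulAut H, (∃ m : ℕ, σ ^ (p ^ m) = 1) → σ ∈ K := by
  classical
  have hp : p.Prime := Fact.out
  have hfinA : Finite (MulAut H) := Finite.of_injective (fun α : MulAut H => (α : H → H))
    (fun α β h => by ext x; exact congrFun h x)
  have hnorm : ∀ i, (C i).Normal := by
    intro i
    constructor
    intro n hn g
    exact hchar i (MulAut.conj g) n hn
  let K : Subgroup (MulAut H) :=
    { carrier := {σ | ∀ i < k, ∀ x ∈ C i, x⁻¹ * σ x ∈ C (i + 1)}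
      one_mem' := by
        intro i _ x _
        simp
      mul_mem' := by
        intro σ τ hσ hτ i hi x hx
        have h1 : x⁻¹ * (σ * τ) x = (x⁻¹ * τ x) * ((τ x)⁻¹ * σ (τ x)) := by
          rw [MulAut.mul_apply]; group
        rw [h1]
        exact mul_mem (hτ i hi x hx) (hσ i hi (τ x) (hchar i τ x hx))
      inv_mem' := by
        intro σ hσ i hi x hx
        have hy : σ⁻¹ x ∈ C i := hchar i σ⁻¹ x hx
        have h1 := hσ i hi (σ⁻¹ x) hy
        have h2 : σ (σ⁻¹ x) = x := by
          rw [← MulAut.mul_apply, mul_inv_cancel]; rfl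
        rw [h2] at h1
        have h3 : x⁻¹ * σ⁻¹ x = ((σ⁻¹ x)⁻¹ * x)⁻¹ := by group
        rw [h3]
        exact inv_mem h1 }
  have hKmem : ∀ σ : MulAut H, σ ∈ K ↔ ∀ i < k, ∀ x ∈ C i, x⁻¹ * σ x ∈ C (i + 1) := fun σ => Iff.rfl
  refine ⟨K, ?_, ?_⟩
  · -- K is a p-group
    rintro ⟨σ, hσK⟩
    have hord : 0 < orderOf σ := orderOf_pos σ
    obtain ⟨a, m', hm', hn⟩ := Nat.exists_eq_pow_mul_and_not_dvd hord.ne' p hp.ne_one
    have hτK : σ ^ (p ^ a) ∈ K := pow_mem hσK _
    have hτm : (σ ^ (p ^ a)) ^ m' = 1 := by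
      rw [← pow_mul, ← hn]; exact pow_orderOf_eq_one σ
    have hcop : m'.Coprime p := (Nat.Prime.coprime_iff_not_dvd hp).mpr hm' |>.symm
    -- the induced automorphism of the Frattini quotient is trivial
    obtain ⟨τ, hτ⟩ : ∃ τ : MulAut H, τ = σ ^ (p ^ a) := ⟨_, rfl⟩
    rw [← hτ] at hτK hτm
    have hQ : IsPGroup p (H ⧸ frattini H) := hH.to_quotient _
    have hbar : autQuot (frattini H) τ = 1 := by
      apply aut_eq_one_of_chain_stab hQ (autQuot (frattini H) τ) m' hcop
        (by rw [← map_pow, hτm, map_one]) k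
        (fun i => (C i).map (QuotientGroup.mk' (frattini H)))
      · show (C 0).map (QuotientGroup.mk' (frattini H)) = ⊤
        rw [h0, ← MonoidHom.range_eq_map]
        exact MonoidHom.range_eq_top.mpr (QuotientGroup.mk'_surjective _)
      · show (C k).map (QuotientGroup.mk' (frattini H)) = ⊥
        rw [Subgroup.map_eq_bot_iff, QuotientGroup.ker_mk']
        exact hk
      · intro i hi y hy
        obtain ⟨x, hx, rfl⟩ := hy
        refine ⟨x⁻¹ * τ x, (hKmem τ).mp hτK i hi x hx, ?_⟩
        rw [map_mul, map_inv]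
        rfl
    obtain ⟨b, hb⟩ := pKer_autQuot_frattini hH τ hbar
    refine ⟨a + b, ?_⟩
    apply Subtype.ext
    show σ ^ (p ^ (a + b)) = 1
    rw [pow_add, pow_mul, ← hτ]
    exact hb
  · rintro σ ⟨m, hσ⟩
    rw [hKmem]
    intro i hi
    have := hnorm (i + 1)
    exact step_trivial p (C i) (C (i + 1)) (hanti i hi) (hidx i hi) σ (hchar i σ)
      (hchar (i + 1) σ) m hσ

/-- The hypothesis on `Aut_F(H)` in the definition of an essential subgroup. -/
def EssHyp (p : ℕ) {H : Type*} [Group H] (A : Subgroup (MulAut H)) : Prop :=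
  ∃ _ : ((Cfsg.Inn H).subgroupOf A).Normal,
    ∃ E : Subgroup (A ⧸ (Cfsg.Inn H).subgroupOf A), Cfsg.IsStronglyPEmbedded p E

/-- A `p`-group with a characteristic chain into the Frattini subgroup with factors of order `p`
does not satisfy the automizer condition of essential subgroups. -/
theorem false_of_chain_frattini {H : Type*} [Group H] [Finite H] (p : ℕ) [Fact p.Prime]
    (hH : IsPGroup p H) (A : Subgroup (MulAut H)) (hess : EssHyp p A)
    (k : ℕ) (C : ℕ → Subgroup H) (h0 : C 0 = ⊤) (hk : C k ≤ frattini H)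
    (hanti : ∀ i < k, C (i + 1) ≤ C i)
    (hchar : ∀ i, ∀ σ : MulAut H, ∀ x ∈ C i, σ x ∈ C i)
    (hidx : ∀ i < k, Nat.card (C i) = p * Nat.card (C (i + 1))) : False := by
  obtain ⟨hn, E, hE⟩ := hess
  have hfinM : Finite (MulAut H) := Finite.of_injective (fun α : MulAut H => (α : H → H))
    (fun α β h => by ext x; exact congrFun h x)
  obtain ⟨P₁, P₂, hne⟩ := exists_two_sylow p E hE
  have hN : IsPGroup p ((Cfsg.Inn H).subgroupOf A) := by
    have h1 : IsPGroup p (Cfsg.Inn H) :=
      hH.of_surjective (MulAut.conj : H →* MulAut H).rangeRestrict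
        (MonoidHom.rangeRestrict_surjective _)
    exact h1.comap_of_injective A.subtype (Subgroup.subtype_injective A)
  obtain ⟨K, hK, hKall⟩ := exists_pgroup_of_chain_frattini p hH k C h0 hk hanti hchar hidx
  exact hne (sylow_unique_of_pgroup p K hK hKall A _ hN P₁ P₂)

end Cfsg.Agent.Lib.Helper84
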