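import Cfsg.Agent.Lib.Helper84.OmegaAut
import Cfsg.Agent.Lib.Helper88.AlperinUse

/-!
If every cyclic subgroup of order `p` (or `≤ 4` when `p = 2`) of the focal subgroup of a saturated
fusion system `F` over `S` is normal in `S`, then `S` is normal in `F`.
-/

set_option autoImplicit false

namespace Cfsg.Agent.Lib.Helper84.FN

open Cfsg Cfsg.FusionSystem

variable {Ω : Type*} [Group Ω] {S : Subgroup Ω}

/-- conjugation by a `p`-element stabilising a cyclic group of order dividing `p` is trivial. -/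
theorem conj_eq_self_of_pow_prime {p : ℕ} [Fact p.Prime] {g y : Ω} {k : ℕ}
    (hg : g ^ (p ^ k) = 1) (hy : y ^ p = 1) {j : ℕ} (hj : g * y * g⁻¹ = y ^ j) :
    g * y * g⁻¹ = y := by
  by_cases hy1 : y = 1
  · rw [hy1]; group
  have hord : orderOf y = p := orderOf_eq_prime hy hy1
  have hpow : ∀ n : ℕ, g ^ n * y * (g ^ n)⁻¹ = y ^ (j ^ n) := by
    intro n
    induction n with
    | zero => simp
    | succ n ih =>
      have e : g ^ (n + 1) * y * (g ^ (n + 1))⁻¹ = g * (g ^ n * y * (g ^ n)⁻¹) * g⁻¹ := by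
        rw [pow_succ']; group
      rw [e, ih]
      have : g * y ^ (j ^ n) * g⁻¹ = (g * y * g⁻¹) ^ (j ^ n) := by rw [conj_pow]
      rw [this, hj, ← pow_mul, ← pow_succ']
  have h1 := hpow (p ^ k)
  rw [hg, one_mul, inv_one, mul_one] at h1
  -- y = y ^ (j ^ (p ^ k))
  have h2 : y ^ 1 = y ^ (j ^ (p ^ k)) := by rw [pow_one]; exact h1
  rw [pow_eq_pow_iff_modEq, hord] at h2
  have h3 : ((j ^ (p ^ k) : ℕ) : ZMod p) = (j : ZMod p) := by
    rw [Nat.cast_pow, ZMod.pow_card_pow]
  have h4 : ((1 : ℕ) : ZMod p) = ((j ^ (p ^ k) : ℕ) : ZMod p) :=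
    (ZMod.natCast_eq_natCast_iff _ _ _).2 h2
  rw [h3] at h4
  have h5 : 1 ≡ j [MOD p] := (ZMod.natCast_eq_natCast_iff _ _ _).1 h4
  rw [hj]
  have : y ^ j = y ^ 1 := by
    rw [pow_eq_pow_iff_modEq, hord]; exact h5.symm
  rw [this, pow_one]

/-- conjugation stabilising a cyclic group of order dividing `4` fixes or inverts it. -/
theorem conj_eq_self_or_inv_of_pow_four {g y : Ω} (hy : y ^ 4 = 1) {j : ℕ}
    (hj : g * y * g⁻¹ = y ^ j) : g * y * g⁻¹ = y ∨ g * y * g⁻¹ = y⁻¹ := by
  have hmod : y ^ j = y ^ (j % 4) := by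
    conv_lhs => rw [← Nat.div_add_mod j 4, pow_add, pow_mul, hy, one_pow, one_mul]
  have hlt : j % 4 < 4 := Nat.mod_lt _ (by norm_num)
  rw [hmod] at hj
  have hy1_of : g * y * g⁻¹ = 1 → y = 1 := by
    intro h
    have : y = g⁻¹ * (g * y * g⁻¹) * g := by group
    rw [this, h]; group
  interval_cases h : j % 4
  · left
    rw [pow_zero] at hj
    have := hy1_of hj
    rw [this]; group
  · left; rw [hj, pow_one]
  · left
    have h2 : (g * y * g⁻¹) ^ 2 = 1 := by
      rw [hj, ← pow_mul]; exact hy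
    rw [conj_pow] at h2
    have hy2 : y ^ 2 = 1 := by
      have : y ^ 2 = g⁻¹ * (g * y ^ 2 * g⁻¹) * g := by group
      rw [this, h2]; group
    rw [hy2] at hj
    have := hy1_of hj
    rw [this]; group
  · right
    rw [hj]
    have : y ^ 3 * y = 1 := by rw [← pow_succ]; exact hy
    exact eq_inv_of_mul_eq_one_left this

variable {p : ℕ}

/-- the elements of small order of `R` lying in the focal subgroup. -/
def smallSet (F : FusionSystem S) (p : ℕ) (R : Subgroup Ω) : Set R :=
  {y | (y : Ω) ∈ F.focalSubgroup ∧ (y ^ p = 1 ∨ (p = 2 ∧ y ^ 4 = 1))}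

theorem inv_mem_smallSet {F : FusionSystem S} {R : Subgroup Ω} {y : R}
    (hy : y ∈ smallSet F p R) : y⁻¹ ∈ smallSet F p R := by
  refine ⟨?_, ?_⟩
  · rw [Subgroup.coe_inv]; exact inv_mem hy.1
  · rcases hy.2 with h | ⟨h2, h⟩
    · left; rw [inv_pow, h, inv_one]
    · right; exact ⟨h2, by rw [inv_pow, h, inv_one]⟩

theorem apply_mem_smallSet {F : FusionSystem S} {R : Subgroup Ω} (hR : R ≤ S) {a : MulAut R}
    (ha : a ∈ F.autGroup R) {y : R} (hy : y ∈ smallSet F p R) : a y ∈ smallSet F p R := by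
  refine ⟨?_, ?_⟩
  · have hgen : (y : Ω)⁻¹ * (a y : Ω) ∈ F.focalSubgroup :=
      Subgroup.subset_closure ⟨R, R.subtype.comp a.toMonoidHom, y,
        (Cfsg.Agent.Lib.Helper87.mem_autGroup_iff F hR a).1 ha, rfl⟩
    have : ((a y : R) : Ω) = (y : Ω) * ((y : Ω)⁻¹ * (a y : Ω)) := by group
    rw [this]
    exact mul_mem hy.1 hgen
  · rcases hy.2 with h | ⟨h2, h⟩
    · left; rw [← map_pow, h, map_one]
    · right; exact ⟨h2, by rw [← map_pow, h, map_one]⟩

/-- automorphisms fixing (or, for `p = 2`, possibly inverting) every small focal element. -/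
def fixGroup (F : FusionSystem S) (p : ℕ) (R : Subgroup Ω) [Finite R] : Subgroup (MulAut R) where
  carrier := {a | ∀ y ∈ smallSet F p R, a y = y ∨ (p = 2 ∧ a y = y⁻¹)}
  one_mem' := fun y _ => Or.inl rfl
  mul_mem' := by
    intro a b ha hb y hy
    rw [MulAut.mul_apply]
    rcases hb y hy with h | ⟨h2, h⟩
    · rw [h]; exact ha y hy
    · rw [h, map_inv]
      rcases ha y hy with h' | ⟨_, h'⟩
      · rw [h']; exact Or.inr ⟨h2, rfl⟩
      · rw [h', inv_inv]; exact Or.inl rfl
  inv_mem' := by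
    intro a ha
    -- a⁻¹ is a power of a
    have hpow : ∀ n : ℕ, ∀ y ∈ smallSet F p R, (a ^ n) y = y ∨ (p = 2 ∧ (a ^ n) y = y⁻¹) := by
      intro n
      induction n with
      | zero => intro y _; left; simp
      | succ n ih =>
        intro y hy
        rw [pow_succ, MulAut.mul_apply]
        rcases ha y hy with h | ⟨h2, h⟩
        · rw [h]; exact ih y hy
        · rw [h, map_inv]
          rcases ih y hy with h' | ⟨_, h'⟩
          · rw [h']; exact Or.inr ⟨h2, rfl⟩
          · rw [h', inv_inv]; exact Or.inl rfl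
    have hfin : IsOfFinOrder a := isOfFinOrder_of_finite a
    have : a⁻¹ = a ^ (orderOf a - 1) := by
      have h1 : a ^ (orderOf a - 1) * a = 1 := by
        rw [← pow_succ, Nat.sub_add_cancel hfin.orderOf_pos, pow_orderOf_eq_one]
      exact (eq_inv_of_mul_eq_one_left h1).symm
    rw [this]
    exact hpow _

theorem mem_fixGroup {F : FusionSystem S} {R : Subgroup Ω} [Finite R] {a : MulAut R} :
    a ∈ fixGroup F p R ↔ ∀ y ∈ smallSet F p R, a y = y ∨ (p = 2 ∧ a y = y⁻¹) := Iff.rfl

variable [Fact p.Prime]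

/-- conjugation by elements of `S` lies in the fix group, under the hypothesis. -/
theorem autInducedBy_le_fixGroup (hS : IsPGroup p S) (F : FusionSystem S) {R : Subgroup Ω}
    [Finite R]
    (hnorm : ∀ x ∈ F.focalSubgroup, (x ^ p = 1 ∨ (p = 2 ∧ x ^ 4 = 1)) →
      ∀ s ∈ S, s * x * s⁻¹ ∈ Subgroup.zpowers x) :
    autInducedBy S R ≤ fixGroup F p R := by
  unfold autInducedBy
  rw [Subgroup.closure_le]
  rintro a ⟨g, hg, hga⟩ y hy
  have hcond : ((y : Ω) ^ p = 1 ∨ (p = 2 ∧ (y : Ω) ^ 4 = 1)) := by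
    rcases hy.2 with h | ⟨h2, h⟩
    · left; rw [← Subgroup.coe_pow, h, Subgroup.coe_one]
    · right; exact ⟨h2, by rw [← Subgroup.coe_pow, h, Subgroup.coe_one]⟩
  have hz := hnorm (y : Ω) hy.1 hcond g hg
  have hfin : IsOfFinOrder (y : Ω) := by
    rcases hcond with h | ⟨_, h⟩
    · exact isOfFinOrder_iff_pow_eq_one.2 ⟨p, (Fact.out : p.Prime).pos, h⟩
    · exact isOfFinOrder_iff_pow_eq_one.2 ⟨4, by norm_num, h⟩
  rw [← hfin.mem_powers_iff_mem_zpowers] at hz
  obtain ⟨j, hj⟩ := hz
  -- hj : y ^ j = g y g⁻¹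
  obtain ⟨k, hk⟩ := hS ⟨g, hg⟩
  have hgk : g ^ (p ^ k) = 1 := by
    have := congrArg (Subtype.val) hk
    simpa using this
  rcases hcond with h | ⟨h2, h⟩
  · left
    apply Subtype.ext
    rw [hga y]
    exact conj_eq_self_of_pow_prime hgk h hj.symm
  · rcases conj_eq_self_or_inv_of_pow_four h hj.symm with h' | h'
    · left
      apply Subtype.ext
      rw [hga y]; exact h'
    · right
      refine ⟨h2, ?_⟩
      apply Subtype.ext
      rw [hga y, Subgroup.coe_inv]; exact h'

/-- a `p'`-element of the fix group lying in `Aut_F(R)` is trivial. -/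
theorem eq_one_of_mem_fixGroup (hS : IsPGroup p S) (F : FusionSystem S) {R : Subgroup Ω}
    [Finite R] (hR : R ≤ S) {a : MulAut R} (haF : a ∈ F.autGroup R)
    (ha : a ∈ fixGroup F p R) (hcop : (orderOf a).Coprime p) : a = 1 := by
  have hRp : IsPGroup p R := hS.to_le hR
  -- a fixes the small set pointwise
  have hfixV : ∀ y ∈ smallSet F p R, a y = y := by
    intro y hy
    rcases ha y hy with h | ⟨h2, h⟩
    · exact h
    · -- p = 2, a of odd order inverting y
      have hodd : Odd (orderOf a) := by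
        rw [h2] at hcop
        exact Nat.Coprime.odd_of_right hcop
      have hpow : ∀ n : ℕ, Odd n → (a ^ n) y = y⁻¹ := by
        intro n hn
        obtain ⟨m, rfl⟩ := hn
        induction m with
        | zero => simpa using h
        | succ m ih =>
          have e : 2 * (m + 1) + 1 = (2 * m + 1) + 2 := by ring
          rw [e, pow_add, MulAut.mul_apply]
          have h2' : (a ^ 2) y = y := by
            rw [pow_two, MulAut.mul_apply, h, map_inv, h, inv_inv]
          rw [h2']
          exact ih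
      have := hpow _ hodd
      rw [pow_orderOf_eq_one, MulAut.one_apply] at this
      rw [h, ← this]
  apply Cfsg.Agent.Lib.Helper84.Om.aut_eq_one_of_fix_omega hRp a hcop
  intro y hyK hysmall
  apply hfixV
  refine ⟨?_, hysmall⟩
  -- the closure lies in the focal subgroup
  have hle : Subgroup.closure {c : R | ∃ x : R, c = x⁻¹ * a x}
      ≤ F.focalSubgroup.comap R.subtype := by
    rw [Subgroup.closure_le]
    rintro c ⟨x, rfl⟩
    show ((x⁻¹ * a x : R) : Ω) ∈ F.focalSubgroup
    rw [Subgroup.coe_mul, Subgroup.coe_inv]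
    exact Subgroup.subset_closure ⟨R, R.subtype.comp a.toMonoidHom, x,
      (Cfsg.Agent.Lib.Helper87.mem_autGroup_iff F hR a).1 haF, rfl⟩
  exact hle hyK

variable [Finite S]

/-- under the hypothesis, `Aut_S(R)` is a normal Sylow subgroup of `Aut_F(R)` whenever it is a
Sylow subgroup. -/
theorem exists_normal_sylow (hS : IsPGroup p S) (F : FusionSystem S) {R : Subgroup Ω}
    (hfa : F.IsFullyAutomized p R)
    (hnorm : ∀ x ∈ F.focalSubgroup, (x ^ p = 1 ∨ (p = 2 ∧ x ^ 4 = 1)) →
      ∀ s ∈ S, s * x * s⁻¹ ∈ Subgroup.zpowers x) :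
    ∃ T : Sylow p (F.autGroup R), (T : Subgroup (F.autGroup R)).Normal := by
  obtain ⟨hR, T, hT⟩ := hfa
  have : Finite R := Finite.of_injective _ (Subgroup.inclusion_injective hR)
  refine ⟨T, ?_⟩
  set N : Subgroup (F.autGroup R) := (fixGroup F p R).subgroupOf (F.autGroup R) with hN
  have hNnormal : N.Normal := by
    constructor
    intro a ha b
    rw [hN, Subgroup.mem_subgroupOf] at ha ⊢
    intro y hy
    have hb' : ((b⁻¹ : F.autGroup R) : MulAut R) ∈ F.autGroup R := (b⁻¹).2
    have hz := apply_mem_smallSet hR hb' hy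
    simp only [Subgroup.coe_mul, MulAut.mul_apply]
    rcases ha _ hz with h | ⟨h2, h⟩
    · left
      rw [h]
      simp
    · right
      refine ⟨h2, ?_⟩
      rw [h, map_inv]
      simp
  have hTN : (T : Subgroup (F.autGroup R)) ≤ N := by
    rw [hT, hN]
    intro a ha
    rw [Subgroup.mem_subgroupOf] at ha ⊢
    exact autInducedBy_le_fixGroup hS F hnorm ha
  have hNp : IsPGroup p N := by
    intro a
    have hpos : orderOf a ≠ 0 := (isOfFinOrder_of_finite a).orderOf_pos.ne'
    obtain ⟨k, m, hm, hkm⟩ := Nat.exists_eq_pow_mul_and_not_dvd hpos p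
      (Fact.out : p.Prime).ne_one
    refine ⟨k, ?_⟩
    set b := a ^ (p ^ k) with hb
    have hbord : orderOf b = m := by
      rw [hb, orderOf_pow' a (pow_ne_zero k (Fact.out : p.Prime).ne_zero), hkm,
        Nat.gcd_eq_right (dvd_mul_right _ _), Nat.mul_div_cancel_left _
          (pow_pos (Fact.out : p.Prime).pos k)]
    have hcop : (orderOf ((b : F.autGroup R) : MulAut R)).Coprime p := by
      rw [Subgroup.orderOf_coe, Subgroup.orderOf_coe, hbord]
      exact ((Fact.out : p.Prime).coprime_iff_not_dvd.2 hm).symm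
    have hbfix : ((b : F.autGroup R) : MulAut R) ∈ fixGroup F p R := by
      have h0 : (b : F.autGroup R) ∈ N := b.2
      exact Subgroup.mem_subgroupOf.1 h0
    have h1 := eq_one_of_mem_fixGroup hS F hR (b : F.autGroup R).2 hbfix hcop
    apply Subtype.ext
    apply Subtype.ext
    rw [h1]
    rfl
  have hEq : N = (T : Subgroup (F.autGroup R)) := T.is_maximal' hNp hTN
  rw [← hEq]
  exact hNnormal

/-- **Main theorem.** -/
theorem isNormal_top_of_small_cyclic_normal (hS : IsPGroup p S) (F : FusionSystem S)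
    (hF : F.IsSaturated p)
    (hnorm : ∀ x ∈ F.focalSubgroup, (x ^ p = 1 ∨ (p = 2 ∧ x ^ 4 = 1)) →
      ∀ s ∈ S, s * x * s⁻¹ ∈ Subgroup.zpowers x) :
    F.IsNormal S := by
  apply Cfsg.Agent.Lib.Helper88.isNormal_top_of_extends
  intro P φ hφ
  refine Cfsg.Agent.Lib.Helper88.extends_to_top_of_alperin_eq_top hS F hF ?_ hφ
  intro R hR
  exact Cfsg.Agent.Lib.Helper88.eq_top_of_normal_sylow hS F hR.1 hR.2.2.1 hR.2.2.2
    (exists_normal_sylow hS F hR.1 hnorm)

end Cfsg.Agent.Lib.Helper84.FN
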