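import Mathlib
import Cfsg.Prelude.Def_FusionSystem

set_option autoImplicit false

namespace Cfsg.Agent.Lib.Helper84

open scoped Pointwise

theorem mem_conj_smul {G : Type*} [Group G] (g x : G) (P : Subgroup G) :
    x ∈ MulAut.conj g • P ↔ g⁻¹ * x * g ∈ P := by
  rw [Subgroup.mem_pointwise_smul_iff_inv_smul_mem, ← map_inv, MulAut.smul_def, MulAut.conj_apply, inv_inv]

theorem conj_mem_conj_smul {G : Type*} [Group G] (g : G) {x : G} {P : Subgroup G} (hx : x ∈ P) :
    g * x * g⁻¹ ∈ MulAut.conj g • P := by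
  rw [mem_conj_smul]
  simpa [mul_assoc] using hx

theorem card_conj_smul {G : Type*} [Group G] (g : G) (P : Subgroup G) :
    Nat.card (MulAut.conj g • P : Subgroup G) = Nat.card P :=
  (Nat.card_congr (Subgroup.equivSMul (MulAut.conj g) P).toEquiv).symm

theorem groupFusion_isConj_iff {G : Type*} [Group G] (S P Q : Subgroup G) :
    (Cfsg.groupFusionSystem S).IsConj P Q ↔ P ≤ S ∧ Q ≤ S ∧ ∃ g : G, Q = MulAut.conj g • P := by
  constructor
  · rintro ⟨φ, ⟨hP, hφS, g, hg⟩, hrange⟩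
    refine ⟨hP, ?_, g, ?_⟩
    · rw [← hrange]
      rintro _ ⟨x, rfl⟩
      exact hφS x
    · rw [← hrange]
      ext x
      rw [mem_conj_smul]
      constructor
      · rintro ⟨y, rfl⟩
        rw [hg]
        simpa [mul_assoc] using y.2
      · intro hx
        refine ⟨⟨g⁻¹ * x * g, hx⟩, ?_⟩
        rw [hg]
        simp [mul_assoc]
  · rintro ⟨hP, hQ, g, rfl⟩
    refine ⟨Cfsg.conjHom P g, ⟨hP, ?_, g, fun x => rfl⟩, ?_⟩
    · intro x
      apply hQ
      exact conj_mem_conj_smul g x.2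
    · ext x
      rw [mem_conj_smul]
      constructor
      · rintro ⟨y, rfl⟩
        show g⁻¹ * (g * (y : G) * g⁻¹) * g ∈ P
        simpa [mul_assoc] using y.2
      · intro hx
        refine ⟨⟨g⁻¹ * x * g, hx⟩, ?_⟩
        show g * (g⁻¹ * x * g) * g⁻¹ = x
        simp [mul_assoc]

theorem conj_smul_normalizer_le {G : Type*} [Group G] (g : G) (P : Subgroup G) :
    MulAut.conj g • Subgroup.normalizer (P : Set G) ≤
      Subgroup.normalizer ((MulAut.conj g • P : Subgroup G) : Set G) := by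
  intro n hn
  rw [mem_conj_smul] at hn
  rw [Subgroup.mem_normalizer_iff]
  intro h
  rw [mem_conj_smul, mem_conj_smul]
  have := (Subgroup.mem_normalizer_iff.mp hn) (g⁻¹ * h * g)
  rw [this]
  have e : g⁻¹ * n * g * (g⁻¹ * h * g) * (g⁻¹ * n * g)⁻¹ = g⁻¹ * (n * h * n⁻¹) * g := by group
  rw [e]

end Cfsg.Agent.Lib.Helper84
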