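import Mathlib
import Cfsg.Prelude.Def_ClassicalGeometry
import Cfsg.Prelude.Def_GeometricClasses
import Cfsg.Prelude.Def_Classical
import Cfsg.Agent.Lib.Helper15.HqDefs

/-! # Hq hive (helper15, S5974): leaf HQ-CONJ `fixHL_of_conj` -/

set_option autoImplicit false

namespace Cfsg.Agent.Lib.Helper15.Hq

open Module

section char2

variable {F : Type*} [Field F]

local notation "VV" d => (Fin d ⊕ Fin d → F)

theorem conj_polar (d : ℕ) (g : (VV d) ≃ₗ[F] (VV d))
    (hg : ∀ v, Cfsg.quadFormPlus d F (g v) = Cfsg.quadFormPlus d F v) (u v : VV d) :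
    QuadraticMap.polar (Cfsg.quadFormPlus d F) (g u) (g v) =
      QuadraticMap.polar (Cfsg.quadFormPlus d F) u v := by
  unfold QuadraticMap.polar
  rw [← map_add, hg, hg, hg]

theorem conj_symm (d : ℕ) (g : (VV d) ≃ₗ[F] (VV d))
    (hg : ∀ v, Cfsg.quadFormPlus d F (g v) = Cfsg.quadFormPlus d F v) (v : VV d) :
    Cfsg.quadFormPlus d F (g.symm v) = Cfsg.quadFormPlus d F v := by
  have h := hg (g.symm v)
  rw [LinearEquiv.apply_symm_apply] at h
  exact h.symm

/-- an isometry maps hyperbolic `m`-spaces to hyperbolic `m`-spaces -/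
theorem conj_isHyp_map (d m : ℕ) (g : (VV d) ≃ₗ[F] (VV d))
    (hg : ∀ v, Cfsg.quadFormPlus d F (g v) = Cfsg.quadFormPlus d F v)
    {W : Submodule F (VV d)} (hW : IsHyp d m W) :
    IsHyp d m (W.map (g : (VV d) →ₗ[F] (VV d))) := by
  obtain ⟨hfin, hnd, U, hUW, hUfin, hUs⟩ := hW
  refine ⟨?_, ?_, U.map (g : (VV d) →ₗ[F] (VV d)), Submodule.map_mono hUW, ?_, ?_⟩
  · rw [LinearEquiv.finrank_map_eq, hfin]
  · rintro _ ⟨u, hu, rfl⟩ hne
    have hu0 : u ≠ 0 := by
      rintro rfl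
      exact hne (map_zero _)
    obtain ⟨v, hv, hpol⟩ := hnd u hu hu0
    refine ⟨g v, ⟨v, hv, rfl⟩, ?_⟩
    change QuadraticMap.polar (Cfsg.quadFormPlus d F) (g u) (g v) ≠ 0
    rw [conj_polar d g hg]
    exact hpol
  · rw [LinearEquiv.finrank_map_eq, hUfin]
  · rintro _ ⟨u, hu, rfl⟩
    change Cfsg.quadFormPlus d F (g u) = 0
    rw [hg]
    exact hUs u hu

/-- HQ-CONJ: transfer along a conjugating isometry (`W := W'.map g.symm`; an isometry maps
totally singular subspaces to totally singular ones, preserves `polar`, `finrank`). -/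
theorem fixHL_of_conj (d m : ℕ) {t t' : (VV d) →ₗ[F] (VV d)} (g : (VV d) ≃ₗ[F] (VV d))
    (hg : ∀ v, Cfsg.quadFormPlus d F (g v) = Cfsg.quadFormPlus d F v)
    (hgt : ∀ z, g (t z) = t' (g z)) (h : FixHL d m t') : FixHL d m t := by
  obtain ⟨W', hW', hinv⟩ := h
  refine ⟨W'.map (g.symm : (VV d) →ₗ[F] (VV d)),
    conj_isHyp_map d m g.symm (conj_symm d g hg) hW', ?_⟩
  rintro _ ⟨_, ⟨w', hw', rfl⟩, rfl⟩
  refine ⟨t' w', hinv ⟨w', hw', rfl⟩, ?_⟩
  change g.symm (t' w') = t (g.symm w')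
  apply g.injective
  rw [LinearEquiv.apply_symm_apply, hgt, LinearEquiv.apply_symm_apply]

end char2

end Cfsg.Agent.Lib.Helper15.Hq
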