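import Cfsg.Agent.Lib.Helper87.Lemma26

/-!
# `K`-normalizers relative to a marking (AKO I.5.2)

For `U ≤ S`, `K ≤ Aut(U)` and a map `φ : U →* Ω` (a "marking" of `U`, in use a map of the fusion
system), `nk S U K φ` is the subgroup of those `y ∈ S` whose conjugation action on `φ(U)`,
pulled back along `φ`, lies in `K`; for `φ` the inclusion this is `N_S^K(U)`, and for general
`φ` it is `N_S^{K^φ}(φ(U))`.  `bk S U K φ` is the corresponding subgroup of `K`.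
-/

set_option autoImplicit false

namespace Cfsg.Agent.Lib.Helper84.KN

open Cfsg Cfsg.FusionSystem Cfsg.Agent.Lib.Helper87

variable {Ω : Type*} [Group Ω] {S : Subgroup Ω}

/-- `N_S^{K^φ}(φ(U))`. -/
def nk (S U : Subgroup Ω) (K : Subgroup (MulAut U)) (φ : U →* Ω) : Subgroup Ω where
  carrier := {y | y ∈ S ∧ ∃ k ∈ K, ∀ x : U, y * φ x * y⁻¹ = φ (k x)}
  one_mem' := ⟨S.one_mem, 1, K.one_mem, fun x => by simp⟩
  mul_mem' := by
    rintro a b ⟨ha, k, hk, hka⟩ ⟨hb, l, hl, hlb⟩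
    refine ⟨S.mul_mem ha hb, k * l, K.mul_mem hk hl, fun x => ?_⟩
    calc a * b * φ x * (a * b)⁻¹ = a * (b * φ x * b⁻¹) * a⁻¹ := by group
      _ = φ ((k * l) x) := by rw [hlb, hka]; rfl
  inv_mem' := by
    rintro a ⟨ha, k, hk, hka⟩
    refine ⟨S.inv_mem ha, k⁻¹, K.inv_mem hk, fun x => ?_⟩
    have h := hka (k⁻¹ x)
    have e : k (k⁻¹ x) = x := by simp
    rw [e] at h
    rw [← h]
    group

theorem mem_nk {U : Subgroup Ω} {K : Subgroup (MulAut U)} {φ : U →* Ω} {y : Ω} :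
    y ∈ nk S U K φ ↔ y ∈ S ∧ ∃ k ∈ K, ∀ x : U, y * φ x * y⁻¹ = φ (k x) := Iff.rfl

theorem nk_le (U : Subgroup Ω) (K : Subgroup (MulAut U)) (φ : U →* Ω) : nk S U K φ ≤ S :=
  fun _ h => h.1

/-- The subgroup of `K` induced by `S` through the marking `φ`. -/
def bk (S U : Subgroup Ω) (K : Subgroup (MulAut U)) (φ : U →* Ω) : Subgroup (MulAut U) where
  carrier := {k | k ∈ K ∧ ∃ y ∈ S, ∀ x : U, y * φ x * y⁻¹ = φ (k x)}
  one_mem' := ⟨K.one_mem, 1, S.one_mem, fun x => by simp⟩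
  mul_mem' := by
    rintro k l ⟨hk, a, ha, hka⟩ ⟨hl, b, hb, hlb⟩
    refine ⟨K.mul_mem hk hl, a * b, S.mul_mem ha hb, fun x => ?_⟩
    calc a * b * φ x * (a * b)⁻¹ = a * (b * φ x * b⁻¹) * a⁻¹ := by group
      _ = φ ((k * l) x) := by rw [hlb, hka]; rfl
  inv_mem' := by
    rintro k ⟨hk, a, ha, hka⟩
    refine ⟨K.inv_mem hk, a⁻¹, S.inv_mem ha, fun x => ?_⟩
    have h := hka (k⁻¹ x)
    have e : k (k⁻¹ x) = x := by simp
    rw [e] at h
    rw [← h]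
    group

theorem mem_bk {U : Subgroup Ω} {K : Subgroup (MulAut U)} {φ : U →* Ω} {k : MulAut U} :
    k ∈ bk S U K φ ↔ k ∈ K ∧ ∃ y ∈ S, ∀ x : U, y * φ x * y⁻¹ = φ (k x) := Iff.rfl

theorem bk_le (U : Subgroup Ω) (K : Subgroup (MulAut U)) (φ : U →* Ω) : bk S U K φ ≤ K :=
  fun _ h => h.1

/-- For an injective marking, the automorphism attached to an element is unique. -/
theorem eq_of_conj_eq {U : Subgroup Ω} {φ : U →* Ω} (hinj : Function.Injective φ)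
    {k l : MulAut U} {y : Ω} (hk : ∀ x : U, y * φ x * y⁻¹ = φ (k x))
    (hl : ∀ x : U, y * φ x * y⁻¹ = φ (l x)) : k = l := by
  ext x
  have := hinj ((hk x).symm.trans (hl x))
  rw [this]

theorem pow_conj {U : Subgroup Ω} {φ : U →* Ω} {k : MulAut U} {y : Ω}
    (hk : ∀ x : U, y * φ x * y⁻¹ = φ (k x)) (n : ℕ) :
    ∀ x : U, y ^ n * φ x * (y ^ n)⁻¹ = φ ((k ^ n) x) := by
  induction n with
  | zero => intro x; simp
  | succ n ih =>
    intro x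
    rw [pow_succ, pow_succ]
    calc y ^ n * y * φ x * (y ^ n * y)⁻¹ = y ^ n * (y * φ x * y⁻¹) * (y ^ n)⁻¹ := by group
      _ = φ ((k ^ n * k) x) := by rw [hk, ih]; rfl

/-- `bk` is a `p`-group when `S` is, for an injective marking. -/
theorem bk_isPGroup {p : ℕ} (hS : IsPGroup p S) {U : Subgroup Ω} (K : Subgroup (MulAut U))
    {φ : U →* Ω} (hinj : Function.Injective φ) : IsPGroup p (bk S U K φ) := by
  rintro ⟨k, hk, y, hy, hyk⟩
  obtain ⟨n, hn⟩ := hS ⟨y, hy⟩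
  refine ⟨n, ?_⟩
  apply Subtype.ext
  have hy' : y ^ p ^ n = 1 := by
    have := congrArg Subtype.val hn
    simpa using this
  have h1 := pow_conj hyk (p ^ n)
  rw [hy'] at h1
  show k ^ p ^ n = 1
  ext x
  have h2 := h1 x
  simp only [one_mul, inv_one, mul_one] at h2
  have := hinj h2
  rw [← this]
  rfl

/-- The automorphism `k` attached to an element of `nk` for a map of the system lies in
`Aut_F(U)`. -/
theorem mem_autGroup_of_conj (F : FusionSystem S) {U : Subgroup Ω} {φ : U →* Ω}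
    (hφ : φ ∈ F.Hom U) {k : MulAut U} {y : Ω} (hy : y ∈ S)
    (hk : ∀ x : U, y * φ x * y⁻¹ = φ (k x)) : k ∈ F.autGroup U := by
  have hU : U ≤ S := hom_le F hφ
  rw [Cfsg.Agent.Lib.Helper87.mem_autGroup_iff F hU]
  -- `ι ∘ k = φ⁻¹ ∘ c_y ∘ φ`
  obtain ⟨ψ, hψ, hψinv, -⟩ := inv_exists F hφ rfl
  have hc : conjHom φ.range y ∈ F.Hom φ.range := F.conj_mem (range_le F hφ) hy
  have hmaps1 : ∀ x : U, φ x ∈ φ.range := fun x => ⟨x, rfl⟩
  obtain ⟨χ₁, hχ₁, hχ₁e⟩ := comp_mem' F hφ hc hmaps1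
  have hmaps2 : ∀ x : U, χ₁ x ∈ φ.range := by
    intro x
    rw [hχ₁e]
    exact ⟨k x, (hk x).symm⟩
  obtain ⟨χ₂, hχ₂, hχ₂e⟩ := comp_mem' F hχ₁ hψ hmaps2
  have : U.subtype.comp k.toMonoidHom = χ₂ := by
    ext x
    rw [hχ₂e]
    have h3 : (⟨χ₁ x, hmaps2 x⟩ : φ.range) = ⟨φ (k x), hmaps1 (k x)⟩ := by
      apply Subtype.ext
      show χ₁ x = φ (k x)
      rw [hχ₁e]
      exact hk x
    rw [h3]
    exact (hψinv (k x) (hmaps1 (k x))).symm
  rw [this]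
  exact hχ₂

theorem bk_le_autGroup (F : FusionSystem S) {U : Subgroup Ω} (K : Subgroup (MulAut U))
    {φ : U →* Ω} (hφ : φ ∈ F.Hom U) : bk S U K φ ≤ K ⊓ F.autGroup U := by
  rintro k ⟨hk, y, hy, hyk⟩
  exact ⟨hk, mem_autGroup_of_conj F hφ hy hyk⟩

theorem conj_inv_eq {U : Subgroup Ω} {φ : U →* Ω} {k : MulAut U} {y : Ω}
    (hk : ∀ x : U, y * φ x * y⁻¹ = φ (k x)) (x : U) : y⁻¹ * φ x * y = φ (k⁻¹ x) := by
  have h := hk (k⁻¹ x)
  have e : k (k⁻¹ x) = x := by simp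
  rw [e] at h
  rw [← h]
  group

theorem nk_le_normalizer (U : Subgroup Ω) (K : Subgroup (MulAut U)) (φ : U →* Ω) :
    nk S U K φ ≤ Subgroup.normalizer (φ.range : Set Ω) := by
  rintro y ⟨-, k, -, hk⟩
  rw [Subgroup.mem_normalizer_iff]
  intro n
  constructor
  · rintro ⟨x, rfl⟩
    exact ⟨k x, (hk x).symm⟩
  · rintro ⟨x', hx'⟩
    refine ⟨k⁻¹ x', ?_⟩
    rw [← conj_inv_eq hk x', hx']
    group

/-- A good marking of `U` for `K`: a map of the system onto a receptive subgroup such that the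
automorphisms in `K` induced by `S` through the marking form a Sylow `p`-subgroup of
`K ⊓ Aut_F(U)`. -/
structure GoodMark (F : FusionSystem S) (p : ℕ) (U : Subgroup Ω) (K : Subgroup (MulAut U))
    (φ₀ : U →* Ω) : Prop where
  mem : φ₀ ∈ F.Hom U
  recep : F.IsReceptive φ₀.range
  syl : ∃ R : Sylow p ↥(K ⊓ F.autGroup U),
    ∀ a : ↥(K ⊓ F.autGroup U), a ∈ R ↔ (a : MulAut U) ∈ bk S U K φ₀

open scoped Pointwise in
/-- AKO I.5.2(c), marking form: every marking extends to its `K`-normalizer, with values in a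
good marking, up to an element of `K ⊓ Aut_F(U)`. -/
theorem exists_extension [Finite S] {p : ℕ} [Fact p.Prime] (hS : IsPGroup p S)
    (F : FusionSystem S) {U : Subgroup Ω} {K : Subgroup (MulAut U)} {φ₀ : U →* Ω}
    (h₀ : GoodMark F p U K φ₀) {φ : U →* Ω} (hφ : φ ∈ F.Hom U) :
    ∃ χ ∈ K ⊓ F.autGroup U, ∃ ψ ∈ F.Hom (nk S U K φ ⊔ φ.range),
      ∀ (x : U) (h : φ x ∈ nk S U K φ ⊔ φ.range), ψ ⟨φ x, h⟩ = φ₀ (χ x) := by
  have hU : U ≤ S := hom_le F hφ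
  have hfinU : Finite U := finite_of_le hU
  obtain ⟨R, hR⟩ := h₀.syl
  have hinj := F.injective_of_mem hφ
  have hTp : IsPGroup p ((bk S U K φ).subgroupOf (K ⊓ F.autGroup U)) :=
    (bk_isPGroup hS K hinj).comap_of_injective _ (Subgroup.subtype_injective _)
  obtain ⟨R₂, hR₂⟩ := hTp.exists_le_sylow
  obtain ⟨g, hg⟩ := MulAction.exists_smul_eq (↥(K ⊓ F.autGroup U)) R₂ R
  have hconj : ∀ t ∈ bk S U K φ, (g : MulAut U) * t * (g : MulAut U)⁻¹ ∈ bk S U K φ₀ := by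
    intro t ht
    have htA : t ∈ K ⊓ F.autGroup U := bk_le_autGroup F K hφ ht
    have h1 : (⟨t, htA⟩ : ↥(K ⊓ F.autGroup U)) ∈ (R₂ : Subgroup ↥(K ⊓ F.autGroup U)) :=
      hR₂ (Subgroup.mem_subgroupOf.mpr ht)
    have h2 : MulAut.conj g • (⟨t, htA⟩ : ↥(K ⊓ F.autGroup U)) ∈
        MulAut.conj g • (R₂ : Subgroup ↥(K ⊓ F.autGroup U)) :=
      Subgroup.smul_mem_pointwise_smul _ _ _ h1
    have h3 : MulAut.conj g • (R₂ : Subgroup ↥(K ⊓ F.autGroup U)) =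
        (R : Subgroup ↥(K ⊓ F.autGroup U)) := by
      rw [← hg]; rfl
    rw [h3] at h2
    have h4 := (hR _).mp h2
    simpa [MulAut.smul_def, MulAut.conj_apply] using h4
  refine ⟨(g : MulAut U), g.2, ?_⟩
  -- the map `θ = φ₀ ∘ χ ∘ φ⁻¹`
  obtain ⟨ψ₁, hψ₁, hψ₁inv, hψ₁r⟩ := inv_exists F hφ rfl
  have hχF : U.subtype.comp (g : MulAut U).toMonoidHom ∈ F.Hom U :=
    (Cfsg.Agent.Lib.Helper87.mem_autGroup_iff F hU _).mp g.2.2
  have hm1 : ∀ z : φ.range, ψ₁ z ∈ U := fun z => hψ₁r.le ⟨z, rfl⟩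
  obtain ⟨χ₁, hχ₁, hχ₁e⟩ := comp_mem' F hψ₁ hχF hm1
  have hm2 : ∀ z : φ.range, χ₁ z ∈ U := by
    intro z
    rw [hχ₁e]
    exact ((g : MulAut U) _).2
  obtain ⟨θ, hθ, hθe⟩ := comp_mem' F hχ₁ h₀.mem hm2
  have hmr : ∀ x : U, φ x ∈ φ.range := fun x => ⟨x, rfl⟩
  have hθφ : ∀ x : U, θ ⟨φ x, hmr x⟩ = φ₀ ((g : MulAut U) x) := by
    intro x
    rw [hθe]
    congr 1
    apply Subtype.ext
    show χ₁ ⟨φ x, hmr x⟩ = ((g : MulAut U) x : Ω)
    rw [hχ₁e]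
    have : (⟨ψ₁ ⟨φ x, hmr x⟩, hm1 ⟨φ x, hmr x⟩⟩ : U) = x := Subtype.ext (hψ₁inv x (hmr x))
    rw [this]
    rfl
  have hθr : θ.range = φ₀.range := by
    apply le_antisymm
    · rintro _ ⟨z, rfl⟩
      rw [hθe]
      exact ⟨_, rfl⟩
    · rintro _ ⟨x, rfl⟩
      refine ⟨⟨φ ((g : MulAut U)⁻¹ x), hmr _⟩, ?_⟩
      rw [hθφ]
      simp
  have hM : nk S U K φ ⊔ φ.range ≤ extender S φ.range θ := by
    apply sup_le _ (self_le_extender F hθ)
    rintro y ⟨hyS, k, hkK, hk⟩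
    obtain ⟨-, h, hhS, hh⟩ := hconj k ⟨hkK, y, hyS, hk⟩
    refine Subgroup.subset_closure
      ⟨hyS, nk_le_normalizer U K φ ⟨hyS, k, hkK, hk⟩, h, hhS, ?_⟩
    rintro ⟨_, x, rfl⟩ hz
    have e1 : (⟨y * φ x * y⁻¹, hz⟩ : φ.range) = ⟨φ (k x), hmr _⟩ := Subtype.ext (hk x)
    have e2 : (⟨φ x, ⟨x, rfl⟩⟩ : φ.range) = ⟨φ x, hmr x⟩ := rfl
    show θ ⟨y * φ x * y⁻¹, hz⟩ = h * θ ⟨φ x, ⟨x, rfl⟩⟩ * h⁻¹
    rw [e1, e2, hθφ, hθφ, hh]
    simp
  obtain ⟨ψ, hψ, hψe⟩ := extend_to_sub F hθ hθr h₀.recep hM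
  refine ⟨ψ, hψ, fun x h => ?_⟩
  rw [hψe (φ x) (hmr x) h, hθφ]

/-- Transport of the `K`-normalizer relation along a map `ψ` with `ψ ∘ φ = φ' ∘ χ`. -/
theorem conj_map {U : Subgroup Ω} {φ φ' : U →* Ω} {D : Subgroup Ω} (ψ : D →* Ω)
    (χ : MulAut U) (hD : φ.range ≤ D)
    (hψφ : ∀ (x : U) (h : φ x ∈ D), ψ ⟨φ x, h⟩ = φ' (χ x))
    {y : Ω} (hyD : y ∈ D) {k : MulAut U} (hk : ∀ x : U, y * φ x * y⁻¹ = φ (k x)) (z : U) :
    ψ ⟨y, hyD⟩ * φ' z * (ψ ⟨y, hyD⟩)⁻¹ = φ' ((χ * k * χ⁻¹) z) := by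
  have hz : z = χ (χ⁻¹ z) := by simp
  have hx1 : φ (χ⁻¹ z) ∈ D := hD ⟨_, rfl⟩
  have hx2 : φ (k (χ⁻¹ z)) ∈ D := hD ⟨_, rfl⟩
  have e1 : φ' z = ψ ⟨φ (χ⁻¹ z), hx1⟩ := by
    rw [hψφ]
    congr 1
  have e2 : (⟨y, hyD⟩ : D) * ⟨φ (χ⁻¹ z), hx1⟩ * (⟨y, hyD⟩ : D)⁻¹ = ⟨φ (k (χ⁻¹ z)), hx2⟩ := by
    apply Subtype.ext
    exact hk _
  rw [e1, ← map_inv, ← map_mul, ← map_mul, e2, hψφ]
  rfl

/-- An extension `ψ` as in `exists_extension` maps `nk φ` into `nk φ'`, hence the cardinality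
inequality. -/
theorem card_nk_le_of_map [Finite S] (F : FusionSystem S) {U : Subgroup Ω}
    {K : Subgroup (MulAut U)} {φ φ' : U →* Ω} {D : Subgroup Ω} {ψ : D →* Ω} (hψ : ψ ∈ F.Hom D)
    {χ : MulAut U} (hχ : χ ∈ K) (hD : nk S U K φ ⊔ φ.range ≤ D)
    (hψφ : ∀ (x : U) (h : φ x ∈ D), ψ ⟨φ x, h⟩ = φ' (χ x)) :
    Nat.card (nk S U K φ) ≤ Nat.card (nk S U K φ') := by
  have hfin : Finite (nk S U K φ') := finite_of_le (nk_le U K φ')
  have hND : nk S U K φ ≤ D := le_sup_left.trans hD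
  have hRD : φ.range ≤ D := le_sup_right.trans hD
  have hmaps : ∀ y : nk S U K φ, ψ ⟨y, hND y.2⟩ ∈ nk S U K φ' := by
    rintro ⟨y, hyS, k, hkK, hk⟩
    refine ⟨hom_mem_S F hψ _, χ * k * χ⁻¹, K.mul_mem (K.mul_mem hχ hkK) (K.inv_mem hχ), ?_⟩
    intro z
    exact conj_map ψ χ hRD hψφ _ hk z
  let f : nk S U K φ → nk S U K φ' := fun y => ⟨ψ ⟨y, hND y.2⟩, hmaps y⟩
  have hf : Function.Injective f := by
    intro a b hab
    have h1 : ψ ⟨a, hND a.2⟩ = ψ ⟨b, hND b.2⟩ := congrArg Subtype.val hab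
    have h2 := F.injective_of_mem hψ h1
    exact Subtype.ext (congrArg (fun t : D => (t : Ω)) h2)
  exact Nat.card_le_card_of_injective f hf

/-- If moreover `|nk φ'| ≤ |nk φ|`, every element of `nk φ'` is the image of an element of
`nk φ`. -/
theorem exists_preimage_of_card_le [Finite S] (F : FusionSystem S) {U : Subgroup Ω}
    {K : Subgroup (MulAut U)} {φ φ' : U →* Ω} {D : Subgroup Ω} {ψ : D →* Ω} (hψ : ψ ∈ F.Hom D)
    {χ : MulAut U} (hχ : χ ∈ K) (hD : nk S U K φ ⊔ φ.range ≤ D)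
    (hψφ : ∀ (x : U) (h : φ x ∈ D), ψ ⟨φ x, h⟩ = φ' (χ x))
    (hcard : Nat.card (nk S U K φ') ≤ Nat.card (nk S U K φ)) :
    ∀ y' ∈ nk S U K φ', ∃ (y : Ω) (hy : y ∈ nk S U K φ), ψ ⟨y, (le_sup_left.trans hD) hy⟩ = y' := by
  have hfin : Finite (nk S U K φ') := finite_of_le (nk_le U K φ')
  have hND : nk S U K φ ≤ D := le_sup_left.trans hD
  have hRD : φ.range ≤ D := le_sup_right.trans hD
  have hmaps : ∀ y : nk S U K φ, ψ ⟨y, hND y.2⟩ ∈ nk S U K φ' := by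
    rintro ⟨y, hyS, k, hkK, hk⟩
    refine ⟨hom_mem_S F hψ _, χ * k * χ⁻¹, K.mul_mem (K.mul_mem hχ hkK) (K.inv_mem hχ), ?_⟩
    intro z
    exact conj_map ψ χ hRD hψφ _ hk z
  let f : nk S U K φ → nk S U K φ' := fun y => ⟨ψ ⟨y, hND y.2⟩, hmaps y⟩
  have hf : Function.Injective f := by
    intro a b hab
    have h1 : ψ ⟨a, hND a.2⟩ = ψ ⟨b, hND b.2⟩ := congrArg Subtype.val hab
    have h2 := F.injective_of_mem hψ h1
    exact Subtype.ext (congrArg (fun t : D => (t : Ω)) h2)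
  have hbij := hf.bijective_of_nat_card_le hcard
  intro y' hy'
  obtain ⟨y, hy⟩ := hbij.2 ⟨y', hy'⟩
  exact ⟨y, y.2, congrArg Subtype.val hy⟩

/-- Passing to a smaller `K` containing the `S`-induced part keeps a marking good. -/
theorem GoodMark.mono {F : FusionSystem S} {p : ℕ} [Fact p.Prime] {U : Subgroup Ω}
    {K' K₂ : Subgroup (MulAut U)} {φ₀ : U →* Ω} (h₀ : GoodMark F p U K' φ₀) (hle : K₂ ≤ K')
    (hb : bk S U K' φ₀ ≤ K₂) : GoodMark F p U K₂ φ₀ := by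
  refine ⟨h₀.mem, h₀.recep, ?_⟩
  obtain ⟨R, hR⟩ := h₀.syl
  have hle' : K₂ ⊓ F.autGroup U ≤ K' ⊓ F.autGroup U := inf_le_inf_right _ hle
  have hinj : Function.Injective (Subgroup.inclusion hle') := Subgroup.inclusion_injective hle'
  have hrange : (R : Subgroup ↥(K' ⊓ F.autGroup U)) ≤ (Subgroup.inclusion hle').range := by
    intro a ha
    have h1 := (hR a).mp ha
    exact ⟨⟨a.1, hb h1, a.2.2⟩, rfl⟩
  refine ⟨R.comapOfInjective (Subgroup.inclusion hle') hinj hrange, fun a => ?_⟩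
  have hmem : a ∈ R.comapOfInjective (Subgroup.inclusion hle') hinj hrange ↔
      Subgroup.inclusion hle' a ∈ R := by
    have h2 := Sylow.coe_comapOfInjective (P := R) (Subgroup.inclusion hle') hinj hrange
    constructor
    · intro h
      have h3 : a ∈ ((R.comapOfInjective (Subgroup.inclusion hle') hinj hrange :
          Sylow p ↥(K₂ ⊓ F.autGroup U)) : Subgroup ↥(K₂ ⊓ F.autGroup U)) := h
      rw [h2] at h3
      exact h3
    · intro h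
      have h3 : a ∈ ((R.comapOfInjective (Subgroup.inclusion hle') hinj hrange :
          Sylow p ↥(K₂ ⊓ F.autGroup U)) : Subgroup ↥(K₂ ⊓ F.autGroup U)) := by
        rw [h2]
        exact h
      exact h3
  rw [hmem, hR]
  constructor
  · rintro ⟨-, y, hy, hyk⟩
    exact ⟨a.2.1, y, hy, hyk⟩
  · rintro ⟨-, y, hy, hyk⟩
    exact ⟨hle a.2.1, y, hy, hyk⟩

/-- In a saturated system every `(U, K)` has a good marking. -/
theorem exists_goodMark [Finite S] {p : ℕ} [Fact p.Prime] (hS : IsPGroup p S)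
    (F : FusionSystem S) (hF : F.IsSaturated p) {U : Subgroup Ω} (hU : U ≤ S)
    (K : Subgroup (MulAut U)) : ∃ φ₀ : U →* Ω, GoodMark F p U K φ₀ := by
  obtain ⟨V, ⟨φ₁, hφ₁, hr⟩, hfa, hrec⟩ := hF U hU
  have hfinU : Finite U := finite_of_le hU
  have hV : V ≤ S := hfa.1
  have hfinV : Finite V := finite_of_le hV
  let e := isoOfHom φ₁ (F.injective_of_mem hφ₁) hr
  have he : ∀ x : U, ((e x : V) : Ω) = φ₁ x := fun x => rfl
  obtain ⟨T₀⟩ : Nonempty (Sylow p ↥(K ⊓ F.autGroup U)) := inferInstance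
  let T : Subgroup (MulAut U) :=
    (T₀ : Subgroup ↥(K ⊓ F.autGroup U)).map (K ⊓ F.autGroup U).subtype
  let T' : Subgroup (MulAut V) := T.map (MulAut.congr e).toMonoidHom
  have hT' : T' ≤ F.autGroup V := by
    rintro _ ⟨_, ⟨a, ha, rfl⟩, rfl⟩
    exact autGroup_congr_mem F hφ₁ hr e he a.2.2
  have hT'p : IsPGroup p T' := (T₀.2.map _).map _
  obtain ⟨β, hβ, hβT⟩ := exists_conj_into_autS F hfa T' hT' hT'p
  have hβF : V.subtype.comp β.toMonoidHom ∈ F.Hom V :=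
    (Cfsg.Agent.Lib.Helper87.mem_autGroup_iff F hV β).mp hβ
  have hm : ∀ x : U, φ₁ x ∈ V := fun x => hr.le ⟨x, rfl⟩
  obtain ⟨φ₀, hφ₀, hφ₀e⟩ := comp_mem' F hφ₁ hβF hm
  have hφ₀e' : ∀ x : U, φ₀ x = ((β (e x) : V) : Ω) := fun x => by rw [hφ₀e]; rfl
  have hφ₀r : φ₀.range = V := by
    apply le_antisymm
    · rintro _ ⟨x, rfl⟩
      rw [hφ₀e']
      exact (β (e x)).2
    · intro v hv
      refine ⟨e.symm (β⁻¹ ⟨v, hv⟩), ?_⟩
      rw [hφ₀e']
      simp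
  have hTb : ∀ a ∈ T₀, (a : MulAut U) ∈ bk S U K φ₀ := by
    intro a ha
    have h1 : β * (MulAut.congr e a.1) * β⁻¹ ∈ autInducedBy S V :=
      hβT _ ⟨a.1, ⟨a, ha, rfl⟩, rfl⟩
    obtain ⟨y, hyS, hy⟩ := (Cfsg.Agent.Lib.Helper87.mem_autInducedBy_iff S V _).mp h1
    refine ⟨a.2.1, y, hyS, fun x => ?_⟩
    have h2 := hy (β (e x))
    rw [hφ₀e', hφ₀e', ← h2]
    have h3 : (β * (MulAut.congr e a.1) * β⁻¹) (β (e x)) = β (e ((a : MulAut U) x)) := by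
      show β ((MulAut.congr e a.1) (β⁻¹ (β (e x)))) = _
      have h4 : β⁻¹ (β (e x)) = e x := by simp
      rw [h4]
      show β (e ((a : MulAut U) (e.symm (e x)))) = _
      rw [MulEquiv.symm_apply_apply]
    rw [h3]
  have hbp : IsPGroup p ((bk S U K φ₀).subgroupOf (K ⊓ F.autGroup U)) :=
    (bk_isPGroup hS K (F.injective_of_mem hφ₀)).comap_of_injective _
      (Subgroup.subtype_injective _)
  have hle : (T₀ : Subgroup ↥(K ⊓ F.autGroup U)) ≤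
      (bk S U K φ₀).subgroupOf (K ⊓ F.autGroup U) := fun a ha =>
    Subgroup.mem_subgroupOf.mpr (hTb a ha)
  have heq := T₀.is_maximal' hbp hle
  refine ⟨φ₀, hφ₀, hφ₀r ▸ hrec, T₀, fun a => ?_⟩
  constructor
  · intro ha
    exact hTb a ha
  · intro ha
    have : a ∈ (bk S U K φ₀).subgroupOf (K ⊓ F.autGroup U) := Subgroup.mem_subgroupOf.mpr ha
    rw [heq] at this
    exact this

open scoped Pointwise in
/-- AKO I.5.2 (a) ⇒ (b): if `U` is fully `K`-normalized in a saturated system, the inclusion is a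
good marking: `U` is receptive and the automorphisms in `K` induced by `S` form a Sylow
`p`-subgroup of `K ⊓ Aut_F(U)`. -/
theorem goodMark_subtype [Finite S] {p : ℕ} [Fact p.Prime] (hS : IsPGroup p S)
    (F : FusionSystem S) (hF : F.IsSaturated p) {U : Subgroup Ω} (hU : U ≤ S)
    (K : Subgroup (MulAut U))
    (hfull : ∀ φ ∈ F.Hom U, Nat.card (nk S U K φ) ≤ Nat.card (nk S U K U.subtype)) :
    GoodMark F p U K U.subtype := by
  obtain ⟨φ₀, h₀⟩ := exists_goodMark hS F hF hU K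
  have hι : U.subtype ∈ F.Hom U := Cfsg.Agent.Lib.Helper87.subtype_mem F hU
  obtain ⟨χ, hχ, ψ, hψ, hψe⟩ := exists_extension hS F h₀ hι
  have hcard := hfull φ₀ h₀.mem
  have hsurj := exists_preimage_of_card_le F hψ hχ.1 le_rfl hψe hcard
  have hfinU : Finite U := finite_of_le hU
  have hinj₀ := F.injective_of_mem h₀.mem
  have hND : nk S U K U.subtype ≤ nk S U K U.subtype ⊔ U.subtype.range := le_sup_left
  have hRD : U.subtype.range ≤ nk S U K U.subtype ⊔ U.subtype.range := le_sup_right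
  refine ⟨hι, ?_, ?_⟩
  · -- receptive
    rw [Subgroup.range_subtype]
    apply receptive_of_fullyCentralized hS F hF
    refine ⟨hU, fun U' hU' => ?_⟩
    have hV : F.IsConj U φ₀.range := ⟨φ₀, h₀.mem, rfl⟩
    have hVfc := fullyCentralized_of_receptive F h₀.recep
    have h1 := hVfc.2 U' (Cfsg.Agent.Lib.Helper87.isConj_trans F
      (Cfsg.Agent.Lib.Helper87.isConj_symm F hV) hU')
    refine h1.trans ?_
    have hfin : Finite (centralizerIn S U) := finite_of_le (centralizerIn_le S U)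
    have hcnk : ∀ c : centralizerIn S φ₀.range, (c : Ω) ∈ nk S U K φ₀ := by
      intro c
      refine ⟨c.2.1, 1, K.one_mem, fun x => ?_⟩
      have h2 : φ₀ x * (c : Ω) = (c : Ω) * φ₀ x := c.2.2 (φ₀ x) ⟨x, rfl⟩
      show (c : Ω) * φ₀ x * (c : Ω)⁻¹ = φ₀ x
      rw [← h2]
      group
    have hex : ∀ c : centralizerIn S φ₀.range, ∃ (y : Ω) (hy : y ∈ nk S U K U.subtype),
        ψ ⟨y, hND hy⟩ = c := fun c => hsurj c (hcnk c)
    choose g hg hgc using hex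
    have hgC : ∀ c : centralizerIn S φ₀.range, g c ∈ centralizerIn S U := by
      intro c
      refine ⟨(hg c).1, ?_⟩
      intro x hx
      have hxD : x ∈ nk S U K U.subtype ⊔ U.subtype.range := hRD ⟨⟨x, hx⟩, rfl⟩
      have h3 : ψ ⟨x, hxD⟩ = φ₀ (χ ⟨x, hx⟩) := hψe ⟨x, hx⟩ hxD
      have h4 : ψ ⟨x, hxD⟩ * ψ ⟨g c, hND (hg c)⟩ = ψ ⟨g c, hND (hg c)⟩ * ψ ⟨x, hxD⟩ := by
        rw [hgc c, h3]
        exact c.2.2 _ ⟨_, rfl⟩
      rw [← map_mul, ← map_mul] at h4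
      have h5 := F.injective_of_mem hψ h4
      exact congrArg Subtype.val h5
    let f : centralizerIn S φ₀.range → centralizerIn S U := fun c => ⟨g c, hgC c⟩
    have hf : Function.Injective f := by
      intro a b hab
      have h6 : g a = g b := congrArg (fun z : centralizerIn S U => (z : Ω)) hab
      apply Subtype.ext
      rw [← hgc a, ← hgc b]
      congr 1
      exact Subtype.ext h6
    exact Nat.card_le_card_of_injective f hf
  · -- Sylow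
    obtain ⟨R₀, hR₀⟩ := h₀.syl
    have hiff : ∀ a : MulAut U, a ∈ bk S U K U.subtype ↔ χ * a * χ⁻¹ ∈ bk S U K φ₀ := by
      intro a
      constructor
      · rintro ⟨haK, y, hyS, hy⟩
        have hynk : y ∈ nk S U K U.subtype := ⟨hyS, a, haK, hy⟩
        refine ⟨K.mul_mem (K.mul_mem hχ.1 haK) (K.inv_mem hχ.1), ψ ⟨y, hND hynk⟩,
          hom_mem_S F hψ _, fun z => ?_⟩
        exact conj_map ψ χ hRD hψe (hND hynk) hy z
      · rintro ⟨hk'K, y', hy'S, hy'⟩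
        have hy'nk : y' ∈ nk S U K φ₀ := ⟨hy'S, _, hk'K, hy'⟩
        obtain ⟨y, hynk, hyψ⟩ := hsurj y' hy'nk
        obtain ⟨hyS, k, hkK, hk⟩ := hynk
        have h7 : ∀ z : U, y' * φ₀ z * y'⁻¹ = φ₀ ((χ * k * χ⁻¹) z) := by
          intro z
          rw [← hyψ]
          exact conj_map ψ χ hRD hψe _ hk z
        have h8 : χ * a * χ⁻¹ = χ * k * χ⁻¹ := eq_of_conj_eq hinj₀ hy' h7
        have h9 : a = k := by
          have := congrArg (fun t => χ⁻¹ * t * χ) h8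
          simpa [mul_assoc] using this
        rw [h9]
        exact ⟨hkK, y, hyS, hk⟩
    refine ⟨(⟨χ, hχ⟩ : ↥(K ⊓ F.autGroup U))⁻¹ • R₀, fun a => ?_⟩
    rw [hiff]
    have h12 := hR₀ (⟨χ * (a : MulAut U) * χ⁻¹, (K ⊓ F.autGroup U).mul_mem
          ((K ⊓ F.autGroup U).mul_mem hχ a.2) ((K ⊓ F.autGroup U).inv_mem hχ)⟩ :
            ↥(K ⊓ F.autGroup U))
    rw [← h12]
    have h10 : a ∈ ((⟨χ, hχ⟩ : ↥(K ⊓ F.autGroup U))⁻¹ • R₀ : Sylow p ↥(K ⊓ F.autGroup U)) ↔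
        a ∈ MulAut.conj (⟨χ, hχ⟩ : ↥(K ⊓ F.autGroup U))⁻¹ •
          (R₀ : Subgroup ↥(K ⊓ F.autGroup U)) := Iff.rfl
    rw [h10, Subgroup.mem_pointwise_smul_iff_inv_smul_mem]
    have h11 : (MulAut.conj (⟨χ, hχ⟩ : ↥(K ⊓ F.autGroup U))⁻¹)⁻¹ • a =
        (⟨χ * (a : MulAut U) * χ⁻¹, (K ⊓ F.autGroup U).mul_mem
          ((K ⊓ F.autGroup U).mul_mem hχ a.2) ((K ⊓ F.autGroup U).inv_mem hχ)⟩ :
            ↥(K ⊓ F.autGroup U)) := by
      apply Subtype.ext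
      simp [MulAut.smul_def, MulAut.conj_apply]
    rw [h11]
    rfl

end Cfsg.Agent.Lib.Helper84.KN
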