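import Cfsg.Agent.S5092
import Cfsg.Agent.Lib.Helper84.KNorm
import Cfsg.Agent.Lib.Helper85.RelSaturated
import Cfsg.Agent.Lib.Helper85.Hyperfocal
import Cfsg.Agent.Lib.Helper2.PResidual2

/-!
# The hyperfocal subgroup theorem for finite groups (Puig)
-/

set_option autoImplicit false

namespace Cfsg.Agent.Lib.Helper84.HF

open Cfsg Cfsg.FusionSystem

variable {G : Type*} [Group G]

/-- An automorphism of order prime to `p` induced by conjugation with `g` (of finite order) is
induced by a power of `g` of order prime to `p`. -/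
theorem exists_coprime_pow {p : ℕ} [hp : Fact p.Prime] {P : Subgroup G} {α : MulAut P}
    (hα : Nat.Coprime (orderOf α) p) {g : G} (hgfin : 0 < orderOf g)
    (hg : ∀ x : P, g * (x : G) * g⁻¹ = ((α x : P) : G)) :
    ∃ k : ℕ, Nat.Coprime (orderOf (g ^ k)) p ∧ ∀ x : P, g ^ k * (x : G) * (g ^ k)⁻¹ = ((α x : P) : G) := by
  have hn0 : orderOf g ≠ 0 := hgfin.ne'
  have hcop : Nat.Coprime (p ^ (orderOf g).factorization p) (orderOf α) :=
    Nat.Coprime.pow_left _ hα.symm
  obtain ⟨k, hk0, hk1⟩ := Nat.chineseRemainder hcop 0 1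
  refine ⟨k, ?_, ?_⟩
  · -- the order of `g ^ k` divides the `p'`-part of the order of `g`
    have hq : p ^ (orderOf g).factorization p ∣ k := (Nat.modEq_zero_iff_dvd).mp hk0
    have hdvd : orderOf (g ^ k) ∣ orderOf g / p ^ (orderOf g).factorization p := by
      apply orderOf_dvd_of_pow_eq_one
      rw [← pow_mul]
      apply orderOf_dvd_iff_pow_eq_one.mp
      obtain ⟨c, hc⟩ := hq
      rw [hc]
      have h1 : p ^ (orderOf g).factorization p * (orderOf g / p ^ (orderOf g).factorization p) =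
          orderOf g := Nat.ordProj_mul_ordCompl_eq_self (orderOf g) p
      calc orderOf g = p ^ (orderOf g).factorization p *
            (orderOf g / p ^ (orderOf g).factorization p) := h1.symm
        _ ∣ p ^ (orderOf g).factorization p * c *
            (orderOf g / p ^ (orderOf g).factorization p) := by
          rw [mul_assoc, mul_comm c, ← mul_assoc]
          exact Dvd.intro _ rfl
    have hc2 : Nat.Coprime p (orderOf g / p ^ (orderOf g).factorization p) :=
      Nat.coprime_ordCompl hp.out hn0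
    exact (Nat.Coprime.coprime_dvd_left hdvd hc2.symm)
  · intro x
    have h1 := Cfsg.Agent.Lib.Helper84.KN.pow_conj (φ := P.subtype) (k := α) (y := g) hg k x
    have h2 : α ^ k = α := by
      have : α ^ k = α ^ 1 := pow_eq_pow_iff_modEq.mpr hk1
      rw [this, pow_one]
    rw [h2] at h1
    exact h1

/-- `x⁻¹ α(x) ∈ N` for all `x`: a subgroup of any group of automorphisms of `P`. -/
def actTriv {P : Subgroup G} (A : Subgroup (MulAut P)) (N : Subgroup G) : Subgroup A where
  carrier := {α | ∀ x : P, (x : G)⁻¹ * (((α : MulAut P) x : P) : G) ∈ N}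
  one_mem' := fun x => by simp
  mul_mem' := by
    intro α β hα hβ x
    have h1 := hβ x
    have h2 := hα ((β : MulAut P) x)
    have e : (x : G)⁻¹ * ((((α * β : A) : MulAut P) x : P) : G) =
        ((x : G)⁻¹ * (((β : MulAut P) x : P) : G)) *
          ((((β : MulAut P) x : P) : G)⁻¹ * (((α : MulAut P) ((β : MulAut P) x) : P) : G)) := by
      show (x : G)⁻¹ * (((α : MulAut P) ((β : MulAut P) x) : P) : G) = _
      group
    rw [e]
    exact N.mul_mem h1 h2
  inv_mem' := by
    intro α hα x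
    have h1 := hα ((α : MulAut P)⁻¹ x)
    have e1 : (α : MulAut P) ((α : MulAut P)⁻¹ x) = x := by simp
    rw [e1] at h1
    have e : (x : G)⁻¹ * ((((α⁻¹ : A) : MulAut P) x : P) : G) =
        ((((α : MulAut P)⁻¹ x : P) : G)⁻¹ * (x : G))⁻¹ := by
      show (x : G)⁻¹ * (((α : MulAut P)⁻¹ x : P) : G) = _
      group
    rw [e]
    exact N.inv_mem h1

/-- The hyperfocal subgroup of `F_S(G)` lies in `O^p(G)`. -/
theorem hyperfocal_le_pResidual [Finite G] (p : ℕ) [hp : Fact p.Prime] (S : Subgroup G) :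
    (groupFusionSystem S).hyperfocalSubgroup p ≤ pResidual p G := by
  have hN : (pResidual p G).Normal := Cfsg.Agent.Lib.Helper85.pResidual_normal' p G
  unfold hyperfocalSubgroup
  rw [Subgroup.closure_le]
  rintro y ⟨P, α, x, hPS, hα, rfl⟩
  have hle : pResidual p ((groupFusionSystem S).autGroup P) ≤
      actTriv ((groupFusionSystem S).autGroup P) (pResidual p G) := by
    unfold pResidual
    rw [Subgroup.closure_le]
    intro β hβ
    have hβ' : Nat.Coprime (orderOf β) p := hβ
    have hβA : (β : MulAut P) ∈ autInducedBy ⊤ P := by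
      rw [← Cfsg.Agent.Lib.Helper85.autGroup_groupFusionSystem hPS]
      exact β.2
    obtain ⟨g, -, hg⟩ := Cfsg.Agent.Lib.Helper85.mem_autInducedBy_iff.mp hβA
    have hord : Nat.Coprime (orderOf (β : MulAut P)) p := by
      rw [Subgroup.orderOf_coe]
      exact hβ'
    obtain ⟨k, hk, hgk⟩ := exists_coprime_pow hord (orderOf_pos g) (fun x => (hg x).symm)
    intro x
    have hgkN : g ^ k ∈ Subgroup.closure {g : G | Nat.Coprime (orderOf g) p} :=
      Subgroup.subset_closure hk
    rw [← hgk x]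
    have e : (x : G)⁻¹ * (g ^ k * (x : G) * (g ^ k)⁻¹) =
        ((x : G)⁻¹ * g ^ k * (x : G)⁻¹⁻¹) * (g ^ k)⁻¹ := by group
    rw [e]
    exact Subgroup.mul_mem _ (hN.conj_mem _ hgkN _) (Subgroup.inv_mem _ hgkN)
  exact hle hα x

/-- The hyperfocal subgroup of `F_T(N)` lies in that of `F_S(G)` for `T ≤ S`. -/
theorem hyperfocal_sub_le (p : ℕ) [hp : Fact p.Prime] {S N T : Subgroup G} (hTN : T ≤ N)
    (hTS : T ≤ S) :
    (fusionSystemOfSubgroup N T hTN).hyperfocalSubgroup p ≤
      (groupFusionSystem S).hyperfocalSubgroup p := by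
  have key : ∀ y ∈ {y : G | ∃ (P : Subgroup G) (α : (fusionSystemOfSubgroup N T hTN).autGroup P)
      (x : P), P ≤ T ∧ α ∈ pResidual p ((fusionSystemOfSubgroup N T hTN).autGroup P) ∧
        y = (x : G)⁻¹ * ((α : MulAut P) x : P)}, y ∈ (groupFusionSystem S).hyperfocalSubgroup p := by
    rintro y ⟨P, α, x, hPT, hα, rfl⟩
    have hle : (fusionSystemOfSubgroup N T hTN).autGroup P ≤ (groupFusionSystem S).autGroup P := by
      rw [Cfsg.Agent.Lib.Helper85.autGroup_fusionSystemOfSubgroup hTN hPT,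
        Cfsg.Agent.Lib.Helper85.autGroup_groupFusionSystem (hPT.trans hTS)]
      intro β hβ
      obtain ⟨g, -, hg⟩ := Cfsg.Agent.Lib.Helper85.mem_autInducedBy_iff.mp hβ
      exact Cfsg.Agent.Lib.Helper85.mem_autInducedBy_iff.mpr ⟨g, Subgroup.mem_top _, hg⟩
    have h1 : Subgroup.inclusion hle α ∈ pResidual p ((groupFusionSystem S).autGroup P) :=
      Cfsg.Agent.Lib.Helper85.map_pResidual_le (p := p) (Subgroup.inclusion hle)
        (Subgroup.inclusion_injective hle) ⟨α, hα, rfl⟩
    exact Cfsg.Agent.Lib.Helper85.hyperfocal_gen_mem (groupFusionSystem S) p (hPT.trans hTS)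
      (Subgroup.inclusion hle α) h1 x
  exact (Subgroup.closure_le _).mpr key

open scoped commutatorElement in
/-- A Sylow `p`-subgroup `T` of `N = O^p(N)` lies in the focal subgroup of `F_T(N)`. -/
theorem le_focal_of_sylIn [Finite G] (p : ℕ) [hp : Fact p.Prime] {N T : Subgroup G} (hTN : T ≤ N)
    (hSyl : Cfsg.Agent.Lib.Helper85.SylIn p T N)
    (hres : ∀ g : G, Nat.Coprime (orderOf g) p → g ∈ N) (hN : N ≤ pResidual p G) :
    T ≤ (fusionSystemOfSubgroup N T hTN).focalSubgroup := by
  obtain ⟨R, hR⟩ := hSyl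
  have htop : pResidual p ↥N = ⊤ := by
    rw [eq_top_iff]
    intro n _
    obtain ⟨n', hn', e⟩ := Cfsg.Agent.Lib.Helper2.pResidual_le_map_pResidual N hres (hN n.2)
    have : n' = n := Subtype.ext e
    rwa [this] at hn'
  have h1 := Cfsg.Agent.Lib.Helper2.sylow_inf_pResidual_le_focalSubgroup R
  rw [htop, inf_top_eq, hR] at h1
  have h3 : (T.subgroupOf N).focalSubgroup ≤
      ((fusionSystemOfSubgroup N T hTN).focalSubgroup).comap N.subtype := by
    unfold Subgroup.focalSubgroup
    rw [Subgroup.closure_le]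
    rintro g ⟨hgT, x, hxT, u, rfl⟩
    have hxT' : (x : G) ∈ T := Subgroup.mem_subgroupOf.mp hxT
    have hcT : ⁅(x : G), (u : G)⁆ ∈ T := Subgroup.mem_subgroupOf.mp hgT
    show ((⁅x, u⁆ : ↥N) : G) ∈ (fusionSystemOfSubgroup N T hTN).focalSubgroup
    have hP : Subgroup.zpowers (x : G) ≤ T := (Subgroup.zpowers_le).mpr hxT'
    have hconj : (u : G) * (x : G) * (u : G)⁻¹ ∈ T := by
      have e : (u : G) * (x : G) * (u : G)⁻¹ = (⁅(x : G), (u : G)⁆)⁻¹ * (x : G) := by
        rw [commutatorElement_def]; group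
      rw [e]
      exact T.mul_mem (T.inv_mem hcT) hxT'
    have hmap : (Subgroup.zpowers (x : G)).map (Cfsg.Agent.Lib.Helper85.cj (u : G)) ≤ T := by
      rw [MonoidHom.map_zpowers, Subgroup.zpowers_le]
      exact hconj
    have hφ := Cfsg.Agent.Lib.Helper85.conjHom_mem_fusionSystemOfSubgroup hTN hP (u : G) u.2 hmap
    refine Subgroup.subset_closure ⟨Subgroup.zpowers (x : G), conjHom _ (u : G),
      ⟨(x : G)⁻¹, Subgroup.inv_mem _ (Subgroup.mem_zpowers _)⟩, hφ, ?_⟩
    show ⁅(x : G), (u : G)⁆ = ((x : G)⁻¹)⁻¹ * ((u : G) * (x : G)⁻¹ * (u : G)⁻¹)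
    rw [commutatorElement_def]
    group
  intro t ht
  exact h3 (h1 (Subgroup.mem_subgroupOf.mpr (show ((⟨t, hTN ht⟩ : ↥N) : G) ∈ T from ht)))

/-- In a finite `p`-group `T`, a subgroup `H ⊴ T` with `T = H T'` is all of `T`. -/
theorem le_of_le_sup_commutator [Finite G] {p : ℕ} [hp : Fact p.Prime] {T H : Subgroup G}
    (hT : IsPGroup p T) (hHT : H ≤ T) (hnorm : ∀ t ∈ T, ∀ h ∈ H, t * h * t⁻¹ ∈ H)
    (h : T ≤ H ⊔ ⁅T, T⁆) : T ≤ H := by
  have hn : (H.subgroupOf T).Normal := by
    refine ⟨fun n hn g => ?_⟩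
    rw [Subgroup.mem_subgroupOf] at hn ⊢
    exact hnorm g g.2 n hn
  have hsurj : Function.Surjective (QuotientGroup.mk' (H.subgroupOf T)) :=
    QuotientGroup.mk'_surjective _
  -- every element of `T` maps into the image of the commutator subgroup
  have hX : T ≤ (((commutator ↥T).map (QuotientGroup.mk' (H.subgroupOf T))).comap
      (QuotientGroup.mk' (H.subgroupOf T))).map T.subtype := by
    refine h.trans (sup_le ?_ ?_)
    · intro x hx
      refine ⟨⟨x, hHT hx⟩, ?_, rfl⟩
      rw [SetLike.mem_coe, Subgroup.mem_comap]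
      have : QuotientGroup.mk' (H.subgroupOf T) ⟨x, hHT hx⟩ = 1 :=
        (QuotientGroup.eq_one_iff _).mpr (Subgroup.mem_subgroupOf.mpr hx)
      rw [this]
      exact Subgroup.one_mem _
    · rw [← Subgroup.map_subtype_commutator]
      exact Subgroup.map_mono (Subgroup.le_comap_map _ _)
  have hall : ∀ t : ↥T, QuotientGroup.mk' (H.subgroupOf T) t ∈
      (commutator ↥T).map (QuotientGroup.mk' (H.subgroupOf T)) := by
    intro t
    obtain ⟨t', ht', e⟩ := hX t.2
    have : t' = t := Subtype.ext e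
    rw [← this]
    exact ht'
  have hperf : commutator (↥T ⧸ H.subgroupOf T) = ⊤ := by
    rw [eq_top_iff]
    intro q _
    obtain ⟨t, rfl⟩ := hsurj q
    have h1 := hall t
    have h2 : (commutator ↥T).map (QuotientGroup.mk' (H.subgroupOf T)) ≤
        commutator (↥T ⧸ H.subgroupOf T) := by
      rw [commutator_def, commutator_def, Subgroup.map_commutator]
      exact Subgroup.commutator_mono le_top le_top
    exact h2 h1
  have hQp : IsPGroup p (↥T ⧸ H.subgroupOf T) := hT.to_quotient _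
  have hfinT : Finite ↥T := inferInstance
  have hnil : Group.IsNilpotent (↥T ⧸ H.subgroupOf T) := hQp.isNilpotent
  have hsub : Subsingleton (↥T ⧸ H.subgroupOf T) := by
    by_contra hcon
    rw [not_subsingleton_iff_nontrivial] at hcon
    have : Group.IsPerfect (↥T ⧸ H.subgroupOf T) := ⟨hperf⟩
    exact Group.IsPerfect.not_isNilpotent (↥T ⧸ H.subgroupOf T) hnil
  have htop := QuotientGroup.subgroup_eq_top_of_subsingleton _ hsub
  intro t ht
  have : (⟨t, ht⟩ : ↥T) ∈ H.subgroupOf T := by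
    rw [htop]; exact Subgroup.mem_top _
  exact Subgroup.mem_subgroupOf.mp this

end Cfsg.Agent.Lib.Helper84.HF
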