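import Cfsg.Agent.Lib.Helper84.KStar

/-!
# `N_F^K(Q)` is saturated when `Q` is fully `K`-normalized (AKO I.5.5)
-/

set_option autoImplicit false

namespace Cfsg.Agent.Lib.Helper84.KN

open Cfsg Cfsg.FusionSystem Cfsg.Agent.Lib.Helper87

variable {Ω : Type*} [Group Ω] {S : Subgroup Ω}

/-- `E` (over `S₀`) is the `K`-normalizer system `N_F^K(Q)`. -/
structure IsKNS (F : FusionSystem S) (Q : Subgroup Ω) (K : Subgroup (MulAut Q))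
    {S₀ : Subgroup Ω} (E : FusionSystem S₀) : Prop where
  mem_S₀ : ∀ y : Ω, y ∈ S₀ ↔ y ∈ nk S Q K Q.subtype
  mem_hom : ∀ (P : Subgroup Ω) (φ : P →* Ω), φ ∈ E.Hom P ↔
    (φ ∈ F.Hom P ∧ P ≤ S₀ ∧ (∀ x : P, φ x ∈ S₀) ∧
      ∃ ψ ∈ F.Hom (P ⊔ Q), (∀ x : P, ψ (Subgroup.inclusion le_sup_left x) = φ x) ∧
        ∃ k ∈ K, ∀ x : Q, ψ (Subgroup.inclusion le_sup_right x) = ((k x : Q) : Ω))

namespace IsKNS

variable {F : FusionSystem S} {Q : Subgroup Ω} {K : Subgroup (MulAut Q)} {S₀ : Subgroup Ω}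
  {E : FusionSystem S₀}

theorem le (hE : IsKNS F Q K E) : S₀ ≤ S := fun y hy => ((hE.mem_S₀ y).mp hy).1

theorem exists_k (hE : IsKNS F Q K E) {y : Ω} (hy : y ∈ S₀) :
    ∃ k ∈ K, ∀ x : Q, y * (x : Ω) * y⁻¹ = ((k x : Q) : Ω) :=
  ((hE.mem_S₀ y).mp hy).2

theorem mem_of (hE : IsKNS F Q K E) {y : Ω} (hy : y ∈ S) {k : MulAut Q} (hk : k ∈ K)
    (h : ∀ x : Q, y * (x : Ω) * y⁻¹ = ((k x : Q) : Ω)) : y ∈ S₀ :=
  (hE.mem_S₀ y).mpr ⟨hy, k, hk, h⟩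

theorem mem_normalizer (hE : IsKNS F Q K E) {y : Ω} (hy : y ∈ S₀) :
    y ∈ Subgroup.normalizer (Q : Set Ω) := by
  obtain ⟨k, -, hk⟩ := hE.exists_k hy
  exact mem_normalizer_of_aut Q k y (fun x => (hk x).symm)

end IsKNS

/-- Transport of `K ⋆ Aut(P)`-normalizers between markings of `P ⊔ Q` and of `P₁ ⊔ Q`. -/
theorem nk_star_top_transport {P P₁ Q : Subgroup Ω} {K : Subgroup (MulAut Q)}
    {θ : ↥(P₁ ⊔ Q) →* Ω} {θ' : ↥(P ⊔ Q) →* Ω} (hθ : Function.Injective θ)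
    (hθ' : Function.Injective θ') {χ : MulAut Q} (hχ : χ ∈ K)
    (hPr : (θ'.comp (Subgroup.inclusion (le_sup_left : P ≤ P ⊔ Q))).range =
      (θ.comp (Subgroup.inclusion (le_sup_left : P₁ ≤ P₁ ⊔ Q))).range)
    (hQr : ∀ x : Q, θ' (Subgroup.inclusion le_sup_right x) =
      θ (Subgroup.inclusion le_sup_right (χ x))) :
    nk S (P ⊔ Q) (star P Q ⊤ K) θ' = nk S (P₁ ⊔ Q) (star P₁ Q ⊤ K) θ := by
  ext y
  rw [mem_nk_star_top hθ', mem_nk_star_top hθ, hPr]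
  refine and_congr_right (fun _ => and_congr_right (fun _ => ?_))
  constructor
  · rintro ⟨k', hk', h⟩
    refine ⟨χ * k' * χ⁻¹, K.mul_mem (K.mul_mem hχ hk') (K.inv_mem hχ), fun x => ?_⟩
    have h1 := h (χ⁻¹ x)
    rw [hQr, hQr] at h1
    have e : χ (χ⁻¹ x) = x := by simp
    rw [e] at h1
    rw [h1]
    rfl
  · rintro ⟨k, hk, h⟩
    refine ⟨χ⁻¹ * k * χ, K.mul_mem (K.mul_mem (K.inv_mem hχ) hk) hχ, fun x => ?_⟩
    rw [hQr, hQr, h]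
    have e : χ ((χ⁻¹ * k * χ) x) = k (χ x) := by
      show χ (χ⁻¹ (k (χ x))) = _
      simp
    rw [e]

/-- Step 1–2 of AKO I.5.5: every `P ≤ N_S^K(Q)` is conjugate in `N_F^K(Q)` to some `P₁` with
`P₁ Q` fully `K ⋆ Aut(P₁)`-normalized in `F`. -/
theorem exists_conj_full [Finite S] {p : ℕ} [Fact p.Prime] (hS : IsPGroup p S)
    (F : FusionSystem S) (hF : F.IsSaturated p) {Q : Subgroup Ω} (hQ : Q ≤ S)
    {K : Subgroup (MulAut Q)}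
    (hfull : ∀ φ ∈ F.Hom Q, Nat.card (nk S Q K φ) ≤ Nat.card (nk S Q K Q.subtype))
    {S₀ : Subgroup Ω} {E : FusionSystem S₀} (hE : IsKNS F Q K E) {P : Subgroup Ω}
    (hP : P ≤ S₀) :
    ∃ P₁ : Subgroup Ω, E.IsConj P P₁ ∧ ∀ θ ∈ F.Hom (P₁ ⊔ Q),
      Nat.card (nk S (P₁ ⊔ Q) (star P₁ Q ⊤ K) θ) ≤
        Nat.card (nk S (P₁ ⊔ Q) (star P₁ Q ⊤ K) (P₁ ⊔ Q).subtype) := by
  classical
  have hPS : P ≤ S := hP.trans hE.le
  have hU : P ⊔ Q ≤ S := sup_le hPS hQ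
  -- Step 1: a marking of `P ⊔ Q` with the largest normalizer
  obtain ⟨φ, hφ, hmax⟩ : ∃ φ ∈ F.Hom (P ⊔ Q), ∀ θ ∈ F.Hom (P ⊔ Q),
      Nat.card (nk S (P ⊔ Q) (star P Q ⊤ K) θ) ≤
        Nat.card (nk S (P ⊔ Q) (star P Q ⊤ K) φ) := by
    let T : Set ℕ := {n | ∃ θ ∈ F.Hom (P ⊔ Q), n = Nat.card (nk S (P ⊔ Q) (star P Q ⊤ K) θ)}
    have hT : T.Nonempty := ⟨_, (P ⊔ Q).subtype, Cfsg.Agent.Lib.Helper87.subtype_mem F hU, rfl⟩
    have hTb : BddAbove T := ⟨Nat.card S, by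
      rintro n ⟨θ, -, rfl⟩
      exact Subgroup.card_le_of_le (nk_le _ _ _)⟩
    obtain ⟨φ, hφ, hφm⟩ := Nat.sSup_mem hT hTb
    refine ⟨φ, hφ, fun θ hθ => ?_⟩
    rw [← hφm]
    exact le_csSup hTb ⟨θ, hθ, rfl⟩
  have hinjφ := F.injective_of_mem hφ
  -- Step 2: bring `Q` back
  have hφQ : φ.comp (Subgroup.inclusion (le_sup_right : Q ≤ P ⊔ Q)) ∈ F.Hom Q :=
    Cfsg.Agent.Lib.Helper87.restrict_mem F hφ le_sup_right
  have h₀Q : GoodMark F p Q K Q.subtype := goodMark_subtype hS F hF hQ K hfull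
  obtain ⟨χ, hχ, ψ, hψ, hψe⟩ := exists_extension hS F h₀Q hφQ
  have hPD : ∀ (g : Ω) (hg : g ∈ P), φ ⟨g, (le_sup_left : P ≤ P ⊔ Q) hg⟩ ∈
      nk S Q K (φ.comp (Subgroup.inclusion (le_sup_right : Q ≤ P ⊔ Q))) := by
    intro g hg
    obtain ⟨k, hk, hkg⟩ := hE.exists_k (hP hg)
    refine ⟨hom_mem_S F hφ _, k, hk, fun x => ?_⟩
    show φ _ * φ (Subgroup.inclusion le_sup_right x) * (φ _)⁻¹ =
      φ (Subgroup.inclusion le_sup_right (k x))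
    rw [← map_inv, ← map_mul, ← map_mul]
    congr 1
    apply Subtype.ext
    exact hkg x
  have hrange : ∀ u : ↥(P ⊔ Q), φ u ∈
      nk S Q K (φ.comp (Subgroup.inclusion (le_sup_right : Q ≤ P ⊔ Q))) ⊔
        (φ.comp (Subgroup.inclusion (le_sup_right : Q ≤ P ⊔ Q))).range :=
    forall_sup_of_subgroup (P := P) (Q := Q)
      ((nk S Q K (φ.comp (Subgroup.inclusion (le_sup_right : Q ≤ P ⊔ Q))) ⊔
        (φ.comp (Subgroup.inclusion (le_sup_right : Q ≤ P ⊔ Q))).range).comap φ)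
      (fun g hg => (le_sup_left : nk S Q K _ ≤ _) (hPD g hg))
      (fun x hx => (le_sup_right : (φ.comp (Subgroup.inclusion
        (le_sup_right : Q ≤ P ⊔ Q))).range ≤ _) ⟨⟨x, hx⟩, rfl⟩)
  have hnkD : nk S (P ⊔ Q) (star P Q ⊤ K) φ ≤
      nk S Q K (φ.comp (Subgroup.inclusion (le_sup_right : Q ≤ P ⊔ Q))) := by
    intro y hy
    obtain ⟨hyS, -, k, hk, hyk⟩ := (mem_nk_star hinjφ).mp hy
    exact ⟨hyS, k, hk, hyk⟩
  obtain ⟨φ', hφ', hφ'e⟩ := comp_mem' F hφ hψ hrange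
  have hinjφ' := F.injective_of_mem hφ'
  have hφ'Q : ∀ x : Q, φ' (Subgroup.inclusion le_sup_right x) = ((χ x : Q) : Ω) := by
    intro x
    rw [hφ'e]
    exact hψe x _
  have hφ'P : φ'.comp (Subgroup.inclusion (le_sup_left : P ≤ P ⊔ Q)) ∈ F.Hom P :=
    Cfsg.Agent.Lib.Helper87.restrict_mem F hφ' le_sup_left
  -- `φ'|_P` is a map of `E`
  have hval : ∀ g : P, (φ'.comp (Subgroup.inclusion (le_sup_left : P ≤ P ⊔ Q))) g ∈ S₀ := by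
    intro g
    obtain ⟨k, hk, hkg⟩ := hE.exists_k (hP g.2)
    refine hE.mem_of (hom_mem_S F hφ'P g) (K.mul_mem (K.mul_mem hχ.1 hk) (K.inv_mem hχ.1))
      (fun x => ?_)
    have hx : (x : Ω) = φ' (Subgroup.inclusion le_sup_right (χ⁻¹ x)) := by
      rw [hφ'Q]
      simp
    show φ' (Subgroup.inclusion le_sup_left g) * (x : Ω) *
      (φ' (Subgroup.inclusion le_sup_left g))⁻¹ = (((χ * k * χ⁻¹) x : Q) : Ω)
    rw [hx, ← map_inv, ← map_mul, ← map_mul]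
    have e : Subgroup.inclusion (le_sup_left : P ≤ P ⊔ Q) g *
        Subgroup.inclusion le_sup_right (χ⁻¹ x) *
        (Subgroup.inclusion (le_sup_left : P ≤ P ⊔ Q) g)⁻¹ =
        Subgroup.inclusion le_sup_right (k (χ⁻¹ x)) := by
      apply Subtype.ext
      exact hkg _
    rw [e, hφ'Q]
    rfl
  have hE1 : φ'.comp (Subgroup.inclusion (le_sup_left : P ≤ P ⊔ Q)) ∈ E.Hom P :=
    (hE.mem_hom P _).mpr ⟨hφ'P, hP, hval, φ', hφ', fun _ => rfl, χ, hχ.1, hφ'Q⟩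
  refine ⟨(φ'.comp (Subgroup.inclusion (le_sup_left : P ≤ P ⊔ Q))).range,
    ⟨_, hE1, rfl⟩, fun θ hθ => ?_⟩
  -- the claim
  have hinjθ := F.injective_of_mem hθ
  have hφ'U₁ : ∀ u : ↥(P ⊔ Q), φ' u ∈
      (φ'.comp (Subgroup.inclusion (le_sup_left : P ≤ P ⊔ Q))).range ⊔ Q :=
    forall_sup_of_subgroup (P := P) (Q := Q)
      (((φ'.comp (Subgroup.inclusion (le_sup_left : P ≤ P ⊔ Q))).range ⊔ Q).comap φ')
      (fun g hg => (le_sup_left : (φ'.comp (Subgroup.inclusion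
        (le_sup_left : P ≤ P ⊔ Q))).range ≤ _) ⟨⟨g, hg⟩, rfl⟩)
      (fun x hx => (le_sup_right : Q ≤ _) (by
        show φ' (Subgroup.inclusion le_sup_right ⟨x, hx⟩) ∈ Q
        rw [hφ'Q]
        exact (χ _).2))
  -- transport for a general marking `θ` of `P₁ ⊔ Q`
  have htrans : ∀ θ₁ ∈ F.Hom ((φ'.comp (Subgroup.inclusion
      (le_sup_left : P ≤ P ⊔ Q))).range ⊔ Q), ∃ θ' ∈ F.Hom (P ⊔ Q),
      (∀ u : ↥(P ⊔ Q), θ' u = θ₁ ⟨φ' u, hφ'U₁ u⟩) ∧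
      nk S (P ⊔ Q) (star P Q ⊤ K) θ' = nk S _ (star _ Q ⊤ K) θ₁ := by
    intro θ₁ hθ₁
    obtain ⟨θ', hθ', hθ'e⟩ := comp_mem' F hφ' hθ₁ hφ'U₁
    refine ⟨θ', hθ', hθ'e, ?_⟩
    apply nk_star_top_transport (F.injective_of_mem hθ₁) (F.injective_of_mem hθ') hχ.1
    · apply le_antisymm
      · rintro _ ⟨g, rfl⟩
        refine ⟨⟨_, ⟨g, rfl⟩⟩, ?_⟩
        show θ₁ _ = θ' _
        rw [hθ'e]
        rfl
      · rintro _ ⟨⟨_, ⟨g, rfl⟩⟩, rfl⟩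
        refine ⟨g, ?_⟩
        show θ' _ = θ₁ _
        rw [hθ'e]
        rfl
    · intro x
      rw [hθ'e]
      congr 1
      apply Subtype.ext
      exact hφ'Q x
  obtain ⟨θ', hθ', -, hnkθ⟩ := htrans θ hθ
  obtain ⟨ι', hι', hι'e, hnkι⟩ := htrans _ (Cfsg.Agent.Lib.Helper87.subtype_mem F
    (sup_le (range_le F hφ'P) hQ))
  have hι'φ' : ι' = φ' := by
    ext u
    rw [hι'e]
    rfl
  rw [← hnkθ, ← hnkι, hι'φ']
  refine (hmax θ' hθ').trans ?_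
  -- `ψ` maps `nk φ` into `nk φ'`
  refine card_nk_le_of_map (χ := 1) F hψ (Subgroup.one_mem _) ?_ ?_
  · apply sup_le (hnkD.trans le_sup_left)
    rintro _ ⟨u, rfl⟩
    exact hrange u
  · intro u h
    rw [hφ'e]
    rfl

end Cfsg.Agent.Lib.Helper84.KN
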