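import Cfsg.Agent.Lib.Helper84.KSat

/-!
# AKO I.5.5, steps 3–4: fully automized and receptive in `N_F^K(Q)`
-/

set_option autoImplicit false

namespace Cfsg.Agent.Lib.Helper84.KN

open Cfsg Cfsg.FusionSystem Cfsg.Agent.Lib.Helper87

variable {Ω : Type*} [Group Ω] {S : Subgroup Ω}

/-- An element of `S` inducing on `P ⊔ Q` an automorphism in `K ⋆ Aut(P)` lies in `S₀`. -/
theorem IsKNS.mem_of_star {F : FusionSystem S} {Q : Subgroup Ω} {K : Subgroup (MulAut Q)}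
    {S₀ : Subgroup Ω} {E : FusionSystem S₀} (hE : IsKNS F Q K E) {P : Subgroup Ω}
    {I : Subgroup (MulAut P)} {α : MulAut ↥(P ⊔ Q)} (hα : α ∈ star P Q I K) {y : Ω} (hy : y ∈ S)
    (h : ∀ u : ↥(P ⊔ Q), y * (u : Ω) * y⁻¹ = ((α u : ↥(P ⊔ Q)) : Ω)) : y ∈ S₀ := by
  obtain ⟨-, k, hk, hαk⟩ := hα
  refine hE.mem_of hy hk (fun x => ?_)
  have := h (Subgroup.inclusion le_sup_right x)
  rw [hαk] at this
  exact this

/-- Step 3 of AKO I.5.5. -/
theorem fullyAutomized_of_full [Finite S] {p : ℕ} [Fact p.Prime] (hS : IsPGroup p S)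
    (F : FusionSystem S) (hF : F.IsSaturated p) {Q : Subgroup Ω} (hQ : Q ≤ S)
    {K : Subgroup (MulAut Q)} {S₀ : Subgroup Ω} {E : FusionSystem S₀} (hE : IsKNS F Q K E)
    {P : Subgroup Ω} (hP : P ≤ S₀)
    (hfullU : ∀ θ ∈ F.Hom (P ⊔ Q), Nat.card (nk S (P ⊔ Q) (star P Q ⊤ K) θ) ≤
      Nat.card (nk S (P ⊔ Q) (star P Q ⊤ K) (P ⊔ Q).subtype)) :
    E.IsFullyAutomized p P := by
  have hPS : P ≤ S := hP.trans hE.le
  have hU : P ⊔ Q ≤ S := sup_le hPS hQ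
  have hfinU : Finite ↥(P ⊔ Q) := finite_of_le hU
  have hfinP : Finite P := finite_of_le hPS
  have h₀ : GoodMark F p (P ⊔ Q) (star P Q ⊤ K) (P ⊔ Q).subtype :=
    goodMark_subtype hS F hF hU _ hfullU
  obtain ⟨R', hR'⟩ := h₀.syl
  -- the restriction map
  have hresmem : ∀ a : ↥(star P Q ⊤ K ⊓ F.autGroup (P ⊔ Q)),
      resP P Q ⊤ K ⟨a.1, a.2.1⟩ ∈ E.autGroup P := by
    intro a
    rw [Cfsg.Agent.Lib.Helper87.mem_autGroup_iff E hP]
    obtain ⟨k, hk, hαk⟩ := a.2.1.2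
    have hαF := (Cfsg.Agent.Lib.Helper87.mem_autGroup_iff F hU a.1).mp a.2.2
    have e : P.subtype.comp (resP P Q ⊤ K ⟨a.1, a.2.1⟩).toMonoidHom =
        ((P ⊔ Q).subtype.comp (a.1 : MulAut ↥(P ⊔ Q)).toMonoidHom).comp
          (Subgroup.inclusion le_sup_left) := by
      ext g
      exact resP_coe _ g
    refine (hE.mem_hom _ _).mpr ⟨?_, hP, fun g => hP (resP P Q ⊤ K ⟨a.1, a.2.1⟩ g).2,
      (P ⊔ Q).subtype.comp (a.1 : MulAut ↥(P ⊔ Q)).toMonoidHom, hαF, ?_, k, hk, ?_⟩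
    · rw [e]
      exact Cfsg.Agent.Lib.Helper87.restrict_mem F hαF le_sup_left
    · intro x
      exact (resP_coe (⟨a.1, a.2.1⟩ : ↥(star P Q ⊤ K)) x).symm
    · intro x
      show (((a.1 : MulAut ↥(P ⊔ Q)) (Subgroup.inclusion le_sup_right x) : ↥(P ⊔ Q)) : Ω) = _
      rw [hαk]
      rfl
  let res' : ↥(star P Q ⊤ K ⊓ F.autGroup (P ⊔ Q)) →* ↥(E.autGroup P) :=
    ((resP P Q ⊤ K).comp (Subgroup.inclusion inf_le_left)).codRestrict (E.autGroup P) hresmem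
  have hres'coe : ∀ (a : ↥(star P Q ⊤ K ⊓ F.autGroup (P ⊔ Q))) (g : P),
      ((((res' a : ↥(E.autGroup P)) : MulAut P) g : P) : Ω) =
        (((a.1 : MulAut ↥(P ⊔ Q)) (Subgroup.inclusion le_sup_left g) : ↥(P ⊔ Q)) : Ω) :=
    fun a g => resP_coe (⟨a.1, a.2.1⟩ : ↥(star P Q ⊤ K)) g
  have hsurj : Function.Surjective res' := by
    rintro ⟨β, hβ⟩
    have hβE := (Cfsg.Agent.Lib.Helper87.mem_autGroup_iff E hP β).mp hβ
    obtain ⟨-, -, -, ψ, hψ, hψP, k, hk, hψQ⟩ := (hE.mem_hom _ _).mp hβE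
    have hψr : ψ.range = P ⊔ Q := by
      apply le_antisymm
      · rintro _ ⟨u, rfl⟩
        exact forall_sup_of_subgroup (P := P) (Q := Q) ((P ⊔ Q).comap ψ)
          (fun g hg => (le_sup_left : P ≤ P ⊔ Q) (by
            show ψ (Subgroup.inclusion le_sup_left ⟨g, hg⟩) ∈ P
            rw [hψP]
            exact (β _).2))
          (fun x hx => (le_sup_right : Q ≤ P ⊔ Q) (by
            show ψ (Subgroup.inclusion le_sup_right ⟨x, hx⟩) ∈ Q
            rw [hψQ]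
            exact (k _).2)) u
      · apply sup_le
        · intro g hg
          refine ⟨Subgroup.inclusion le_sup_left (β⁻¹ ⟨g, hg⟩), ?_⟩
          rw [hψP]
          show ((β (β⁻¹ ⟨g, hg⟩) : P) : Ω) = g
          simp
        · intro x hx
          refine ⟨Subgroup.inclusion le_sup_right (k⁻¹ ⟨x, hx⟩), ?_⟩
          rw [hψQ]
          simp
    let α : MulAut ↥(P ⊔ Q) := isoOfHom ψ (F.injective_of_mem hψ) hψr
    have hαcoe : ∀ u : ↥(P ⊔ Q), ((α u : ↥(P ⊔ Q)) : Ω) = ψ u := fun u => rfl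
    have hαF : α ∈ F.autGroup (P ⊔ Q) := by
      rw [Cfsg.Agent.Lib.Helper87.mem_autGroup_iff F hU]
      have : (P ⊔ Q).subtype.comp α.toMonoidHom = ψ := by
        ext u; rfl
      rw [this]
      exact hψ
    have hαK : α ∈ star P Q ⊤ K := by
      refine ⟨⟨β, Subgroup.mem_top _, fun g => ?_⟩, ⟨k, hk, fun x => ?_⟩⟩
      · apply Subtype.ext
        rw [hαcoe, hψP]
        rfl
      · apply Subtype.ext
        rw [hαcoe, hψQ]
        rfl
    refine ⟨⟨α, hαK, hαF⟩, ?_⟩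
    apply Subtype.ext
    apply resP_eq_of
    intro g
    show ((α (Subgroup.inclusion le_sup_left g) : ↥(P ⊔ Q)) : Ω) = _
    rw [hαcoe, hψP]
    rfl
  refine ⟨hP, R'.mapSurjective hsurj, ?_⟩
  rw [Sylow.coe_mapSurjective]
  ext b
  rw [Subgroup.mem_subgroupOf, Cfsg.Agent.Lib.Helper87.mem_autInducedBy_iff]
  constructor
  · rintro ⟨a, ha, rfl⟩
    obtain ⟨haK, y, hyS, hy⟩ := (hR' a).mp ha
    refine ⟨y, hE.mem_of_star haK hyS hy, fun g => ?_⟩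
    rw [hres'coe]
    exact (hy (Subgroup.inclusion le_sup_left g)).symm
  · rintro ⟨y, hyS₀, hy⟩
    have hyS : y ∈ S := hE.le hyS₀
    obtain ⟨k, hk, hky⟩ := hE.exists_k hyS₀
    have hynk : y ∈ nk S (P ⊔ Q) (star P Q ⊤ K) (P ⊔ Q).subtype := by
      rw [mem_nk_star (Subgroup.subtype_injective _)]
      exact ⟨hyS, ⟨b.1, Subgroup.mem_top _, fun g => (hy g).symm⟩, ⟨k, hk, hky⟩⟩
    obtain ⟨-, α, hαK, hα⟩ := hynk
    have hαb : α ∈ bk S (P ⊔ Q) (star P Q ⊤ K) (P ⊔ Q).subtype := ⟨hαK, y, hyS, hα⟩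
    have hαA := bk_le_autGroup F _ (Cfsg.Agent.Lib.Helper87.subtype_mem F hU) hαb
    refine ⟨⟨α, hαA⟩, (hR' _).mpr hαb, ?_⟩
    apply Subtype.ext
    apply resP_eq_of
    intro g
    show ((α (Subgroup.inclusion le_sup_left g) : ↥(P ⊔ Q)) : Ω) = _
    rw [hy]
    exact (hα _).symm

end Cfsg.Agent.Lib.Helper84.KN
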