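import Cfsg.Agent.Lib.Helper84.KSat2

/-!
# AKO I.5.5, step 4 (receptive) and the theorem
-/

set_option autoImplicit false

namespace Cfsg.Agent.Lib.Helper84.KN

open Cfsg Cfsg.FusionSystem Cfsg.Agent.Lib.Helper87

variable {Ω : Type*} [Group Ω] {S : Subgroup Ω}

/-- Step 4 of AKO I.5.5. -/
theorem receptive_of_full [Finite S] {p : ℕ} [Fact p.Prime] (hS : IsPGroup p S)
    (F : FusionSystem S) (hF : F.IsSaturated p) {Q : Subgroup Ω} (hQ : Q ≤ S)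
    {K : Subgroup (MulAut Q)} {S₀ : Subgroup Ω} {E : FusionSystem S₀} (hE : IsKNS F Q K E)
    {P : Subgroup Ω} (hP : P ≤ S₀)
    (hfullU : ∀ θ ∈ F.Hom (P ⊔ Q), Nat.card (nk S (P ⊔ Q) (star P Q ⊤ K) θ) ≤
      Nat.card (nk S (P ⊔ Q) (star P Q ⊤ K) (P ⊔ Q).subtype)) :
    E.IsReceptive P := by
  have hPS : P ≤ S := hP.trans hE.le
  have hU : P ⊔ Q ≤ S := sup_le hPS hQ
  have hfinU : Finite ↥(P ⊔ Q) := finite_of_le hU
  have hfinP : Finite P := finite_of_le hPS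
  have h₀ : GoodMark F p (P ⊔ Q) (star P Q ⊤ K) (P ⊔ Q).subtype :=
    goodMark_subtype hS F hF hU _ hfullU
  have hb : bk S (P ⊔ Q) (star P Q ⊤ K) (P ⊔ Q).subtype ≤
      star P Q (autInducedBy S₀ P) K := by
    rintro α ⟨hαK, y, hyS, hy⟩
    have hyS₀ := hE.mem_of_star hαK hyS hy
    obtain ⟨⟨i, -, hαi⟩, hk⟩ := hαK
    refine ⟨⟨i, ?_, hαi⟩, hk⟩
    rw [Cfsg.Agent.Lib.Helper87.mem_autInducedBy_iff]
    refine ⟨y, hyS₀, fun g => ?_⟩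
    have := hy (Subgroup.inclusion le_sup_left g)
    rw [hαi] at this
    exact this.symm
  have h₂ : GoodMark F p (P ⊔ Q) (star P Q (autInducedBy S₀ P) K) (P ⊔ Q).subtype :=
    h₀.mono (star_mono le_top) hb
  refine ⟨hP, fun R₀ φ hφE hφr => ?_⟩
  obtain ⟨hφF, hR₀, hφval, φh, hφh, hφhP, k₀, hk₀, hφhQ⟩ := (hE.mem_hom R₀ φ).mp hφE
  have hφhr : φh.range = P ⊔ Q := by
    apply le_antisymm
    · rintro _ ⟨u, rfl⟩
      exact forall_sup_of_subgroup (P := R₀) (Q := Q) ((P ⊔ Q).comap φh)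
        (fun g hg => (le_sup_left : P ≤ P ⊔ Q) (by
          show φh (Subgroup.inclusion le_sup_left ⟨g, hg⟩) ∈ P
          rw [hφhP]
          exact hφr.le ⟨_, rfl⟩))
        (fun x hx => (le_sup_right : Q ≤ P ⊔ Q) (by
          show φh (Subgroup.inclusion le_sup_right ⟨x, hx⟩) ∈ Q
          rw [hφhQ]
          exact (k₀ _).2)) u
    · apply sup_le
      · intro g hg
        obtain ⟨r, rfl⟩ := hφr.ge hg
        exact ⟨Subgroup.inclusion le_sup_left r, hφhP r⟩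
      · intro x hx
        refine ⟨Subgroup.inclusion le_sup_right (k₀⁻¹ ⟨x, hx⟩), ?_⟩
        rw [hφhQ]
        simp
  obtain ⟨μ, hμ, hμinv, hμr⟩ := inv_exists F hφh hφhr
  have hinjμ := F.injective_of_mem hμ
  have hμP : ∀ (r : R₀) (h : φ r ∈ P),
      μ (Subgroup.inclusion (le_sup_left : P ≤ P ⊔ Q) ⟨φ r, h⟩) = (r : Ω) := by
    intro r h
    have e : Subgroup.inclusion (le_sup_left : P ≤ P ⊔ Q) ⟨φ r, h⟩ =
        ⟨φh (Subgroup.inclusion le_sup_left r), hφhr.le ⟨_, rfl⟩⟩ := by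
      apply Subtype.ext
      exact (hφhP r).symm
    rw [e, hμinv]
    rfl
  have hμQ : ∀ x : Q, μ (Subgroup.inclusion (le_sup_right : Q ≤ P ⊔ Q) x) =
      ((k₀⁻¹ x : Q) : Ω) := by
    intro x
    have e : Subgroup.inclusion (le_sup_right : Q ≤ P ⊔ Q) x =
        ⟨φh (Subgroup.inclusion le_sup_right (k₀⁻¹ x)), hφhr.le ⟨_, rfl⟩⟩ := by
      apply Subtype.ext
      show (x : Ω) = φh (Subgroup.inclusion le_sup_right (k₀⁻¹ x))
      rw [hφhQ]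
      simp
    rw [e, hμinv]
    rfl
  obtain ⟨χ, hχ, ψ, hψ, hψe⟩ := exists_extension hS F h₂ hμ
  -- the extender lies in the `K₂`-normalizer of the marking `μ`
  have hM : extender S₀ R₀ φ ≤ nk S (P ⊔ Q) (star P Q (autInducedBy S₀ P) K) μ := by
    unfold extender
    rw [Subgroup.closure_le]
    rintro g ⟨hgS₀, hgN, h, hhS₀, hh⟩
    rw [SetLike.mem_coe, mem_nk_star hinjμ]
    have hgx : ∀ r : R₀, g * (r : Ω) * g⁻¹ ∈ R₀ := fun r =>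
      (Subgroup.mem_normalizer_iff.mp hgN _).mp r.2
    refine ⟨hE.le hgS₀, ?_, ?_⟩
    · have hhN : h ∈ Subgroup.normalizer (P : Set Ω) := by
        have : Finite (↑P : Set Ω) := hfinP
        apply Subgroup.mem_normalizer_fintype
        intro n hn
        obtain ⟨r, rfl⟩ := hφr.ge hn
        rw [← hh r (hgx r)]
        exact hφr.le ⟨_, rfl⟩
      refine ⟨conjAut P h hhN, conjAut_mem_autInducedBy hhS₀ hhN, fun p' => ?_⟩
      obtain ⟨r, hr⟩ := hφr.ge p'.2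
      have e1 : p' = ⟨φ r, hφr.le ⟨r, rfl⟩⟩ := Subtype.ext hr.symm
      have e2 : conjAut P h hhN p' = ⟨φ ⟨g * (r : Ω) * g⁻¹, hgx r⟩, hφr.le ⟨_, rfl⟩⟩ := by
        apply Subtype.ext
        show h * (p' : Ω) * h⁻¹ = φ ⟨g * (r : Ω) * g⁻¹, hgx r⟩
        rw [hh r (hgx r), ← hr]
      rw [e2, hμP, e1, hμP]
    · obtain ⟨kg, hkg, hkgx⟩ := hE.exists_k hgS₀
      refine ⟨k₀ * kg * k₀⁻¹, K.mul_mem (K.mul_mem hk₀ hkg) (K.inv_mem hk₀), fun x => ?_⟩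
      rw [hμQ, hμQ, hkgx]
      simp
  have hμrange : ∀ u : ↥(P ⊔ Q), μ u ∈
      nk S (P ⊔ Q) (star P Q (autInducedBy S₀ P) K) μ ⊔ μ.range :=
    fun u => (le_sup_right : μ.range ≤ _) ⟨u, rfl⟩
  have hQD : Q ≤ nk S (P ⊔ Q) (star P Q (autInducedBy S₀ P) K) μ ⊔ μ.range := by
    intro x hx
    apply (le_sup_right : μ.range ≤ _)
    rw [hμr]
    exact (le_sup_right : Q ≤ R₀ ⊔ Q) hx
  have hMQD : extender S₀ R₀ φ ⊔ Q ≤
      nk S (P ⊔ Q) (star P Q (autInducedBy S₀ P) K) μ ⊔ μ.range :=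
    sup_le (hM.trans le_sup_left) hQD
  obtain ⟨⟨iχ, hiχ, hχi⟩, ⟨kχ, hkχ, hχk⟩⟩ := hχ.1
  obtain ⟨h', hh'S₀, hh'⟩ := (Cfsg.Agent.Lib.Helper87.mem_autInducedBy_iff S₀ P iχ).mp hiχ
  obtain ⟨kh, hkh, hkhx⟩ := hE.exists_k hh'S₀
  have hh'S : h' ∈ S := hE.le hh'S₀
  have hψ₁ : ψ.comp (Subgroup.inclusion hMQD) ∈ F.Hom (extender S₀ R₀ φ ⊔ Q) :=
    Cfsg.Agent.Lib.Helper87.restrict_mem F hψ hMQD
  have hc : conjHom (ψ.comp (Subgroup.inclusion hMQD)).range h'⁻¹ ∈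
      F.Hom (ψ.comp (Subgroup.inclusion hMQD)).range :=
    F.conj_mem (range_le F hψ₁) (S.inv_mem hh'S)
  obtain ⟨ψ₂, hψ₂, hψ₂e⟩ := comp_mem' F hψ₁ hc (fun w => ⟨w, rfl⟩)
  have hψ₂e' : ∀ w : ↥(extender S₀ R₀ φ ⊔ Q),
      ψ₂ w = h'⁻¹ * ψ (Subgroup.inclusion hMQD w) * h' := by
    intro w
    rw [hψ₂e]
    show h'⁻¹ * _ * h'⁻¹⁻¹ = _
    rw [inv_inv]
    rfl
  have hψQ : ∀ x : Q, ψ (Subgroup.inclusion hMQD (Subgroup.inclusion le_sup_right x)) =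
      ((kχ (k₀ x) : Q) : Ω) := by
    intro x
    have e : Subgroup.inclusion hMQD (Subgroup.inclusion le_sup_right x) =
        ⟨μ (Subgroup.inclusion le_sup_right (k₀ x)), hμrange _⟩ := by
      apply Subtype.ext
      show (x : Ω) = μ _
      rw [hμQ]
      simp
    rw [e, hψe]
    show ((χ (Subgroup.inclusion le_sup_right (k₀ x)) : ↥(P ⊔ Q)) : Ω) = _
    rw [hχk]
    rfl
  have hψ₂Q : ∀ x : Q, ψ₂ (Subgroup.inclusion le_sup_right x) =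
      (((kh⁻¹ * kχ * k₀) x : Q) : Ω) := by
    intro x
    rw [hψ₂e', hψQ]
    exact conj_inv_eq (φ := Q.subtype) (k := kh) hkhx (kχ (k₀ x))
  have hψR : ∀ (r : R₀) (hr : (r : Ω) ∈ extender S₀ R₀ φ),
      ψ₂ (Subgroup.inclusion le_sup_left ⟨(r : Ω), hr⟩) = φ r := by
    intro r hr
    rw [hψ₂e']
    have hφrP : φ r ∈ P := hφr.le ⟨r, rfl⟩
    have e : Subgroup.inclusion hMQD (Subgroup.inclusion le_sup_left ⟨(r : Ω), hr⟩) =
        ⟨μ (Subgroup.inclusion le_sup_left ⟨φ r, hφrP⟩), hμrange _⟩ := by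
      apply Subtype.ext
      show (r : Ω) = μ _
      rw [hμP]
    rw [e, hψe]
    show h'⁻¹ * ((χ (Subgroup.inclusion le_sup_left ⟨φ r, hφrP⟩) : ↥(P ⊔ Q)) : Ω) * h' = φ r
    rw [hχi]
    show h'⁻¹ * ((iχ ⟨φ r, hφrP⟩ : P) : Ω) * h' = φ r
    rw [hh']
    show h'⁻¹ * (h' * φ r * h'⁻¹) * h' = φ r
    group
  have hMS₀ : extender S₀ R₀ φ ≤ S₀ := by
    unfold extender
    rw [Subgroup.closure_le]
    rintro g ⟨hg, -⟩
    exact hg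
  have hk₃ : kh⁻¹ * kχ * k₀ ∈ K := K.mul_mem (K.mul_mem (K.inv_mem hkh) hkχ) hk₀
  have hψE : ψ₂.comp (Subgroup.inclusion le_sup_left) ∈ E.Hom (extender S₀ R₀ φ) := by
    refine (hE.mem_hom _ _).mpr ⟨Cfsg.Agent.Lib.Helper87.restrict_mem F hψ₂ le_sup_left, hMS₀,
      ?_, ψ₂, hψ₂, fun _ => rfl, kh⁻¹ * kχ * k₀, hk₃, hψ₂Q⟩
    intro m
    obtain ⟨km, hkm, hkmx⟩ := hE.exists_k (hMS₀ m.2)
    refine hE.mem_of (hom_mem_S F hψ₂ _)
      (k := (kh⁻¹ * kχ * k₀) * km * (kh⁻¹ * kχ * k₀)⁻¹)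
      (K.mul_mem (K.mul_mem hk₃ hkm) (K.inv_mem hk₃)) (fun x => ?_)
    have hx : (x : Ω) = ψ₂ (Subgroup.inclusion le_sup_right ((kh⁻¹ * kχ * k₀)⁻¹ x)) := by
      rw [hψ₂Q]
      simp
    show ψ₂ (Subgroup.inclusion le_sup_left m) * (x : Ω) *
      (ψ₂ (Subgroup.inclusion le_sup_left m))⁻¹ = _
    rw [hx, ← map_inv, ← map_mul, ← map_mul]
    have e : Subgroup.inclusion (le_sup_left : extender S₀ R₀ φ ≤ extender S₀ R₀ φ ⊔ Q) m *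
        Subgroup.inclusion le_sup_right ((kh⁻¹ * kχ * k₀)⁻¹ x) *
        (Subgroup.inclusion (le_sup_left : extender S₀ R₀ φ ≤ extender S₀ R₀ φ ⊔ Q) m)⁻¹ =
        Subgroup.inclusion le_sup_right (km ((kh⁻¹ * kχ * k₀)⁻¹ x)) := by
      apply Subtype.ext
      exact hkmx _
    rw [e, hψ₂Q]
    rfl
  refine ⟨_, hψE, fun x hR hN => ?_⟩
  exact hψR ⟨x, hR⟩ hN

end Cfsg.Agent.Lib.Helper84.KN
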