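import Mathlib
import Cfsg.Prelude.Def_CaseTheorems
import Cfsg.Agent.Lib.Helper8.N57INV
import Cfsg.Agent.Lib.Helper65.N57CENT
import Cfsg.Agent.Lib.Helper33.N57O2
import Cfsg.Agent.Lib.Helper25.N57STAB
import Cfsg.Agent.Lib.Helper34.N57GEN
import Cfsg.Agent.Lib.Helper49.N57OMEGA
import Cfsg.Agent.Lib.Helper32.N57NORMcore

set_option autoImplicit false
open Cfsg

namespace Cfsg.Agent.Lib.Helper84.N57

variable {G : Type*} [Group G] [Finite G]

theorem n57main_sq_eq_one {U : Subgroup G} (hU4 : IsKleinFour ↥U) {u : G} (hu : u ∈ U) : u * u = 1 := by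
  have h := IsKleinFour.mul_self (⟨u, hu⟩ : ↥U)
  exact congrArg Subtype.val h

theorem n57main_comm {U : Subgroup G} (hU4 : IsKleinFour ↥U) {a b : G} (ha : a ∈ U) (hb : b ∈ U) :
    a * b = b * a := by
  have h1 : a * a = 1 := n57main_sq_eq_one hU4 ha
  have h2 : b * b = 1 := n57main_sq_eq_one hU4 hb
  have h3 : (a * b) * (a * b) = 1 := n57main_sq_eq_one hU4 (U.mul_mem ha hb)
  have ha' : a⁻¹ = a := inv_eq_of_mul_eq_one_right h1
  have hb' : b⁻¹ = b := inv_eq_of_mul_eq_one_right h2
  have hab : (a * b)⁻¹ = a * b := inv_eq_of_mul_eq_one_right h3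
  calc a * b = (a * b)⁻¹ := hab.symm
    _ = b⁻¹ * a⁻¹ := mul_inv_rev a b
    _ = b * a := by rw [ha', hb']

/-- N57-NORM assembled: `n57norm_core` (helper32) fed with the leaf `omega` (helper49). -/
theorem n57main_norm_of_big (P : Sylow 2 G) (U : Subgroup G) (hUP : U ≤ (P : Subgroup G))
    (hUn : (P : Subgroup G) ≤ Subgroup.normalizer (U : Set G)) (hU4 : IsKleinFour ↥U)
    (hcyc : IsCyclic ↥((P : Subgroup G) ⊓ Subgroup.centralizer ((P : Subgroup G) : Set G)))
    (hnc : ¬ U ≤ Subgroup.centralizer ((P : Subgroup G) : Set G))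
    (R : Subgroup G) (hR : IsPGroup 2 ↥R)
    (hPR : (P : Subgroup G) ⊓ Subgroup.centralizer (U : Set G) ≤ R) :
    R ≤ Subgroup.normalizer (U : Set G) :=
  n57norm_core P U hUP hUn hU4 hnc
    (omega (P : Subgroup G) U P.isPGroup' hUP hUn hU4 hcyc hnc) R hR hPR

theorem main (h2 : Cfsg.IsCharacteristicTwoType G)
    (P : Sylow 2 G) (U : Subgroup G) (hUP : U ≤ (P : Subgroup G))
    (hUn : (P : Subgroup G) ≤ Subgroup.normalizer (U : Set G))
    (hU4 : IsKleinFour ↥U)
    (hUZ : ¬ IsCyclic ↥((P : Subgroup G) ⊓ Subgroup.centralizer ((P : Subgroup G) : Set G)) →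
      U ≤ Subgroup.centralizer ((P : Subgroup G) : Set G))
    (K : Subgroup G) (hK : Odd (Nat.card K)) (hUK : U ≤ Subgroup.normalizer (K : Set G)) :
    U ≤ Subgroup.centralizer (K : Set G) := by
  apply gen U K hU4 hK hUK
  intro u hu hu1 x hx w hw
  have hu2 : u * u = 1 := n57main_sq_eq_one hU4 hu
  -- the 2-local N = C_G(u)
  set N : Subgroup G := Subgroup.centralizer ({u} : Set G) with hN
  have hz2 : IsPGroup 2 ↥(Subgroup.zpowers u) := by
    apply IsPGroup.of_card (n := 1)
    rw [Nat.card_zpowers, pow_one]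
    exact orderOf_eq_prime (by rw [pow_two]; exact hu2) hu1
  have hzne : Subgroup.zpowers u ≠ ⊥ := by
    intro h
    exact hu1 (Subgroup.zpowers_eq_bot.mp h)
  have hcharN : Cfsg.IsOfCharacteristicTwo ↥N := by
    have := h2.2 (Subgroup.zpowers u) hz2 hzne
    rw [normalizer_zpowers u hu2] at this
    exact this
  obtain ⟨hQN, hQ2, hNQ, hchar, hmax⟩ := o2_facts N hcharN
  set Q : Subgroup G := (Cfsg.pCore 2 ↥N).map N.subtype with hQ
  have hmemN : ∀ g : G, g ∈ N ↔ g * u = u * g := fun g => Subgroup.mem_centralizer_singleton_iff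
  have hUN : U ≤ N := fun a ha => (hmemN a).mpr (n57main_comm hU4 ha hu)
  -- Q normalizes U
  have hQV : Q ≤ Subgroup.normalizer (U : Set G) := by
    by_cases hc : ∀ p ∈ (P : Subgroup G), p * u = u * p
    · have hPN : (P : Subgroup G) ≤ N := fun p hp => (hmemN p).mpr (hc p hp)
      have hsup : IsPGroup 2 ↥(Q ⊔ (P : Subgroup G)) :=
        IsPGroup.to_sup_of_normal_left' hQ2 P.isPGroup' (hPN.trans hNQ)
      have := P.is_maximal' hsup le_sup_right
      have hQP : Q ≤ (P : Subgroup G) := by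
        rw [← this]; exact le_sup_left
      exact hQP.trans hUn
    · have hnc : ¬ U ≤ Subgroup.centralizer ((P : Subgroup G) : Set G) := by
        intro hcon
        apply hc
        intro p hp
        have := hcon hu
        rw [Subgroup.mem_centralizer_iff] at this
        exact this p hp
      have hcyc : IsCyclic ↥((P : Subgroup G) ⊓ Subgroup.centralizer ((P : Subgroup G) : Set G)) := by
        by_contra hcon
        exact hnc (hUZ hcon)
      have hP0N : (P : Subgroup G) ⊓ Subgroup.centralizer (U : Set G) ≤ N := by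
        intro p hp
        rw [hmemN]
        have := (Subgroup.mem_inf.mp hp).2
        rw [Subgroup.mem_centralizer_iff] at this
        exact (this u hu).symm
      have hP02 : IsPGroup 2 ↥((P : Subgroup G) ⊓ Subgroup.centralizer (U : Set G)) :=
        P.isPGroup'.to_le inf_le_left
      have hsup : IsPGroup 2 ↥(Q ⊔ ((P : Subgroup G) ⊓ Subgroup.centralizer (U : Set G))) :=
        IsPGroup.to_sup_of_normal_left' hQ2 hP02 (hP0N.trans hNQ)
      have := n57main_norm_of_big P U hUP hUn hU4 hcyc hnc _ hsup le_sup_right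
      exact le_sup_left.trans this
  have hUQ : U ≤ Q :=
    stab N Q U hQN hQ2 hNQ hchar hmax u hu1 hu2 ((hmemN u).mpr rfl)
      (fun h hh => (hmemN h).mp hh) hUN (IsKleinFour.card_four) hu hQV
  -- the odd-order subgroup X = K ⊓ C(u)
  have hXN : K ⊓ Subgroup.centralizer ({u} : Set G) ≤ N := inf_le_right
  have hXodd : Odd (Nat.card ↥(K ⊓ Subgroup.centralizer ({u} : Set G))) := by
    have hd : Nat.card ↥(K ⊓ Subgroup.centralizer ({u} : Set G)) ∣ Nat.card ↥K :=
      Subgroup.card_dvd_of_le inf_le_left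
    exact Odd.of_dvd_nat hK hd
  have hVX : U ≤ Subgroup.normalizer ((K ⊓ Subgroup.centralizer ({u} : Set G) : Subgroup G) : Set G) := by
    intro a ha
    have haK := hUK ha
    rw [Subgroup.mem_normalizer_iff] at haK ⊢
    intro g
    have hau : a * u = u * a := n57main_comm hU4 ha hu
    have hau' : a⁻¹ * u = u * a⁻¹ := by
      have : u = a⁻¹ * u * a := by rw [mul_assoc, ← hau, ← mul_assoc, inv_mul_cancel, one_mul]
      calc a⁻¹ * u = a⁻¹ * u * a * a⁻¹ := by group
        _ = u * a⁻¹ := by rw [← this]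
    constructor
    · intro hg
      obtain ⟨hgK, hgC⟩ := Subgroup.mem_inf.mp hg
      refine Subgroup.mem_inf.mpr ⟨(haK g).mp hgK, ?_⟩
      rw [Subgroup.mem_centralizer_singleton_iff] at hgC ⊢
      calc a * g * a⁻¹ * u = a * g * (a⁻¹ * u) := by group
        _ = a * g * (u * a⁻¹) := by rw [hau']
        _ = a * (g * u) * a⁻¹ := by group
        _ = a * (u * g) * a⁻¹ := by rw [hgC]
        _ = (a * u) * g * a⁻¹ := by group
        _ = (u * a) * g * a⁻¹ := by rw [hau]
        _ = u * (a * g * a⁻¹) := by group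
    · intro hg
      obtain ⟨hgK, hgC⟩ := Subgroup.mem_inf.mp hg
      refine Subgroup.mem_inf.mpr ⟨(haK g).mpr hgK, ?_⟩
      rw [Subgroup.mem_centralizer_singleton_iff] at hgC ⊢
      have e1 : g = a⁻¹ * (a * g * a⁻¹) * a := by group
      calc g * u = a⁻¹ * (a * g * a⁻¹) * a * u := by rw [← e1]
        _ = a⁻¹ * (a * g * a⁻¹) * (a * u) := by group
        _ = a⁻¹ * (a * g * a⁻¹) * (u * a) := by rw [hau]
        _ = a⁻¹ * ((a * g * a⁻¹) * u) * a := by group
        _ = a⁻¹ * (u * (a * g * a⁻¹)) * a := by rw [hgC]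
        _ = (a⁻¹ * u) * (a * g * a⁻¹) * a := by group
        _ = (u * a⁻¹) * (a * g * a⁻¹) * a := by rw [hau']
        _ = u * (a⁻¹ * (a * g * a⁻¹) * a) := by group
        _ = u * g := by rw [← e1]
  exact cent N Q U (K ⊓ Subgroup.centralizer ({u} : Set G)) hNQ hQ2 hUQ hXN hXodd hVX x hx w hw

end Cfsg.Agent.Lib.Helper84.N57
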