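import Cfsg.Agent.Lib.Helper24.Omega1

/-!
The `Ω₂`-lemma for `p = 2` (a group of odd order normalising a 2-group `D` and centralising
every element `x ∈ D` with `x ^ 4 = 1` centralises `D`), and the unified version for all primes.
The proof follows `Cfsg.Agent.Lib.Helper24.omega1_aux`.
-/

set_option autoImplicit false
set_option linter.style.haveILetI false

universe u

namespace Cfsg.Agent.Lib.Helper84.Om

open Subgroup
open Cfsg.Agent.Lib.Helper33 Cfsg.Agent.Lib.Helper24
open scoped Pointwise commutatorElement

variable {G : Type u} [Group G]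

theorem omega2_aux [Finite G] (A : Subgroup G)
    (hcop : (Nat.card A).Coprime 2) (n : ℕ) :
    ∀ D : Subgroup G, Nat.card D ≤ n → IsPGroup 2 D → A ≤ normalizer (D : Set G) →
      (∀ x ∈ D, x ^ 4 = 1 → A ≤ centralizer ({x} : Set G)) →
      A ≤ centralizer (D : Set G) := by
  haveI : Fact (Nat.Prime 2) := ⟨Nat.prime_two⟩
  induction n with
  | zero =>
    intro D hcard
    have : 0 < Nat.card D := Nat.card_pos
    omega
  | succ n ih =>
    intro D hcard hD hAD hfix
    by_contra hnot
    have hD1 : D ≠ ⊥ := by
      rintro rfl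
      apply hnot
      intro a _
      rw [mem_centralizer_iff]
      intro u hu
      have : u = 1 := by simpa using hu
      rw [this]; simp
    have hcopAD : (Nat.card A).Coprime (Nat.card D) := by
      obtain ⟨k, hk⟩ := (IsPGroup.iff_card).mp hD
      rw [hk]; exact Nat.Coprime.pow_right k hcop
    have hDsolv : Group.IsSolvable D := by
      haveI : Group.IsNilpotent D := hD.isNilpotent
      infer_instance
    have hcard_lt : ∀ V : Subgroup G, V < D → Nat.card V ≤ n := by
      intro V hV
      by_contra hcon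
      push Not at hcon
      have h1 : Nat.card D ≤ Nat.card V := by omega
      exact hV.ne (eq_of_le_of_card_ge hV.le h1)
    have ihM : ∀ M : Subgroup G, M < D → A ≤ normalizer (M : Set G) →
        A ≤ centralizer (M : Set G) := by
      intro M hM hAM
      exact ih M (hcard_lt M hM) (hD.to_le hM.le) hAM (fun x hx => hfix x (hM.le hx))
    -- step (a): [D, A] = D
    have hWD : ⁅D, A⁆ = D := by
      by_contra hW
      have hWlt : ⁅D, A⁆ < D := lt_of_le_of_ne (commutator_le_of_le_normalizer D A hAD) hW
      have h1 := ihM _ hWlt (le_normalizer_commutator_right D A hAD)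
      have h1' : ⁅⁅D, A⁆, A⁆ = ⊥ := by
        rw [commutator_eq_bot_iff_le_centralizer, le_centralizer_iff]
        exact h1
      rw [commutator_commutator_eq A D hAD hcopAD (Or.inr hDsolv)] at h1'
      apply hnot
      rw [← le_centralizer_iff]
      exact commutator_eq_bot_iff_le_centralizer.mp h1'
    -- step (b): proper invariant normal subgroups are central
    have hcentral : ∀ M : Subgroup G, M < D → A ≤ normalizer (M : Set G) →
        D ≤ normalizer (M : Set G) → M ≤ centralizer (D : Set G) := by
      intro M hM hAM hDM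
      have h1 := ihM M hM hAM
      have hMA : ⁅M, A⁆ = ⊥ := by
        rw [commutator_eq_bot_iff_le_centralizer, le_centralizer_iff]; exact h1
      have h2 : ⁅⁅M, A⁆, D⁆ = ⊥ := by
        rw [hMA]; exact commutator_bot_left D
      have h3 : ⁅⁅D, M⁆, A⁆ = ⊥ := by
        have hle : ⁅D, M⁆ ≤ M := by
          rw [commutator_comm]; exact commutator_le_of_le_normalizer M D hDM
        rw [eq_bot_iff, ← hMA]
        exact commutator_mono hle le_rfl
      have h4 : ⁅⁅A, D⁆, M⁆ = ⊥ := commutator_commutator_eq_bot_of_rotate h3 h2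
      rw [commutator_comm A D, hWD] at h4
      rw [le_centralizer_iff]
      exact commutator_eq_bot_iff_le_centralizer.mp h4
    -- step (c): the Frattini subgroup
    haveI : Nontrivial D := (Subgroup.nontrivial_iff_ne_bot D).mpr hD1
    set T : Subgroup G := (frattini D).map D.subtype with hT
    have hTlt : T < D := by
      have h1 : frattini D < ⊤ := frattini_lt_top
      have h2 : T ≤ D := map_subtype_le _
      refine lt_of_le_of_ne h2 ?_
      intro heq
      apply h1.ne
      rw [eq_top_iff]
      intro x _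
      have hx : (x : G) ∈ T := by rw [heq]; exact x.2
      obtain ⟨y, hy, hyx⟩ := hx
      have : y = x := Subtype.ext hyx
      rwa [← this]
    have hAT : A ≤ normalizer (T : Set G) :=
      le_trans hAD (normalizer_le_normalizer_map_of_characteristic D (frattini D))
    have hDT : D ≤ normalizer (T : Set G) :=
      le_trans le_normalizer (normalizer_le_normalizer_map_of_characteristic D (frattini D))
    have hTZ : T ≤ centralizer (D : Set G) := hcentral T hTlt hAT hDT
    have hAT' : A ≤ centralizer (T : Set G) := ihM T hTlt hAT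
    -- step (d): D has class at most two, squares central
    have hle : commutator D ≤ Subgroup.center D := by
      intro c hc
      have hcT : (c : G) ∈ T := ⟨c, commutator_le_frattini_of_isPGroup hD hc, rfl⟩
      rw [Subgroup.mem_center_iff]
      intro g
      apply Subtype.ext
      have := hTZ hcT
      rw [mem_centralizer_iff] at this
      exact this g g.2
    have hpowT : ∀ x : D, ((x ^ 2 : D) : G) ∈ T :=
      fun x => ⟨x ^ 2, pow_mem_frattini_of_isPGroup hD x, rfl⟩
    have hpow4T : ∀ x : D, ((x ^ 4 : D) : G) ∈ T := by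
      intro x
      have := T.mul_mem (hpowT x) (hpowT x)
      have e : ((x ^ 4 : D) : G) = ((x ^ 2 : D) : G) * ((x ^ 2 : D) : G) := by
        rw [← Subgroup.coe_mul, ← pow_add]
      rw [e]; exact this
    -- step (e): commutators [x, a] have fourth power one
    have hcp : ∀ x ∈ D, ∀ a ∈ A, ⁅x, a⁆ ^ 4 = 1 := by
      intro x hx a ha
      have hy : a * x⁻¹ * a⁻¹ ∈ D := (mem_normalizer_iff.mp (hAD ha) x⁻¹).mp (D.inv_mem hx)
      have hYp : (⟨a * x⁻¹ * a⁻¹, hy⟩ : D) ^ 2 ∈ Subgroup.center D := by
        rw [Subgroup.mem_center_iff]; intro g; apply Subtype.ext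
        have := hTZ (hpowT ⟨a * x⁻¹ * a⁻¹, hy⟩)
        rw [mem_centralizer_iff] at this
        exact this g g.2
      have hcm : (Cfsg.Agent.Lib.Helper29.cm (⟨a * x⁻¹ * a⁻¹, hy⟩ : D) ⟨x, hx⟩) ^ 2 = 1 := by
        rw [← Cfsg.Agent.Lib.Helper29.cm_pow_left hle _ _ 2,
          Cfsg.Agent.Lib.Helper29.cm_eq_one_iff]
        exact ((Subgroup.mem_center_iff.mp hYp) ⟨x, hx⟩).symm
      have hmul := Cfsg.Agent.Lib.Helper29.mul_pow_classTwo hle
        (⟨x, hx⟩ : D) ⟨a * x⁻¹ * a⁻¹, hy⟩ 4
      have h6 : Nat.choose 4 2 = 2 * 3 := by decide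
      rw [h6, pow_mul, hcm, one_pow, mul_one] at hmul
      have hmul' : (x * (a * x⁻¹ * a⁻¹)) ^ 4 = x ^ 4 * (a * x⁻¹ * a⁻¹) ^ 4 := by
        have := congrArg (Subtype.val) hmul
        simpa using this
      have hxp : Commute a (x ^ 4) := by
        have h1 := hAT' ha
        rw [mem_centralizer_iff] at h1
        have h2 := hpow4T ⟨x, hx⟩
        exact (h1 _ h2).symm
      have e1 : ⁅x, a⁆ = x * (a * x⁻¹ * a⁻¹) := by rw [commutatorElement_def]; group
      rw [e1, hmul']
      have e2 : (a * x⁻¹ * a⁻¹) ^ 4 = a * (x ^ 4)⁻¹ * a⁻¹ := by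
        rw [conj_pow, inv_pow]
      rw [e2, hxp.inv_right.eq]
      group
    have hfin : ⁅D, A⁆ ≤ centralizer (A : Set G) := by
      rw [commutator_le]
      intro x hx a ha
      have hcD : ⁅x, a⁆ ∈ D :=
        (commutator_le_of_le_normalizer D A hAD) (commutator_mem_commutator hx ha)
      have h2 := hfix _ hcD (hcp x hx a ha)
      rw [mem_centralizer_iff]
      intro b hb
      have hb' := h2 hb
      rw [mem_centralizer_iff] at hb'
      exact (hb' _ (Set.mem_singleton _)).symm
    rw [hWD] at hfin
    exact hnot (le_centralizer_iff.mp hfin)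

/-- **Ω-lemma**, all primes: a `p'`-group `A` normalising a `p`-group `D` and centralising every
`x ∈ D` with `x ^ p = 1` (or `x ^ 4 = 1` when `p = 2`) centralises `D`. -/
theorem omega_centralizer [Finite G] {p : ℕ} [Fact p.Prime] (A D : Subgroup G)
    (hcop : (Nat.card A).Coprime p) (hD : IsPGroup p D) (hAD : A ≤ normalizer (D : Set G))
    (hfix : ∀ x ∈ D, (x ^ p = 1 ∨ (p = 2 ∧ x ^ 4 = 1)) → A ≤ centralizer ({x} : Set G)) :
    A ≤ centralizer (D : Set G) := by
  by_cases hp2 : p = 2
  · subst hp2
    exact omega2_aux A hcop _ D le_rfl hD hAD (fun x hx h4 => hfix x hx (Or.inr ⟨rfl, h4⟩))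
  · exact omega1_centralizer hp2 A D hcop hD hAD (fun x hx ho => hfix x hx (Or.inl (by
      rw [← ho]; exact pow_orderOf_eq_one x)))

end Cfsg.Agent.Lib.Helper84.Om
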