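import Mathlib
import Cfsg.Agent.Lib.Helper2.PGroup
import Cfsg.Agent.Lib.Helper47.Frattini
import Cfsg.Agent.Lib.Helper63.PGroup
import Cfsg.Agent.Lib.Helper32.PGroupCenter

set_option autoImplicit false

/-!
General lemmas on finite `p`-groups used for the groups of order `p ^ 4`.
-/

namespace Cfsg.Agent.Lib.Helper84.P4

open Cfsg.Agent.Lib

variable {H : Type*} [Group H]

/-- A finite group which is the internal direct product of two normal subgroups is isomorphic to
their product (as in helper80's `exists_mulEquiv_prod`, reproved to keep imports light). -/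
theorem nonempty_mulEquiv_prod [Finite H] (P N : Subgroup H) [hP : P.Normal] [hN : N.Normal]
    (hc : N.IsComplement' P) : Nonempty (H ≃* (P × N)) := by
  let e2 : H ⧸ N ≃* P := hc.symm.QuotientMulEquiv
  let e1 : H ⧸ P ≃* N := hc.QuotientMulEquiv
  let φ : H →* P × N := MonoidHom.prod (e2.toMonoidHom.comp (QuotientGroup.mk' N))
    (e1.toMonoidHom.comp (QuotientGroup.mk' P))
  have hinj : Function.Injective φ := by
    rw [injective_iff_map_eq_one]
    intro g hg
    have h1 : e2 (QuotientGroup.mk' N g) = 1 := congrArg Prod.fst hg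
    have h2 : e1 (QuotientGroup.mk' P g) = 1 := congrArg Prod.snd hg
    have h3 : g ∈ N := by
      have := (MulEquiv.map_eq_one_iff e2).mp h1
      exact (QuotientGroup.eq_one_iff g).mp this
    have h4 : g ∈ P := by
      have := (MulEquiv.map_eq_one_iff e1).mp h2
      exact (QuotientGroup.eq_one_iff g).mp this
    have h5 : g ∈ N ⊓ P := ⟨h3, h4⟩
    rw [hc.disjoint.eq_bot] at h5
    exact h5
  have hcard : Nat.card (P × N) = Nat.card H := by
    rw [Nat.card_prod, mul_comm]
    exact hc.card_mul_card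
  have hbij : Function.Bijective φ :=
    (Nat.bijective_iff_injective_and_card φ).mpr ⟨hinj, hcard.symm⟩
  exact ⟨MulEquiv.ofBijective φ hbij⟩

theorem exists_coatom_not_mem {x : H} (hx : x ∉ frattini H) :
    ∃ M : Subgroup H, IsCoatom M ∧ x ∉ M := by
  by_contra h
  push Not at h
  exact hx ((Helper2.mem_frattini_iff x).mpr h)

theorem card_coatom [Finite H] {p : ℕ} [Fact p.Prime] (hH : IsPGroup p H) (M : Subgroup H)
    (hM : IsCoatom M) : Nat.card H = p * Nat.card M := by
  have := Helper2.coatom_normal hH M hM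
  have h1 := Helper2.coatom_card_quotient hH M hM
  have h2 : Nat.card M * M.index = Nat.card H := Subgroup.card_mul_index M
  have h3 : M.index = p := h1
  rw [h3] at h2
  rw [← h2, mul_comm]

theorem card_zpowers_of_pow_eq_one {p : ℕ} (hp : p.Prime) {z : H} (hzp : z ^ p = 1) (hz1 : z ≠ 1) :
    Nat.card (Subgroup.zpowers z) = p := by
  rw [Nat.card_zpowers]
  rcases (Nat.dvd_prime hp).mp (orderOf_dvd_of_pow_eq_one hzp) with h | h
  · exact absurd (orderOf_eq_one_iff.mp h) hz1
  · exact h

/-- A subgroup of prime order not contained in `E` is disjoint from `E`. -/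
theorem disjoint_zpowers_of_not_mem {p : ℕ} (hp : p.Prime) {z : H} (hzp : z ^ p = 1)
    (E : Subgroup H) (hzE : z ∉ E) : Disjoint E (Subgroup.zpowers z) := by
  have hz1 : z ≠ 1 := fun h => hzE (h ▸ E.one_mem)
  have hc := card_zpowers_of_pow_eq_one hp hzp hz1
  have : Fact (Nat.card (Subgroup.zpowers z)).Prime := ⟨by rw [hc]; exact hp⟩
  rcases (E.subgroupOf (Subgroup.zpowers z)).eq_bot_or_eq_top_of_prime_card with h | h
  · exact Subgroup.subgroupOf_eq_bot.mp h
  · exfalso
    exact hzE (Subgroup.subgroupOf_eq_top.mp h (Subgroup.mem_zpowers z))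

/-- Splitting off a central element of order `p` outside the Frattini subgroup. -/
theorem exists_prod_decomp [Finite H] {p : ℕ} [hpf : Fact p.Prime] (hH : IsPGroup p H) (z : H)
    (hz : z ∈ Subgroup.center H) (hzp : z ^ p = 1) (hzΦ : z ∉ frattini H) :
    ∃ E : Subgroup H, E.Normal ∧ Nat.card H = p * Nat.card E ∧ z ∉ E ∧
      Nonempty (H ≃* E × Multiplicative (ZMod p)) := by
  have hp : p.Prime := hpf.out
  obtain ⟨E, hE, hzE⟩ := exists_coatom_not_mem hzΦ
  have hEn : E.Normal := Helper2.coatom_normal hH E hE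
  have hcardE := card_coatom hH E hE
  refine ⟨E, hEn, hcardE, hzE, ?_⟩
  have hz1 : z ≠ 1 := fun h => hzE (h ▸ E.one_mem)
  have hcZ := card_zpowers_of_pow_eq_one hp hzp hz1
  have hZn : (Subgroup.zpowers z).Normal := by
    constructor
    intro n hn g
    obtain ⟨k, rfl⟩ := Subgroup.mem_zpowers_iff.mp hn
    have hzk : z ^ k ∈ Subgroup.center H := zpow_mem hz k
    have : g * z ^ k * g⁻¹ = z ^ k := by
      rw [Subgroup.mem_center_iff] at hzk
      rw [hzk g, mul_inv_cancel_right]
    rw [this]
    exact Subgroup.mem_zpowers_iff.mpr ⟨k, rfl⟩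
  have hdis : Disjoint (Subgroup.zpowers z) E := (disjoint_zpowers_of_not_mem hp hzp E hzE).symm
  have hc : (Subgroup.zpowers z).IsComplement' E := by
    apply Subgroup.isComplement'_of_card_mul_and_disjoint _ hdis
    rw [hcZ, hcardE]
  obtain ⟨e⟩ := nonempty_mulEquiv_prod E (Subgroup.zpowers z) hc
  have e2 : Subgroup.zpowers z ≃* Multiplicative (ZMod p) :=
    mulEquivOfPrimeCardEq (p := p) hcZ (by
      rw [Nat.card_eq_fintype_card, Fintype.card_multiplicative, ZMod.card])
  exact ⟨e.trans (MulEquiv.prodCongr (MulEquiv.refl E) e2)⟩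

end Cfsg.Agent.Lib.Helper84.P4
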