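import Mathlib
import Cfsg.Prelude.Def_Transfer
import Cfsg.Agent.Lib.Helper84.OrderP4Basic
import Cfsg.Agent.Lib.Helper24.Omega1
import Cfsg.Agent.Lib.Helper29.Extraspecial
import Cfsg.Agent.Lib.Helper29.ClassTwo
import Cfsg.Agent.Lib.Helper63.AbelianIndexP

set_option autoImplicit false
set_option linter.unusedSectionVars false

/-!
Nonabelian groups of order `p ^ 4`: structure according to the order of the Frattini subgroup.
-/

namespace Cfsg.Agent.Lib.Helper84.P4

open Cfsg.Agent.Lib
open scoped commutatorElement

universe u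

variable {H : Type u} [Group H] [Finite H] (p : ℕ) [hpf : Fact p.Prime]

theorem card_subgroup_pow {n : ℕ} (hcard : Nat.card H = p ^ n) (X : Subgroup H) :
    ∃ a ≤ n, Nat.card X = p ^ a := by
  have h := Subgroup.card_subgroup_dvd_card X
  rw [hcard] at h
  exact (Nat.dvd_prime_pow hpf.out).mp h

theorem commutator_ne_bot (hna : ¬ ∀ a b : H, a * b = b * a) : commutator H ≠ ⊥ := by
  intro h
  apply hna
  intro a b
  have h1 : ⁅a, b⁆ ∈ commutator H := Subgroup.commutator_mem_commutator (Subgroup.mem_top a)
    (Subgroup.mem_top b)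
  rw [h, Subgroup.mem_bot] at h1
  exact commutatorElement_eq_one_iff_mul_comm.mp h1

theorem comm_of_eq_zpowers {x : H} (h : Subgroup.zpowers x = ⊤) : ∀ a b : H, a * b = b * a := by
  intro a b
  have ha : a ∈ Subgroup.zpowers x := by rw [h]; trivial
  have hb : b ∈ Subgroup.zpowers x := by rw [h]; trivial
  obtain ⟨i, rfl⟩ := Subgroup.mem_zpowers_iff.mp ha
  obtain ⟨j, rfl⟩ := Subgroup.mem_zpowers_iff.mp hb
  rw [← zpow_add, ← zpow_add, add_comm]

theorem card_ne_of_ne_top {X : Subgroup H} (hX : X ≠ ⊤) : Nat.card X ≠ Nat.card H :=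
  fun h => hX (Subgroup.eq_top_of_card_eq X h)

/-- The Frattini subgroup of a nonabelian group of order `p ^ 4` has order `p` or `p ^ 2`. -/
theorem frattini_card_cases (hcard : Nat.card H = p ^ 4) (hna : ¬ ∀ a b : H, a * b = b * a) :
    Nat.card (frattini H) = p ∨ Nat.card (frattini H) = p ^ 2 := by
  have hp : p.Prime := hpf.out
  have hH : IsPGroup p H := IsPGroup.of_card hcard
  have hnt : Nontrivial H := by
    rw [← Finite.one_lt_card_iff_nontrivial, hcard]
    exact Nat.one_lt_pow (by norm_num) hp.one_lt
  obtain ⟨a, ha, hca⟩ := card_subgroup_pow p hcard (frattini H)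
  have hD : commutator H ≤ frattini H := Helper2.commutator_le_frattini hH
  have hD1 := commutator_ne_bot hna
  have ha4 : a ≠ 4 := by
    intro h
    rw [h, ← hcard] at hca
    exact (Helper24.frattini_lt_top (P := H)).ne (Subgroup.eq_top_of_card_eq _ hca)
  have ha0 : a ≠ 0 := by
    intro h
    rw [h, pow_zero] at hca
    apply hD1
    rw [eq_bot_iff]
    exact hD.trans (Subgroup.eq_bot_of_card_eq _ hca).le
  have ha3 : a ≠ 3 := by
    intro h
    rw [h] at hca
    apply hna
    have hidx : (frattini H).index = p := by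
      have h1 := Subgroup.card_mul_index (frattini H)
      rw [hca, hcard] at h1
      have h2 : p ^ 3 * (frattini H).index = p ^ 3 * p := by rw [h1]; ring
      exact Nat.eq_of_mul_eq_mul_left (pow_pos hp.pos 3) h2
    obtain ⟨x, hx⟩ : ∃ x : H, x ∉ frattini H := by
      by_contra hcon
      push Not at hcon
      exact (Helper24.frattini_lt_top (P := H)).ne (eq_top_iff.mpr fun x _ => hcon x)
    have h1 : Subgroup.zpowers x ⊔ frattini H = ⊤ :=
      Helper63.eq_top_of_index_prime hp hidx le_sup_right
        (Subgroup.mem_sup_left (Subgroup.mem_zpowers x)) hx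
    exact comm_of_eq_zpowers (frattini_nongenerating h1)
  have : a = 1 ∨ a = 2 := by omega
  rcases this with h | h
  · left; rw [hca, h, pow_one]
  · right; rw [hca, h]

/-- Nonabelian of order `p ^ 4` with Frattini subgroup of order `p`: class two, centre of order
`p ^ 2`. -/
theorem frattini_prime_structure (hcard : Nat.card H = p ^ 4)
    (hna : ¬ ∀ a b : H, a * b = b * a) (hΦ : Nat.card (frattini H) = p) :
    commutator H = frattini H ∧ frattini H ≤ Subgroup.center H ∧
      Nat.card (Subgroup.center H) = p ^ 2 := by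
  have hp : p.Prime := hpf.out
  have hH : IsPGroup p H := IsPGroup.of_card hcard
  have hD : commutator H ≤ frattini H := Helper2.commutator_le_frattini hH
  have hD1 := commutator_ne_bot hna
  have hDΦ : commutator H = frattini H := by
    obtain ⟨a, ha, hca⟩ := card_subgroup_pow p hcard (commutator H)
    have h1 : Nat.card (commutator H) ∣ p := by
      rw [← hΦ]
      exact Subgroup.card_dvd_of_le hD
    rcases (Nat.dvd_prime hp).mp h1 with h | h
    · exact absurd (Subgroup.eq_bot_of_card_eq _ h) hD1
    · exact Subgroup.eq_of_le_of_card_ge hD (by rw [h, hΦ])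
  have hΦZ : frattini H ≤ Subgroup.center H :=
    Helper63.normal_card_prime_le_center hH (frattini H) hΦ
  refine ⟨hDΦ, hΦZ, ?_⟩
  have hle : commutator H ≤ Subgroup.center H := hDΦ ▸ hΦZ
  obtain ⟨b, hb, hcb⟩ := card_subgroup_pow p hcard (Subgroup.center H)
  have hb4 : b ≠ 4 := by
    intro h
    rw [h, ← hcard] at hcb
    apply hna
    intro x y
    have hx : x ∈ Subgroup.center H := by rw [Subgroup.eq_top_of_card_eq _ hcb]; trivial
    exact (Subgroup.mem_center_iff.mp hx y).symm
  have hb3 : b ≠ 3 := by
    intro h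
    rw [h] at hcb
    apply hna
    have hidx : (Subgroup.center H).index = p := by
      have h1 := Subgroup.card_mul_index (Subgroup.center H)
      rw [hcb, hcard] at h1
      have h2 : p ^ 3 * (Subgroup.center H).index = p ^ 3 * p := by rw [h1]; ring
      exact Nat.eq_of_mul_eq_mul_left (pow_pos hp.pos 3) h2
    have hcyc : IsCyclic (H ⧸ Subgroup.center H) := isCyclic_of_prime_card (p := p) hidx
    have := (QuotientGroup.mk' (Subgroup.center H)).isMulCommutative_of_isCyclic_of_ker_le_center
      (by rw [QuotientGroup.ker_mk'])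
    exact fun x y => this.is_comm.comm x y
  have hb0 : b ≠ 0 := by
    intro h
    rw [h, pow_zero] at hcb
    have h1 : Nat.card (frattini H) ≤ 1 := by
      rw [← hcb]
      exact Nat.le_of_dvd Nat.card_pos (Subgroup.card_dvd_of_le hΦZ)
    rw [hΦ] at h1
    exact absurd hp.one_lt (not_lt.mpr h1)
  have hb1 : b ≠ 1 := by
    intro h
    rw [h, pow_one] at hcb
    obtain ⟨n, hn⟩ := Helper29.card_eq_odd_pow hcb hle
    rw [hcard] at hn
    have := Nat.pow_right_injective hp.two_le hn
    omega
  have : b = 2 := by omega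
  rw [hcb, this]

/-- In a group of class two with commutator subgroup of order `p`, noncentral elements have
centralizers of index `p`. -/
theorem index_centralizer_classTwo (hle : commutator H ≤ Subgroup.center H)
    (hD : Nat.card (commutator H) = p) (a : H) (ha : a ∉ Subgroup.center H) :
    (Subgroup.centralizer ({a} : Set H)).index = p := by
  have hp : p.Prime := hpf.out
  have hker : (Helper29.pairHom hle a).ker = Subgroup.centralizer ({a} : Set H) := by
    ext x
    rw [MonoidHom.mem_ker, Helper29.pairHom_eq_one_iff, Helper63.mem_centralizer_singleton_iff]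
    exact eq_comm
  rw [← hker, Subgroup.index_ker]
  have h1 : ((Helper29.pairHom hle a).range.map (Subgroup.center H).subtype) ≤ commutator H := by
    rintro _ ⟨_, ⟨x, rfl⟩, rfl⟩
    exact Helper29.cm_mem_commutator x a
  have h2 : Nat.card (Helper29.pairHom hle a).range ∣ p := by
    rw [← hD, ← Subgroup.card_map_of_injective (Subgroup.center H).subtype_injective]
    exact Subgroup.card_dvd_of_le h1
  rcases (Nat.dvd_prime hp).mp h2 with h | h
  · exfalso
    apply ha
    rw [Subgroup.mem_center_iff]
    intro g
    have h3 : Helper29.pairHom hle a g ∈ (Helper29.pairHom hle a).range := ⟨g, rfl⟩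
    rw [Subgroup.eq_bot_of_card_eq _ h, Subgroup.mem_bot, Helper29.pairHom_eq_one_iff] at h3
    exact h3
  · exact h

theorem card_centralizer_classTwo {n : ℕ} (hcard : Nat.card H = p ^ (n + 1))
    (hle : commutator H ≤ Subgroup.center H)
    (hD : Nat.card (commutator H) = p) (a : H) (ha : a ∉ Subgroup.center H) :
    Nat.card (Subgroup.centralizer ({a} : Set H)) = p ^ n := by
  have hp : p.Prime := hpf.out
  have h1 := Subgroup.card_mul_index (Subgroup.centralizer ({a} : Set H))
  rw [index_centralizer_classTwo p hle hD a ha, hcard, pow_succ] at h1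
  exact Nat.eq_of_mul_eq_mul_right hp.pos h1

theorem mem_centralizer_singleton_self (a : H) : a ∈ Subgroup.centralizer ({a} : Set H) := by
  rw [Helper63.mem_centralizer_singleton_iff]

theorem center_le_centralizer_singleton (a : H) :
    Subgroup.center H ≤ Subgroup.centralizer ({a} : Set H) := by
  intro z hz
  rw [Helper63.mem_centralizer_singleton_iff]
  exact Subgroup.mem_center_iff.mp hz a

/-- elements of a subgroup of order two -/
theorem eq_of_ne_one_of_card_two {X : Subgroup H} (hX : Nat.card X = 2) {u v : H} (hu : u ∈ X)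
    (hv : v ∈ X) (hu1 : u ≠ 1) (hv1 : v ≠ 1) : u = v := by
  obtain ⟨y, -, hy⟩ := (Nat.card_eq_two_iff' (1 : X)).mp hX
  have h1 : (⟨u, hu⟩ : X) = y := hy _ (fun h => hu1 (congrArg Subtype.val h))
  have h2 : (⟨v, hv⟩ : X) = y := hy _ (fun h => hv1 (congrArg Subtype.val h))
  exact congrArg Subtype.val (h1.trans h2.symm)

theorem pow_card_subgroup_eq_one {X : Subgroup H} {n : ℕ} (hX : Nat.card X = n) {u : H}
    (hu : u ∈ X) : u ^ n = 1 := by
  have : (⟨u, hu⟩ : X) ^ n = 1 := by rw [← hX]; exact pow_card_eq_one'
  exact congrArg Subtype.val this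

end Cfsg.Agent.Lib.Helper84.P4
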