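import Cfsg.Agent.S5187
import Cfsg.Agent.Lib.Helper84.OrderP4Basic
import Cfsg.Agent.Lib.Helper84.OrderP4NonAb
import Cfsg.Agent.Lib.Helper84.EssChain

set_option autoImplicit false

/-!
Abelian groups of order `p ^ 4` satisfying the automizer condition of essential subgroups.
-/

namespace Cfsg.Agent.Lib.Helper84.P4

open Cfsg.Agent.Lib

universe u

theorem card_ker_mul_card_range_pow {G : Type*} [CommGroup G] (p : ℕ) :
    Nat.card (powMonoidHom p : G →* G).ker * Nat.card (powMonoidHom p : G →* G).range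
      = Nat.card G := by
  rw [← Subgroup.index_ker]
  exact Subgroup.card_mul_index _

/-- Peeling off a direct factor of order `p` from a finite abelian `p`-group with more elements of
order dividing `p` than `p`-th powers. -/
theorem abel_peel {G : Type*} [CommGroup G] [Finite G] (p : ℕ) [Fact p.Prime] (hG : IsPGroup p G)
    (hlt : Nat.card (powMonoidHom p : G →* G).range < Nat.card (powMonoidHom p : G →* G).ker) :
    ∃ E : Subgroup G, Nat.card G = p * Nat.card E ∧
      Nonempty (G ≃* E × Multiplicative (ZMod p)) := by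
  obtain ⟨z, hzk, hzr⟩ : ∃ z, z ∈ (powMonoidHom p : G →* G).ker ∧
      z ∉ (powMonoidHom p : G →* G).range := by
    by_contra h
    push Not at h
    have hle : (powMonoidHom p : G →* G).ker ≤ (powMonoidHom p : G →* G).range := h
    exact absurd (Subgroup.card_le_of_le hle) (not_le.mpr hlt)
  have hzc : z ∈ Subgroup.center G := by
    rw [Subgroup.mem_center_iff]
    intro g
    exact mul_comm g z
  have hzp : z ^ p = 1 := by
    have := (MonoidHom.mem_ker).mp hzk
    simpa using this
  have hzΦ : z ∉ frattini G := by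
    rw [Cfsg.Agent.S5187.frattini_eq_range p hG]
    exact hzr
  obtain ⟨E, -, hc, -, hiso⟩ := exists_prod_decomp hG z hzc hzp hzΦ
  exact ⟨E, hc, hiso⟩

theorem pow_eq_one_of_prod_iso {G E : Type*} [Group G] [Group E] (p : ℕ) [Fact p.Prime]
    (f : G ≃* E × Multiplicative (ZMod p)) (hE : ∀ e : E, e ^ p = 1) (g : G) : g ^ p = 1 := by
  apply f.injective
  rw [map_pow, map_one]
  have h2 : (f g).2 ^ p = 1 := by
    have hc : Nat.card (Multiplicative (ZMod p)) = p := by
      rw [Nat.card_congr Multiplicative.toAdd, Nat.card_zmod]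
    have := pow_card_eq_one' (G := Multiplicative (ZMod p)) (x := (f g).2)
    rwa [hc] at this
  exact Prod.ext (by rw [Prod.pow_fst, hE]; rfl) (by rw [Prod.pow_snd, h2]; rfl)

theorem isCyclic_of_card_sq {G : Type*} [Group G] [Finite G] (p : ℕ) [Fact p.Prime]
    (hcard : Nat.card G = p ^ 2) (hne : ¬ ∀ g : G, g ^ p = 1) : IsCyclic G := by
  push Not at hne
  obtain ⟨x, hx⟩ := hne
  apply isCyclic_of_orderOf_eq_card x
  rw [hcard]
  have hd : orderOf x ∣ p ^ 2 := by
    rw [← hcard]
    exact orderOf_dvd_natCard x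
  obtain ⟨a, ha, hxa⟩ := (Nat.dvd_prime_pow (Fact.out : p.Prime)).mp hd
  have ha2 : a = 2 := by
    by_contra hne2
    apply hx
    have ha1 : a ≤ 1 := by omega
    have : orderOf x ∣ p := by
      rw [hxa]
      calc p ^ a ∣ p ^ 1 := Nat.pow_dvd_pow p ha1
        _ = p := pow_one p
    exact orderOf_dvd_iff_pow_eq_one.mp this
  rw [hxa, ha2]

theorem nonempty_mulEquiv_zmod_of_isCyclic {G : Type*} [Group G] (n : ℕ) (hG : IsCyclic G)
    (hcard : Nat.card G = n) : Nonempty (G ≃* Multiplicative (ZMod n)) := by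
  have hc : Nat.card G = Nat.card (Multiplicative (ZMod n)) := by
    rw [Nat.card_congr Multiplicative.toAdd, Nat.card_zmod, hcard]
  exact ⟨mulEquivOfCyclicCardEq hc⟩

/-- An abelian group of order `p ^ 4` whose `p`-th powers form a subgroup of order `p` is
`C_{p^2} × C_p × C_p`. -/
theorem abel_type_211 {H : Type u} [CommGroup H] [Finite H] (p : ℕ) [hpf : Fact p.Prime]
    (hcard : Nat.card H = p ^ 4)
    (hr : Nat.card (powMonoidHom p : H →* H).range = p) :
    Nonempty (H ≃* Multiplicative (ZMod (p ^ 2) × ZMod p × ZMod p)) := by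
  have hp : p.Prime := hpf.out
  have hp2 : 2 ≤ p := hp.two_le
  have hp0 : 0 < p := hp.pos
  have hH : IsPGroup p H := IsPGroup.of_card hcard
  have hk := card_ker_mul_card_range_pow (G := H) p
  rw [hr, hcard] at hk
  have hker : Nat.card (powMonoidHom p : H →* H).ker = p ^ 3 := by
    have : Nat.card (powMonoidHom p : H →* H).ker * p = p ^ 3 * p := by rw [hk]; ring
    exact Nat.eq_of_mul_eq_mul_right hp0 this
  have hlt : Nat.card (powMonoidHom p : H →* H).range < Nat.card (powMonoidHom p : H →* H).ker := by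
    rw [hr, hker]
    calc p = p ^ 1 := (pow_one p).symm
      _ < p ^ 3 := Nat.pow_lt_pow_right hp2 (by norm_num)
  obtain ⟨E₁, hc₁, ⟨f₁⟩⟩ := abel_peel p hH hlt
  have hE₁card : Nat.card E₁ = p ^ 3 := by
    rw [hcard] at hc₁
    have : p * Nat.card E₁ = p * p ^ 3 := by rw [← hc₁]; ring
    exact Nat.eq_of_mul_eq_mul_left hp0 this
  have hE₁p : IsPGroup p E₁ := IsPGroup.of_card hE₁card
  -- the `p`-th powers of `E₁`
  have hr₁le : Nat.card (powMonoidHom p : E₁ →* E₁).range ≤ p := by
    let ι : (powMonoidHom p : E₁ →* E₁).range → (powMonoidHom p : H →* H).range :=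
      fun y => ⟨((y : E₁) : H), by
        obtain ⟨x, hx⟩ := y.2
        refine ⟨(x : H), ?_⟩
        rw [← hx]
        rfl⟩
    have hι : Function.Injective ι := by
      intro a b hab
      apply Subtype.ext
      apply Subtype.ext
      have h1 := congrArg Subtype.val hab
      exact h1
    have h2 := Nat.card_le_card_of_injective ι hι
    rwa [hr] at h2
  have hr₁ne : Nat.card (powMonoidHom p : E₁ →* E₁).range ≠ 1 := by
    intro h1
    have hbot : (powMonoidHom p : E₁ →* E₁).range = ⊥ := Subgroup.card_eq_one.mp h1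
    have hE₁exp : ∀ e : E₁, e ^ p = 1 := by
      intro e
      have : (powMonoidHom p : E₁ →* E₁) e ∈ (powMonoidHom p : E₁ →* E₁).range := ⟨e, rfl⟩
      rw [hbot, Subgroup.mem_bot] at this
      simpa using this
    have hHexp : ∀ g : H, g ^ p = 1 := pow_eq_one_of_prod_iso p f₁ hE₁exp
    have hbotH : (powMonoidHom p : H →* H).range = ⊥ := by
      rw [eq_bot_iff]
      rintro _ ⟨x, rfl⟩
      rw [Subgroup.mem_bot]
      simpa using hHexp x
    rw [hbotH, Subgroup.card_bot] at hr
    omega
  have hr₁ : Nat.card (powMonoidHom p : E₁ →* E₁).range = p := by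
    obtain ⟨a, -, ha⟩ := card_subgroup_pow p hE₁card (powMonoidHom p : E₁ →* E₁).range
    rw [ha] at hr₁le hr₁ne ⊢
    rcases Nat.lt_or_ge a 2 with h | h
    · interval_cases a
      · exact absurd (pow_zero p) hr₁ne
      · exact pow_one p
    · exfalso
      have : p ^ 2 ≤ p ^ a := Nat.pow_le_pow_right hp0 h
      nlinarith
  have hk₁ := card_ker_mul_card_range_pow (G := E₁) p
  rw [hr₁, hE₁card] at hk₁
  have hker₁ : Nat.card (powMonoidHom p : E₁ →* E₁).ker = p ^ 2 := by
    have : Nat.card (powMonoidHom p : E₁ →* E₁).ker * p = p ^ 2 * p := by rw [hk₁]; ring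
    exact Nat.eq_of_mul_eq_mul_right hp0 this
  have hlt₁ : Nat.card (powMonoidHom p : E₁ →* E₁).range <
      Nat.card (powMonoidHom p : E₁ →* E₁).ker := by
    rw [hr₁, hker₁]
    calc p = p ^ 1 := (pow_one p).symm
      _ < p ^ 2 := Nat.pow_lt_pow_right hp2 (by norm_num)
  obtain ⟨E₂, hc₂, ⟨f₂⟩⟩ := abel_peel p hE₁p hlt₁
  have hE₂card : Nat.card E₂ = p ^ 2 := by
    rw [hE₁card] at hc₂
    have : p * Nat.card E₂ = p * p ^ 2 := by rw [← hc₂]; ring
    exact Nat.eq_of_mul_eq_mul_left hp0 this
  have hE₂ne : ¬ ∀ g : E₂, g ^ p = 1 := by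
    intro hexp
    have hE₁exp : ∀ e : E₁, e ^ p = 1 := pow_eq_one_of_prod_iso p f₂ hexp
    apply hr₁ne
    have hbot : (powMonoidHom p : E₁ →* E₁).range = ⊥ := by
      rw [eq_bot_iff]
      rintro _ ⟨x, rfl⟩
      rw [Subgroup.mem_bot]
      simpa using hE₁exp x
    rw [hbot, Subgroup.card_bot]
  have hE₂cyc : IsCyclic E₂ := isCyclic_of_card_sq p hE₂card hE₂ne
  obtain ⟨g₂⟩ := nonempty_mulEquiv_zmod_of_isCyclic (p ^ 2) hE₂cyc hE₂card
  -- assemble
  let e1 : H ≃* (E₂ × Multiplicative (ZMod p)) × Multiplicative (ZMod p) :=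
    f₁.trans (MulEquiv.prodCongr f₂ (MulEquiv.refl _))
  let e2 : (E₂ × Multiplicative (ZMod p)) × Multiplicative (ZMod p) ≃*
      Multiplicative (ZMod (p ^ 2)) × (Multiplicative (ZMod p) × Multiplicative (ZMod p)) :=
    (MulEquiv.prodAssoc).trans (MulEquiv.prodCongr g₂ (MulEquiv.refl _))
  let e3 : Multiplicative (ZMod (p ^ 2)) × (Multiplicative (ZMod p) × Multiplicative (ZMod p)) ≃*
      Multiplicative (ZMod (p ^ 2) × ZMod p × ZMod p) :=
    (MulEquiv.prodCongr (MulEquiv.refl _) (MulEquiv.prodMultiplicative _ _).symm).trans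
      (MulEquiv.prodMultiplicative _ _).symm
  exact ⟨(e1.trans e2).trans e3⟩

/-- The abelian groups of order `p ^ 4` satisfying the automizer condition of essential
subgroups. -/
theorem abelian_cases {H : Type u} [Group H] [Finite H] (p : ℕ) [hpf : Fact p.Prime]
    (hcard : Nat.card H = p ^ 4) (hab : ∀ a b : H, a * b = b * a)
    (A : Subgroup (MulAut H)) (hess : EssHyp p A) :
    (∀ a : H, a ^ p = 1) ∨
      Nonempty (H ≃* Multiplicative (ZMod (p ^ 2) × ZMod p × ZMod p)) ∨
      ((p = 2 ∨ p = 3) ∧ Nonempty (H ≃* Multiplicative (ZMod (p ^ 2) × ZMod (p ^ 2)))) := by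
  have hp : p.Prime := hpf.out
  have hp2 : 2 ≤ p := hp.two_le
  have hp0 : 0 < p := hp.pos
  have hH : IsPGroup p H := IsPGroup.of_card hcard
  letI : CommGroup H := { ‹Group H› with mul_comm := hab }
  obtain ⟨r, hr4, hr⟩ := card_subgroup_pow p hcard (powMonoidHom p : H →* H).range
  rcases Nat.lt_or_ge r 2 with h | h
  · interval_cases r
    · left
      intro a
      rw [pow_zero] at hr
      have hbot : (powMonoidHom p : H →* H).range = ⊥ := Subgroup.card_eq_one.mp hr
      have : (powMonoidHom p : H →* H) a ∈ (powMonoidHom p : H →* H).range := ⟨a, rfl⟩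
      rw [hbot, Subgroup.mem_bot] at this
      simpa using this
    · right; left
      rw [pow_one] at hr
      exact abel_type_211 p hcard hr
  · right; right
    have hΦ : frattini H = (powMonoidHom p : H →* H).range :=
      Cfsg.Agent.S5187.frattini_eq_range p hH
    have hidx : (frattini H).index ≤ p ^ 2 := by
      have h1 : Nat.card (frattini H) * (frattini H).index = Nat.card H :=
        Subgroup.card_mul_index _
      rw [hΦ, hr, hcard] at h1
      rw [hΦ]
      have h2 : p ^ 2 ≤ p ^ r := Nat.pow_le_pow_right hp0 h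
      have h3 : 0 < p ^ 2 := pow_pos hp0 2
      by_contra hcon
      push Not at hcon
      have : p ^ 2 * p ^ 2 < p ^ r * (powMonoidHom p : H →* H).range.index := by
        calc p ^ 2 * p ^ 2 < p ^ 2 * (powMonoidHom p : H →* H).range.index :=
              Nat.mul_lt_mul_of_pos_left hcon h3
          _ ≤ p ^ r * (powMonoidHom p : H →* H).range.index := Nat.mul_le_mul_right _ h2
      rw [h1] at this
      have h4 : p ^ 2 * p ^ 2 = p ^ 4 := by ring
      omega
    rcases Cfsg.Agent.S5187.main p hH hab hidx A hess with ⟨-, hc2⟩ | ⟨hp3, k, ⟨f⟩⟩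
    · exfalso
      rw [hcard] at hc2
      have := Nat.pow_right_injective hp2 hc2
      omega
    · have hk : k = 2 := by
        have hc : Nat.card H = p ^ k * p ^ k := by
          rw [Nat.card_congr f.toEquiv, Nat.card_congr Multiplicative.toAdd, Nat.card_prod,
            Nat.card_zmod]
        rw [hcard, ← pow_add] at hc
        have := Nat.pow_right_injective hp2 hc
        omega
      subst hk
      refine ⟨?_, ⟨f⟩⟩
      have : p = 2 ∨ p = 3 := by
        interval_cases p
        · left; rfl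
        · right; rfl
      exact this

end Cfsg.Agent.Lib.Helper84.P4
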