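import Mathlib
import Cfsg.Agent.Lib.Helper84.EssChain

set_option autoImplicit false

/-!
Short characteristic chains into the Frattini subgroup.
-/

namespace Cfsg.Agent.Lib.Helper84.P4

open Cfsg.Agent.Lib

universe u

variable {H : Type u} [Group H]

/-- a characteristic chain from `⊤` into the Frattini subgroup with factors of order `p` -/
def HasChainΦ (p : ℕ) (H : Type u) [Group H] : Prop :=
  ∃ (k : ℕ) (C : ℕ → Subgroup H), C 0 = ⊤ ∧ C k ≤ frattini H ∧ (∀ i < k, C (i + 1) ≤ C i) ∧
    (∀ i, ∀ σ : MulAut H, ∀ x ∈ C i, σ x ∈ C i) ∧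
    (∀ i < k, Nat.card (C i) = p * Nat.card (C (i + 1)))

theorem frattini_invariant (σ : MulAut H) (x : H) (hx : x ∈ frattini H) : σ x ∈ frattini H := by
  have h := Subgroup.characteristic_iff_le_comap.mp (frattini_characteristic (G := H)) σ
  exact h hx

theorem hasChain_two (p : ℕ) (M : Subgroup H) (hM : ∀ σ : MulAut H, ∀ x ∈ M, σ x ∈ M)
    (hΦM : frattini H ≤ M) (h1 : Nat.card H = p * Nat.card M)
    (h2 : Nat.card M = p * Nat.card (frattini H)) : HasChainΦ p H := by
  let C : ℕ → Subgroup H := fun i => match i with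
    | 0 => ⊤
    | 1 => M
    | _ => frattini H
  have hC0 : C 0 = ⊤ := rfl
  have hC1 : C 1 = M := rfl
  have hC2 : C 2 = frattini H := rfl
  refine ⟨2, C, hC0, hC2.le, ?_, ?_, ?_⟩
  · intro i hi
    interval_cases i
    · rw [hC0]; exact le_top
    · rw [hC1, hC2]; exact hΦM
  · intro i σ x hx
    rcases i with _ | _ | i
    · rw [hC0]; exact Subgroup.mem_top _
    · rw [hC1] at hx ⊢; exact hM σ x hx
    · have h : C (i + 2) = frattini H := rfl
      rw [h] at hx ⊢
      exact frattini_invariant σ x hx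
  · intro i hi
    interval_cases i
    · rw [hC0, hC1, Subgroup.card_top]; exact h1
    · rw [hC1, hC2]; exact h2

theorem hasChain_three (p : ℕ) (M Z : Subgroup H) (hM : ∀ σ : MulAut H, ∀ x ∈ M, σ x ∈ M)
    (hZ : ∀ σ : MulAut H, ∀ x ∈ Z, σ x ∈ Z)
    (hΦZ : frattini H ≤ Z) (hZM : Z ≤ M) (h1 : Nat.card H = p * Nat.card M)
    (h2 : Nat.card M = p * Nat.card Z) (h3 : Nat.card Z = p * Nat.card (frattini H)) :
    HasChainΦ p H := by
  let C : ℕ → Subgroup H := fun i => match i with
    | 0 => ⊤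
    | 1 => M
    | 2 => Z
    | _ => frattini H
  have hC0 : C 0 = ⊤ := rfl
  have hC1 : C 1 = M := rfl
  have hC2 : C 2 = Z := rfl
  have hC3 : C 3 = frattini H := rfl
  refine ⟨3, C, hC0, hC3.le, ?_, ?_, ?_⟩
  · intro i hi
    interval_cases i
    · rw [hC0]; exact le_top
    · rw [hC1, hC2]; exact hZM
    · rw [hC2, hC3]; exact hΦZ
  · intro i σ x hx
    rcases i with _ | _ | _ | i
    · rw [hC0]; exact Subgroup.mem_top _
    · rw [hC1] at hx ⊢; exact hM σ x hx
    · rw [hC2] at hx ⊢; exact hZ σ x hx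
    · have h : C (i + 3) = frattini H := rfl
      rw [h] at hx ⊢
      exact frattini_invariant σ x hx
  · intro i hi
    interval_cases i
    · rw [hC0, hC1, Subgroup.card_top]; exact h1
    · rw [hC1, hC2]; exact h2
    · rw [hC2, hC3]; exact h3

/-- a group with such a chain does not satisfy the automizer condition of essential subgroups -/
theorem false_of_hasChain [Finite H] (p : ℕ) [Fact p.Prime] (hH : IsPGroup p H)
    (A : Subgroup (MulAut H)) (hess : EssHyp p A) (h : HasChainΦ p H) : False := by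
  obtain ⟨k, C, h0, hk, hanti, hchar, hidx⟩ := h
  exact false_of_chain_frattini p hH A hess k C h0 hk hanti hchar hidx

end Cfsg.Agent.Lib.Helper84.P4
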