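import Mathlib
import Cfsg.Agent.Lib.Helper84.OrderP4NonAb

set_option autoImplicit false
set_option linter.unusedSectionVars false

/-!
Nonabelian groups of order 16 with Frattini subgroup of order 2 and noncyclic centre, containing
a noncentral involution: there is a characteristic subgroup of order 8 containing the centre.
-/

namespace Cfsg.Agent.Lib.Helper84.P4

open Cfsg.Agent.Lib
open Cfsg.Agent.Lib.Helper29 (cm)

universe u

variable {H : Type u} [Group H] [Finite H]

theorem two_hyperbolic (hcard : Nat.card H = 2 ^ 4)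
    (hle : commutator H ≤ Subgroup.center H) (hD : Nat.card (commutator H) = 2)
    (hZ : Nat.card (Subgroup.center H) = 2 ^ 2)
    (hsq : ∀ x : H, x ^ 2 ∈ commutator H)
    (hZexp : ∀ z ∈ Subgroup.center H, z ^ 2 = 1) (a : H) (haZ : a ∉ Subgroup.center H)
    (ha2 : a ^ 2 = 1) :
    ∃ M : Subgroup H, (∀ σ : MulAut H, ∀ x ∈ M, σ x ∈ M) ∧ Subgroup.center H ≤ M ∧
      Nat.card M = 2 ^ 3 := by
  have hp2 : Fact (Nat.Prime 2) := ⟨Nat.prime_two⟩
  -- commutators
  have hcmD : ∀ x y : H, cm x y ∈ commutator H := Helper29.cm_mem_commutator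
  have hcm_eq : ∀ x y x' y' : H, cm x y ≠ 1 → cm x' y' ≠ 1 → cm x y = cm x' y' := by
    intro x y x' y' h1 h2
    exact eq_of_ne_one_of_card_two hD (hcmD x y) (hcmD x' y') h1 h2
  have hDsq : ∀ u ∈ commutator H, u * u = 1 := by
    intro u hu
    rw [← pow_two]
    exact pow_card_subgroup_eq_one hD hu
  -- a second involution
  obtain ⟨g, hg⟩ : ∃ g : H, a * g ≠ g * a := by
    by_contra hcon
    push Not at hcon
    apply haZ
    rw [Subgroup.mem_center_iff]
    intro g
    exact (hcon g).symm
  have hcga : cm g a ≠ 1 := fun h => hg ((Helper29.cm_eq_one_iff g a).mp h).symm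
  obtain ⟨b, hb2, hab⟩ : ∃ b : H, b ^ 2 = 1 ∧ a * b ≠ b * a := by
    by_cases hg2 : g ^ 2 = 1
    · exact ⟨g, hg2, hg⟩
    · refine ⟨a * g, ?_, ?_⟩
      · rw [Helper29.mul_pow_classTwo hle a g 2, ha2, one_mul]
        have h1 : g ^ 2 = cm g a := eq_of_ne_one_of_card_two hD (hsq g) (hcmD g a) hg2 hcga
        have h2 : Nat.choose 2 2 = 1 := rfl
        rw [h1, h2, pow_one]
        exact hDsq _ (hcmD g a)
      · intro h
        apply hg
        have h3 : a * (a * g) = a * (g * a) := by rw [h, mul_assoc]
        exact mul_left_cancel h3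
  have hcab : cm a b ≠ 1 := fun h => hab ((Helper29.cm_eq_one_iff a b).mp h)
  have hcba : cm b a ≠ 1 := fun h => hab ((Helper29.cm_eq_one_iff b a).mp h).symm
  have hbZ : b ∉ Subgroup.center H := fun h => hab (Subgroup.mem_center_iff.mp h a)
  -- the product
  obtain ⟨t, ht⟩ : ∃ t : H, t = a * b := ⟨_, rfl⟩
  have ht2 : t ^ 2 = cm b a := by
    rw [ht, Helper29.mul_pow_classTwo hle a b 2, ha2, hb2, one_mul, one_mul]
    have h2 : Nat.choose 2 2 = 1 := rfl
    rw [h2, pow_one]
  have ht2ne : t ^ 2 ≠ 1 := by rw [ht2]; exact hcba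
  have htZ : t ∉ Subgroup.center H := fun h => ht2ne (hZexp t h)
  -- centralizers
  have hcA := card_centralizer_classTwo 2 (n := 3) hcard hle hD a haZ
  have hcT := card_centralizer_classTwo 2 (n := 3) hcard hle hD t htZ
  -- the intersection of the centralizers of `a` and `b` is the centre
  have hinter : ∀ x : H, cm x a = 1 → cm x b = 1 → x ∈ Subgroup.center H := by
    intro x hxa hxb
    have hK1 : Subgroup.center H ≤
        Subgroup.centralizer ({a} : Set H) ⊓ Subgroup.centralizer ({b} : Set H) :=
      le_inf (center_le_centralizer_singleton a) (center_le_centralizer_singleton b)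
    have hd1 : 4 ∣ Nat.card ↥(Subgroup.centralizer ({a} : Set H) ⊓
        Subgroup.centralizer ({b} : Set H)) := by
      have := Subgroup.card_dvd_of_le hK1
      rw [hZ] at this
      exact this
    have hd2 : Nat.card ↥(Subgroup.centralizer ({a} : Set H) ⊓
        Subgroup.centralizer ({b} : Set H)) ∣ 8 := by
      have := Subgroup.card_dvd_of_le (inf_le_left :
        Subgroup.centralizer ({a} : Set H) ⊓ Subgroup.centralizer ({b} : Set H) ≤
          Subgroup.centralizer ({a} : Set H))
      rw [hcA] at this
      exact this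
    have hne : Nat.card ↥(Subgroup.centralizer ({a} : Set H) ⊓
        Subgroup.centralizer ({b} : Set H)) ≠ 8 := by
      intro h8
      have heq : Subgroup.centralizer ({a} : Set H) ⊓ Subgroup.centralizer ({b} : Set H) =
          Subgroup.centralizer ({a} : Set H) :=
        Subgroup.eq_of_le_of_card_ge inf_le_left (by rw [h8, hcA]; norm_num)
      have ha_mem : a ∈ Subgroup.centralizer ({a} : Set H) ⊓ Subgroup.centralizer ({b} : Set H) := by
        rw [heq]; exact mem_centralizer_singleton_self a
      have : a ∈ Subgroup.centralizer ({b} : Set H) := (Subgroup.mem_inf.mp ha_mem).2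
      rw [Helper63.mem_centralizer_singleton_iff] at this
      exact hab this.symm
    have h4 : Nat.card ↥(Subgroup.centralizer ({a} : Set H) ⊓
        Subgroup.centralizer ({b} : Set H)) = 4 := by
      obtain ⟨k, hk⟩ := hd1
      have hle8 := Nat.le_of_dvd (by norm_num) hd2
      have hk2 : k ≤ 2 := by omega
      interval_cases k
      · rw [hk] at hd2; simp at hd2
      · rw [hk]
      · exact absurd hk hne
    have heq : Subgroup.center H =
        Subgroup.centralizer ({a} : Set H) ⊓ Subgroup.centralizer ({b} : Set H) :=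
      Subgroup.eq_of_le_of_card_ge hK1 (by rw [h4, hZ]; norm_num)
    rw [heq, Subgroup.mem_inf, Helper63.mem_centralizer_singleton_iff,
      Helper63.mem_centralizer_singleton_iff]
    exact ⟨((Helper29.cm_eq_one_iff x a).mp hxa).symm, ((Helper29.cm_eq_one_iff x b).mp hxb).symm⟩
  -- elements with nontrivial square commute with `t`
  have hST : ∀ x : H, x ^ 2 ≠ 1 → x * t = t * x := by
    intro x hx2
    rw [← Helper29.cm_eq_one_iff, ht,
      Helper29.cm_mul_right x a b (Helper29.cm_comm hle x b)]
    by_cases hxa : cm x a = 1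
    · by_cases hxb : cm x b = 1
      · exact absurd (hZexp x (hinter x hxa hxb)) hx2
      · exfalso
        -- `x * a` is central
        have h1 : cm (x * a) a = 1 := by
          rw [Helper29.cm_mul_left x a a (Helper29.cm_comm hle a a), hxa, Helper29.cm_self, one_mul]
        have h2 : cm (x * a) b = 1 := by
          rw [Helper29.cm_mul_left x a b (Helper29.cm_comm hle a b), hcm_eq x b a b hxb hcab]
          exact hDsq _ (hcmD a b)
        have h3 := hinter (x * a) h1 h2
        have h4 : x * a = a * x := ((Helper29.cm_eq_one_iff x a).mp hxa)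
        apply hx2
        have h5 : (x * a) ^ 2 = x ^ 2 * a ^ 2 := (show Commute x a from h4).mul_pow 2
        rw [hZexp _ h3, ha2, mul_one] at h5
        exact h5.symm
    · by_cases hxb : cm x b = 1
      · exfalso
        have h1 : cm (x * b) a = 1 := by
          rw [Helper29.cm_mul_left x b a (Helper29.cm_comm hle b a), hcm_eq x a b a hxa hcba]
          exact hDsq _ (hcmD b a)
        have h2 : cm (x * b) b = 1 := by
          rw [Helper29.cm_mul_left x b b (Helper29.cm_comm hle b b), hxb, Helper29.cm_self, one_mul]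
        have h3 := hinter (x * b) h1 h2
        have h4 : x * b = b * x := ((Helper29.cm_eq_one_iff x b).mp hxb)
        apply hx2
        have h5 : (x * b) ^ 2 = x ^ 2 * b ^ 2 := (show Commute x b from h4).mul_pow 2
        rw [hZexp _ h3, hb2, mul_one] at h5
        exact h5.symm
      · rw [hcm_eq x a x b hxa hxb]
        exact hDsq _ (hcmD x b)
  -- the subgroup
  refine ⟨Subgroup.closure {x : H | x ^ 2 ≠ 1}, ?_, ?_, ?_⟩
  · intro σ x hx
    have h1 : (Subgroup.closure {x : H | x ^ 2 ≠ 1}).map σ.toMonoidHom ≤
        Subgroup.closure {x : H | x ^ 2 ≠ 1} := by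
      rw [MonoidHom.map_closure]
      apply Subgroup.closure_mono
      rintro _ ⟨y, hy, rfl⟩
      show (σ y) ^ 2 ≠ 1
      rw [← map_pow]
      intro h
      apply hy
      exact σ.injective (by rw [h, map_one])
    exact h1 ⟨x, hx, rfl⟩
  · intro z hz
    have h1 : t ∈ Subgroup.closure {x : H | x ^ 2 ≠ 1} := Subgroup.subset_closure ht2ne
    have h2 : t * z ∈ Subgroup.closure {x : H | x ^ 2 ≠ 1} := by
      apply Subgroup.subset_closure
      show (t * z) ^ 2 ≠ 1
      have hc : Commute t z := Subgroup.mem_center_iff.mp hz t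
      rw [hc.mul_pow, hZexp z hz, mul_one]
      exact ht2ne
    have h3 : z = t⁻¹ * (t * z) := by group
    rw [h3]
    exact mul_mem (inv_mem h1) h2
  · have hMT : Subgroup.closure {x : H | x ^ 2 ≠ 1} ≤ Subgroup.centralizer ({t} : Set H) := by
      rw [Subgroup.closure_le]
      intro x hx
      rw [SetLike.mem_coe, Helper63.mem_centralizer_singleton_iff]
      exact (hST x hx).symm
    have hZM : Subgroup.center H ≤ Subgroup.closure {x : H | x ^ 2 ≠ 1} := by
      intro z hz
      have h1 : t ∈ Subgroup.closure {x : H | x ^ 2 ≠ 1} := Subgroup.subset_closure ht2ne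
      have h2 : t * z ∈ Subgroup.closure {x : H | x ^ 2 ≠ 1} := by
        apply Subgroup.subset_closure
        show (t * z) ^ 2 ≠ 1
        have hc : Commute t z := Subgroup.mem_center_iff.mp hz t
        rw [hc.mul_pow, hZexp z hz, mul_one]
        exact ht2ne
      have h3 : z = t⁻¹ * (t * z) := by group
      rw [h3]
      exact mul_mem (inv_mem h1) h2
    have hd1 : 4 ∣ Nat.card ↥(Subgroup.closure {x : H | x ^ 2 ≠ 1}) := by
      have := Subgroup.card_dvd_of_le hZM
      rw [hZ] at this
      exact this
    have hd2 : Nat.card ↥(Subgroup.closure {x : H | x ^ 2 ≠ 1}) ∣ 8 := by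
      have := Subgroup.card_dvd_of_le hMT
      rw [hcT] at this
      exact this
    have hne : Nat.card ↥(Subgroup.closure {x : H | x ^ 2 ≠ 1}) ≠ 4 := by
      intro h4
      have heq : Subgroup.center H = Subgroup.closure {x : H | x ^ 2 ≠ 1} :=
        Subgroup.eq_of_le_of_card_ge hZM (by rw [h4, hZ]; norm_num)
      apply htZ
      rw [heq]
      exact Subgroup.subset_closure ht2ne
    obtain ⟨k, hk⟩ := hd1
    have hle8 := Nat.le_of_dvd (by norm_num) hd2
    have hk2 : k ≤ 2 := by omega
    interval_cases k
    · rw [hk] at hd2; simp at hd2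
    · exact absurd hk hne
    · rw [hk]; norm_num

end Cfsg.Agent.Lib.Helper84.P4
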