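import Mathlib
import Cfsg.Agent.Lib.Helper84.OrderP4Chain
import Cfsg.Agent.Lib.Helper84.OrderP4Two
import Cfsg.Agent.Lib.Helper29.ExtraTwoIso
import Cfsg.Agent.Lib.Helper86.OrderPCube

set_option autoImplicit false
set_option linter.unusedSectionVars false

/-!
Nonabelian groups of order `p ^ 4` whose Frattini subgroup has order `p`.
-/

namespace Cfsg.Agent.Lib.Helper84.P4

open Cfsg.Agent.Lib
open Cfsg.Agent.Lib.Helper29 (cm)

universe u

variable {H : Type u} [Group H] [Finite H] (p : ℕ) [hpf : Fact p.Prime]

theorem frattini_prime_cases (hcard : Nat.card H = p ^ 4)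
    (hna : ¬ ∀ a b : H, a * b = b * a) (hΦ : Nat.card (frattini H) = p) :
    HasChainΦ p H ∨
    (Odd p ∧ ∃ (E : Type) (_ : Group E) (_ : Finite E), Cfsg.IsExtraspecial p E ∧
      Nat.card E = p ^ 3 ∧ (∀ x : E, x ^ p = 1) ∧ Nonempty (H ≃* E × Multiplicative (ZMod p))) ∨
    (p = 2 ∧ Nonempty (H ≃* QuaternionGroup 2 × Multiplicative (ZMod 2))) ∨
    ((∀ x : H, x ^ (p ^ 2) = 1) ∧ IsCyclic (Subgroup.center H) ∧
      Nat.card (Subgroup.center H) = p ^ 2) := by
  have hp : p.Prime := hpf.out
  have hH : IsPGroup p H := IsPGroup.of_card hcard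
  obtain ⟨hDΦ, hΦZ, hZ⟩ := frattini_prime_structure p hcard hna hΦ
  have hle : commutator H ≤ Subgroup.center H := hDΦ ▸ hΦZ
  have hD : Nat.card (commutator H) = p := by rw [hDΦ]; exact hΦ
  have hpowΦ : ∀ x : H, x ^ p ∈ frattini H := Helper2.pow_mem_frattini hH
  by_cases hcyc : IsCyclic (Subgroup.center H)
  · right; right; right
    refine ⟨?_, hcyc, hZ⟩
    intro x
    rw [pow_two, pow_mul]
    exact pow_card_subgroup_eq_one hΦ (hpowΦ x)
  -- the centre has exponent `p`
  have hZexp : ∀ z ∈ Subgroup.center H, z ^ p = 1 := by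
    intro z hz
    by_contra hzp
    apply hcyc
    have h1 : orderOf (⟨z, hz⟩ : Subgroup.center H) ∣ p ^ 2 := by
      rw [← hZ]; exact orderOf_dvd_natCard _
    obtain ⟨k, hk, hko⟩ := (Nat.dvd_prime_pow hp).mp h1
    have hzp' : (⟨z, hz⟩ : Subgroup.center H) ^ p ≠ 1 := fun h => hzp (congrArg Subtype.val h)
    have hk2 : k = 2 := by
      interval_cases k
      · exfalso; apply hzp'
        rw [pow_zero] at hko
        rw [orderOf_eq_one_iff.mp hko, one_pow]
      · exfalso; apply hzp'
        rw [pow_one] at hko
        rw [← hko]; exact pow_orderOf_eq_one _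
      · rfl
    exact isCyclic_of_orderOf_eq_card ⟨z, hz⟩ (by rw [hko, hk2, hZ])
  -- a central element outside the Frattini subgroup
  obtain ⟨z, hzZ, hzΦ⟩ : ∃ z ∈ Subgroup.center H, z ∉ frattini H := by
    by_contra hcon
    push Not at hcon
    have h1 : Subgroup.center H ≤ frattini H := hcon
    have h2 := Nat.le_of_dvd Nat.card_pos (Subgroup.card_dvd_of_le h1)
    rw [hZ, hΦ] at h2
    have := hp.one_lt
    nlinarith
  obtain ⟨E, hEn, hcE, hzE, ⟨e⟩⟩ := exists_prod_decomp hH z hzZ (hZexp z hzZ) hzΦ
  have hcE3 : Nat.card E = p ^ 3 := by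
    rw [hcard, pow_succ'] at hcE
    exact (Nat.eq_of_mul_eq_mul_left hp.pos hcE).symm
  have hEna : ¬ ∀ a b : E, a * b = b * a := by
    intro hE
    apply hna
    intro a b
    apply e.injective
    rw [map_mul, map_mul]
    apply Prod.ext
    · simp only [Prod.fst_mul]; exact hE _ _
    · simp only [Prod.snd_mul]; exact mul_comm _ _
  rcases hp.eq_two_or_odd' with h2 | hodd
  · -- `p = 2`
    subst h2
    by_cases hinv : ∃ a : H, a ∉ Subgroup.center H ∧ a ^ 2 = 1
    · left
      obtain ⟨a, haZ, ha2⟩ := hinv
      have hsq : ∀ x : H, x ^ 2 ∈ commutator H := by rw [hDΦ]; exact hpowΦ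
      obtain ⟨M, hMchar, hZM, hcM⟩ := two_hyperbolic hcard hle hD hZ hsq hZexp a haZ ha2
      exact hasChain_three 2 M (Subgroup.center H) hMchar
        (fun σ x hx => Helper86.center_invariant σ x hx) hΦZ hZM
        (by rw [hcard, hcM]; norm_num) (by rw [hcM, hZ]; norm_num) (by rw [hZ, hΦ]; norm_num)
    · right; right; left
      refine ⟨rfl, ?_⟩
      obtain ⟨hcZE, hDE, -⟩ := Helper86.nonabelian_basic 2 hcE3 hEna
      obtain ⟨w, hw⟩ := Helper29.IsE2.exists_of_card hcZE hDE.le
      have hNI : ∀ t : E, t * t = 1 → t ∈ Subgroup.center E := by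
        intro t ht
        have h1 : (t : H) ^ 2 = 1 := by
          rw [pow_two]
          exact congrArg Subtype.val ht
        have htZ : (t : H) ∈ Subgroup.center H := by
          by_contra h
          exact hinv ⟨t, h, h1⟩
        rw [Subgroup.mem_center_iff]
        intro g
        apply Subtype.ext
        exact Subgroup.mem_center_iff.mp htZ g
      have hEna' : ∃ x y : E, x * y ≠ y * x := by
        push Not at hEna
        exact hEna
      obtain ⟨-, ⟨eQ⟩, -⟩ := hw.quaternion_of_no_involution hEna' hNI
      exact ⟨e.trans (MulEquiv.prodCongr eQ (MulEquiv.refl _))⟩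
  · -- `p` odd
    have hp2 : p ≠ 2 := by
      rintro rfl
      exact absurd hodd (by decide)
    have hcmp : ∀ a b : H, (cm b a) ^ p = 1 := fun a b =>
      pow_card_subgroup_eq_one hD (Helper29.cm_mem_commutator b a)
    by_cases hexp : ∀ x : H, x ^ p = 1
    · right; left
      refine ⟨hodd, ?_⟩
      let s : Shrink.{0} E ≃* E := Shrink.mulEquiv
      have hfinS : Finite (Shrink.{0} E) := Finite.of_equiv _ s.symm.toEquiv
      refine ⟨Shrink.{0} E, inferInstance, hfinS, ?_, ?_, ?_, ?_⟩
      · have hc : Nat.card (Shrink.{0} E) = p ^ 3 := by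
          rw [Nat.card_congr s.toEquiv, hcE3]
        have hnaS : ¬ ∀ a b : Shrink.{0} E, a * b = b * a := by
          intro h
          apply hEna
          intro a b
          have := h (s.symm a) (s.symm b)
          rw [← map_mul, ← map_mul] at this
          exact s.symm.injective this
        have hexpS : ∀ x : Shrink.{0} E, x ^ p = 1 := by
          intro x
          apply s.injective
          rw [map_pow, map_one]
          apply Subtype.ext
          exact hexp ((s x : E) : H)
        exact Helper86.extraspecial_of_exponent p hc hnaS hexpS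
      · rw [Nat.card_congr s.toEquiv, hcE3]
      · intro x
        apply s.injective
        rw [map_pow, map_one]
        apply Subtype.ext
        exact hexp ((s x : E) : H)
      · exact ⟨e.trans (MulEquiv.prodCongr s.symm (MulEquiv.refl _))⟩
    · left
      let P : H →* H := MonoidHom.mk' (fun x => x ^ p)
        (fun a b => Helper29.mul_pow_prime_classTwo hle hp hp2 a b (hcmp a b))
      have hP : ∀ x, P x = x ^ p := fun x => rfl
      have hker_char : ∀ σ : MulAut H, ∀ x ∈ P.ker, σ x ∈ P.ker := by
        intro σ x hx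
        rw [MonoidHom.mem_ker, hP] at hx ⊢
        rw [← map_pow, hx, map_one]
      have hZker : Subgroup.center H ≤ P.ker := by
        intro z hz
        rw [MonoidHom.mem_ker, hP]
        exact hZexp z hz
      have hrange : P.range ≤ frattini H := by
        rintro _ ⟨x, rfl⟩
        exact hpowΦ x
      have hcr : Nat.card P.range = p := by
        have h1 : Nat.card P.range ∣ p := by
          rw [← hΦ]; exact Subgroup.card_dvd_of_le hrange
        rcases (Nat.dvd_prime hp).mp h1 with h | h
        · exfalso
          apply hexp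
          intro x
          have h3 : P x ∈ P.range := ⟨x, rfl⟩
          rw [Subgroup.eq_bot_of_card_eq _ h, Subgroup.mem_bot, hP] at h3
          exact h3
        · exact h
      have hck : Nat.card P.ker = p ^ 3 := by
        have h1 := Subgroup.card_mul_index P.ker
        rw [Subgroup.index_ker, hcr, hcard, pow_succ] at h1
        exact Nat.eq_of_mul_eq_mul_right hp.pos h1
      exact hasChain_three p P.ker (Subgroup.center H) hker_char
        (fun σ x hx => Helper86.center_invariant σ x hx) hΦZ hZker
        (by rw [hcard, hck]; ring) (by rw [hck, hZ]; ring) (by rw [hZ, hΦ]; ring)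

end Cfsg.Agent.Lib.Helper84.P4
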