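import Mathlib
import Cfsg.Agent.Lib.Helper84.OrderP4Chain
import Cfsg.Agent.Lib.Helper84.OrderP4NonAb
import Cfsg.Agent.Lib.Helper17.Counting
import Cfsg.Agent.Lib.Helper86.OrderPCube

set_option autoImplicit false
set_option linter.unusedSectionVars false

/-!
Nonabelian groups of order `p ^ 4` whose Frattini subgroup has order `p ^ 2` have a characteristic
maximal subgroup.
-/

namespace Cfsg.Agent.Lib.Helper84.P4

open Cfsg.Agent.Lib
open scoped commutatorElement

universe u

variable {H : Type u} [Group H] [Finite H] (p : ℕ) [hpf : Fact p.Prime]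

theorem commutator_invariant (σ : MulAut H) (x : H) (hx : x ∈ commutator H) :
    σ x ∈ commutator H := by
  have hc : (commutator H).Characteristic := by
    unfold commutator
    infer_instance
  exact Subgroup.characteristic_iff_le_comap.mp hc σ hx

theorem card_center_cases (hcard : Nat.card H = p ^ 4) (hna : ¬ ∀ a b : H, a * b = b * a) :
    Nat.card (Subgroup.center H) = p ∨ Nat.card (Subgroup.center H) = p ^ 2 := by
  have hp : p.Prime := hpf.out
  have hH : IsPGroup p H := IsPGroup.of_card hcard
  have hnt : Nontrivial H := by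
    rw [← Finite.one_lt_card_iff_nontrivial, hcard]
    exact Nat.one_lt_pow (by norm_num) hp.one_lt
  obtain ⟨b, hb, hcb⟩ := card_subgroup_pow p hcard (Subgroup.center H)
  have hb4 : b ≠ 4 := by
    intro h
    rw [h, ← hcard] at hcb
    apply hna
    intro x y
    have hx : x ∈ Subgroup.center H := by rw [Subgroup.eq_top_of_card_eq _ hcb]; trivial
    exact (Subgroup.mem_center_iff.mp hx y).symm
  have hb3 : b ≠ 3 := by
    intro h
    rw [h] at hcb
    apply hna
    have hidx : (Subgroup.center H).index = p := by
      have h1 := Subgroup.card_mul_index (Subgroup.center H)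
      rw [hcb, hcard] at h1
      have h2 : p ^ 3 * (Subgroup.center H).index = p ^ 3 * p := by rw [h1]; ring
      exact Nat.eq_of_mul_eq_mul_left (pow_pos hp.pos 3) h2
    have hcyc : IsCyclic (H ⧸ Subgroup.center H) := isCyclic_of_prime_card (p := p) hidx
    have := (QuotientGroup.mk' (Subgroup.center H)).isMulCommutative_of_isCyclic_of_ker_le_center
      (by rw [QuotientGroup.ker_mk'])
    exact fun x y => this.is_comm.comm x y
  have hb0 : b ≠ 0 := by
    intro h
    rw [h, pow_zero] at hcb
    have h1 := hH.bot_lt_center
    rw [Subgroup.eq_bot_of_card_eq _ hcb] at h1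
    exact lt_irrefl _ h1
  have : b = 1 ∨ b = 2 := by omega
  rcases this with h | h
  · left; rw [hcb, h, pow_one]
  · right; rw [hcb, h]

/-- case `|H'| = p` -/
theorem frattini_sq_chain_a (hcard : Nat.card H = p ^ 4)
    (hΦ : Nat.card (frattini H) = p ^ 2) (hD : Nat.card (commutator H) = p) :
    HasChainΦ p H := by
  have hp : p.Prime := hpf.out
  have hH : IsPGroup p H := IsPGroup.of_card hcard
  have hDΦ : commutator H ≤ frattini H := Helper2.commutator_le_frattini hH
  have hof : ∀ x : H, Abelianization.of x = 1 ↔ x ∈ commutator H := by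
    intro x
    rw [← MonoidHom.mem_ker, Abelianization.ker_of]
  have hofsurj : Function.Surjective (Abelianization.of (G := H)) := QuotientGroup.mk_surjective
  obtain ⟨ψ, hψ⟩ : ∃ ψ : H →* Abelianization H,
      ψ = (powMonoidHom p).comp Abelianization.of := ⟨_, rfl⟩
  have hψa : ∀ x : H, ψ x = Abelianization.of (x ^ p) := by
    intro x
    rw [hψ, MonoidHom.comp_apply, powMonoidHom_apply, map_pow]
  -- the range of `ψ`
  have hR : ψ.range = (frattini H).map Abelianization.of := by
    apply le_antisymm
    · rintro _ ⟨x, rfl⟩
      rw [hψa]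
      exact ⟨x ^ p, Helper2.pow_mem_frattini hH x, rfl⟩
    · have h1 : frattini H ≤ ψ.range.comap Abelianization.of := by
        apply Helper47.frattini_le_of_elementary_abelian_quotient p
        · intro x y
          rw [Subgroup.mem_comap]
          have : Abelianization.of ⁅x, y⁆ = 1 :=
            (hof _).mpr (Subgroup.commutator_mem_commutator (Subgroup.mem_top x)
              (Subgroup.mem_top y))
          rw [this]
          exact Subgroup.one_mem _
        · intro x
          rw [Subgroup.mem_comap, ← hψa]
          exact ⟨x, rfl⟩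
      exact (Subgroup.map_mono h1).trans (Subgroup.map_comap_le _ _)
  have hcA : Nat.card (Abelianization H) = p ^ 3 := by
    have h1 := Subgroup.card_mul_index (commutator H)
    rw [hD, hcard, pow_succ'] at h1
    have h2 : (commutator H).index = p ^ 3 := Nat.eq_of_mul_eq_mul_left hp.pos h1
    exact h2
  have hΦidx : (frattini H).index = p ^ 2 := by
    have h1 := Subgroup.card_mul_index (frattini H)
    rw [hΦ, hcard] at h1
    have h2 : p ^ 2 * (frattini H).index = p ^ 2 * p ^ 2 := by rw [h1]; ring
    exact Nat.eq_of_mul_eq_mul_left (pow_pos hp.pos 2) h2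
  have hcR : Nat.card ψ.range = p := by
    have h1 : ((frattini H).map Abelianization.of).index = p ^ 2 := by
      rw [Subgroup.index_map, Abelianization.ker_of, sup_eq_left.mpr hDΦ,
        MonoidHom.range_eq_top.mpr hofsurj, Subgroup.index_top, mul_one, hΦidx]
    have h2 := Subgroup.card_mul_index ((frattini H).map (Abelianization.of (G := H)))
    rw [h1, hcA] at h2
    have h3 : Nat.card ((frattini H).map (Abelianization.of (G := H))) * p ^ 2 = p * p ^ 2 := by
      rw [h2]; ring
    rw [hR]
    exact Nat.eq_of_mul_eq_mul_right (pow_pos hp.pos 2) h3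
  have hcK : Nat.card ψ.ker = p ^ 3 := by
    have h1 := Subgroup.card_mul_index ψ.ker
    rw [Subgroup.index_ker, hcR, hcard, pow_succ] at h1
    exact Nat.eq_of_mul_eq_mul_right hp.pos h1
  have hΦK : frattini H ≤ ψ.ker := by
    intro x hx
    rw [MonoidHom.mem_ker, hψ, MonoidHom.comp_apply, powMonoidHom_apply]
    have h1 : Abelianization.of x ∈ ψ.range := by
      rw [hR]; exact ⟨x, hx, rfl⟩
    exact pow_card_subgroup_eq_one hcR h1
  have hKchar : ∀ σ : MulAut H, ∀ x ∈ ψ.ker, σ x ∈ ψ.ker := by
    intro σ x hx
    rw [MonoidHom.mem_ker, hψa, hof] at hx ⊢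
    rw [← map_pow]
    exact commutator_invariant σ _ hx
  exact hasChain_two p ψ.ker hKchar hΦK (by rw [hcard, hcK]; ring) (by rw [hcK, hΦ]; ring)

/-- case `|H'| = p ^ 2` -/
theorem frattini_sq_chain_b (hcard : Nat.card H = p ^ 4) (hna : ¬ ∀ a b : H, a * b = b * a)
    (hΦ : Nat.card (frattini H) = p ^ 2) (hD : Nat.card (commutator H) = p ^ 2) :
    HasChainΦ p H := by
  have hp : p.Prime := hpf.out
  have hH : IsPGroup p H := IsPGroup.of_card hcard
  have hDΦ : commutator H ≤ frattini H := Helper2.commutator_le_frattini hH
  have hDeq : commutator H = frattini H :=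
    Subgroup.eq_of_le_of_card_ge hDΦ (by rw [hD, hΦ])
  have hna' : ¬ IsMulCommutative H := fun h => hna (fun a b => h.is_comm.comm a b)
  have hDne : commutator H ≠ ⊥ := commutator_ne_bot hna
  -- the commutator subgroup is not central
  have hDZ : ¬ commutator H ≤ Subgroup.center H := by
    intro hle
    have hcZ : Nat.card (Subgroup.center H) = p ^ 2 := by
      rcases card_center_cases p hcard hna with h | h
      · exfalso
        have h1 := Nat.le_of_dvd Nat.card_pos (Subgroup.card_dvd_of_le hle)
        rw [hD, h] at h1
        have := hp.one_lt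
        nlinarith
      · exact h
    obtain ⟨a, ha⟩ : ∃ a : H, a ∉ Subgroup.center H := by
      by_contra hcon
      push Not at hcon
      apply hna
      intro x y
      exact (Subgroup.mem_center_iff.mp (hcon x) y).symm
    obtain ⟨K, hK⟩ : ∃ K : Subgroup H, K = Subgroup.center H ⊔ Subgroup.zpowers a := ⟨_, rfl⟩
    have hKab : IsMulCommutative K := by
      rw [hK]; exact Helper63.isMulCommutative_center_sup_zpowers a
    have hZK : Subgroup.center H ≤ K := by rw [hK]; exact le_sup_left
    have haK : a ∈ K := by rw [hK]; exact Subgroup.mem_sup_right (Subgroup.mem_zpowers a)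
    have hKtop : K ≠ ⊤ := by
      intro h
      apply hna
      intro x y
      have hx : x ∈ K := by rw [h]; trivial
      have hy : y ∈ K := by rw [h]; trivial
      exact Helper63.comm_of_isMulCommutative hKab hx hy
    obtain ⟨c, hc, hcK⟩ := card_subgroup_pow p hcard K
    have hc4 : c ≠ 4 := by
      intro h
      rw [h, ← hcard] at hcK
      exact hKtop (Subgroup.eq_top_of_card_eq _ hcK)
    have hc2 : 2 < c := by
      have h1 := Subgroup.card_dvd_of_le hZK
      rw [hcZ, hcK] at h1
      have h2 : 2 ≤ c := (Nat.pow_dvd_pow_iff_le_right hp.one_lt).mp h1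
      rcases Nat.lt_or_ge 2 c with h | h
      · exact h
      · exfalso
        have h3 : c = 2 := by omega
        rw [h3] at hcK
        have h4 : Subgroup.center H = K :=
          Subgroup.eq_of_le_of_card_ge hZK (by rw [hcK, hcZ])
        exact ha (h4 ▸ haK)
    have hc3 : c = 3 := by omega
    rw [hc3] at hcK
    have hKi : K.index = p := by
      have h1 := Subgroup.card_mul_index K
      rw [hcK, hcard] at h1
      have h2 : p ^ 3 * K.index = p ^ 3 * p := by rw [h1]; ring
      exact Nat.eq_of_mul_eq_mul_left (pow_pos hp.pos 3) h2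
    have hKn : K.Normal := by
      constructor
      intro n hn g
      have h1 : g * n * g⁻¹ = ⁅g, n⁆ * n := by
        rw [commutatorElement_def]; group
      rw [h1]
      exact K.mul_mem (hZK (hle (Subgroup.commutator_mem_commutator (Subgroup.mem_top g)
        (Subgroup.mem_top n)))) hn
    obtain ⟨x, hx⟩ : ∃ x : H, x ∉ K := by
      by_contra hcon
      push Not at hcon
      exact hKtop (eq_top_iff.mpr fun x _ => hcon x)
    have h1 := Helper63.card_eq_card_center_mul_card_commutator hp hna' K hKab hKi x hx
    rw [hcK, hcZ, hD] at h1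
    have h2 : p ^ 3 = p ^ (2 + 2) := by rw [h1, pow_add]
    have := Nat.pow_right_injective hp.two_le h2
    omega
  -- a noncentral element of the commutator subgroup
  obtain ⟨y, hyD, hyZ⟩ : ∃ y ∈ commutator H, y ∉ Subgroup.center H := by
    by_contra hcon
    push Not at hcon
    exact hDZ hcon
  have hDab : ∀ u ∈ commutator H, ∀ v ∈ commutator H, u * v = v * u := by
    intro u hu v hv
    have := (IsPGroup.isMulCommutative_of_card_eq_prime_sq hD).is_comm.comm
      (⟨u, hu⟩ : commutator H) ⟨v, hv⟩
    exact congrArg Subtype.val this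
  have hDn : (commutator H).Normal := by
    unfold commutator
    infer_instance
  -- the index of the centralizer of `y`
  have hidx_lt : (Subgroup.centralizer ({y} : Set H)).index < p ^ 2 := by
    rw [Helper17.index_centralizer_eq_card_isConj y, ← hD]
    classical
    letI : Fintype {h : H // IsConj y h} := Fintype.ofFinite _
    letI : Fintype (commutator H) := Fintype.ofFinite _
    rw [Nat.card_eq_fintype_card, Nat.card_eq_fintype_card]
    have hmem : ∀ h : {h : H // IsConj y h}, (h : H) ∈ commutator H := by
      rintro ⟨h, hh⟩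
      obtain ⟨c, hc⟩ := isConj_iff.mp hh
      show h ∈ commutator H
      rw [← hc]
      exact hDn.conj_mem y hyD c
    apply Fintype.card_lt_of_injective_of_notMem
      (fun h : {h : H // IsConj y h} => (⟨(h : H), hmem h⟩ : commutator H)) (b := 1)
    · intro h1 h2 h12
      have h3 : ((⟨(h1 : H), hmem h1⟩ : commutator H) : H) =
          ((⟨(h2 : H), hmem h2⟩ : commutator H) : H) := congrArg Subtype.val h12
      exact Subtype.ext h3
    · rintro ⟨⟨h, hh⟩, h1⟩
      have h2 : h = 1 := congrArg Subtype.val h1
      rw [h2, isConj_one_left] at hh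
      apply hyZ
      rw [hh]
      exact Subgroup.one_mem _
  have hcCy : p ^ 3 ∣ Nat.card (Subgroup.centralizer ({y} : Set H)) := by
    have h1 := Subgroup.card_mul_index (Subgroup.centralizer ({y} : Set H))
    have h2 : (Subgroup.centralizer ({y} : Set H)).index ∣ p ^ 4 := by
      rw [← hcard]; exact Subgroup.index_dvd_card _
    obtain ⟨j, hj, hji⟩ := (Nat.dvd_prime_pow hp).mp h2
    rw [hji] at hidx_lt
    have hj1 : j < 2 := (Nat.pow_lt_pow_iff_right hp.one_lt).mp hidx_lt
    obtain ⟨c, hc, hcC⟩ := card_subgroup_pow p hcard (Subgroup.centralizer ({y} : Set H))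
    rw [hcC, hji, hcard, ← pow_add] at h1
    have h3 := Nat.pow_right_injective hp.two_le h1
    rw [hcC]
    exact pow_dvd_pow p (by omega)
  -- the centralizer of the commutator subgroup
  obtain ⟨w, hwD, hwZ, hw1⟩ := Helper32.exists_ne_one_mem_normal_inf_center hH (commutator H) hDne
  have hDgen : commutator H = (commutator H ⊓ Subgroup.center H) ⊔ Subgroup.zpowers y := by
    symm
    apply Subgroup.eq_of_le_of_card_ge
    · exact sup_le inf_le_left (by rw [Subgroup.zpowers_le]; exact hyD)
    · obtain ⟨i, hi, hci⟩ := card_subgroup_pow p hcard (commutator H ⊓ Subgroup.center H)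
      obtain ⟨j, hj, hcj⟩ := card_subgroup_pow p hcard
        ((commutator H ⊓ Subgroup.center H) ⊔ Subgroup.zpowers y)
      have hi0 : i ≠ 0 := by
        intro h
        rw [h, pow_zero] at hci
        have h1 : w ∈ commutator H ⊓ Subgroup.center H := ⟨hwD, hwZ⟩
        rw [Subgroup.eq_bot_of_card_eq _ hci, Subgroup.mem_bot] at h1
        exact hw1 h1
      have hij : i < j := by
        have h1 : commutator H ⊓ Subgroup.center H ≤
            (commutator H ⊓ Subgroup.center H) ⊔ Subgroup.zpowers y := le_sup_left
        have h2 := Subgroup.card_dvd_of_le h1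
        rw [hci, hcj] at h2
        have h3 : i ≤ j := (Nat.pow_dvd_pow_iff_le_right hp.one_lt).mp h2
        rcases Nat.lt_or_ge i j with h | h
        · exact h
        · exfalso
          have h4 : i = j := by omega
          have h5 : commutator H ⊓ Subgroup.center H =
              (commutator H ⊓ Subgroup.center H) ⊔ Subgroup.zpowers y :=
            Subgroup.eq_of_le_of_card_ge h1 (by rw [hci, hcj, h4])
          have h6 : y ∈ commutator H ⊓ Subgroup.center H := by
            rw [h5]; exact Subgroup.mem_sup_right (Subgroup.mem_zpowers y)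
          exact hyZ h6.2
      rw [hD, hcj]
      exact Nat.pow_le_pow_right hp.pos (by omega)
  have hCyM : Subgroup.centralizer ({y} : Set H) ≤ Subgroup.centralizer (commutator H : Set H) := by
    intro g hg
    rw [Helper63.mem_centralizer_singleton_iff] at hg
    have h1 : commutator H ≤ Subgroup.centralizer ({g} : Set H) := by
      rw [hDgen]
      apply sup_le
      · exact inf_le_right.trans (center_le_centralizer_singleton g)
      · rw [Subgroup.zpowers_le, Helper63.mem_centralizer_singleton_iff]
        exact hg.symm
    rw [Subgroup.mem_centralizer_iff]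
    intro d hd
    have := h1 hd
    rw [Helper63.mem_centralizer_singleton_iff] at this
    exact this.symm
  have hMtop : Subgroup.centralizer (commutator H : Set H) ≠ ⊤ := by
    intro h
    apply hDZ
    intro d hd
    rw [Subgroup.mem_center_iff]
    intro g
    have hg : g ∈ Subgroup.centralizer (commutator H : Set H) := by rw [h]; trivial
    rw [Subgroup.mem_centralizer_iff] at hg
    exact (hg d hd).symm
  have hcM : Nat.card (Subgroup.centralizer (commutator H : Set H)) = p ^ 3 := by
    obtain ⟨m, hm, hcm⟩ := card_subgroup_pow p hcard (Subgroup.centralizer (commutator H : Set H))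
    have hm4 : m ≠ 4 := by
      intro h
      rw [h, ← hcard] at hcm
      exact hMtop (Subgroup.eq_top_of_card_eq _ hcm)
    have h1 := hcCy.trans (Subgroup.card_dvd_of_le hCyM)
    rw [hcm] at h1
    have h2 : 3 ≤ m := (Nat.pow_dvd_pow_iff_le_right hp.one_lt).mp h1
    have : m = 3 := by omega
    rw [hcm, this]
  have hDM : frattini H ≤ Subgroup.centralizer (commutator H : Set H) := by
    rw [← hDeq]
    intro d hd
    rw [Subgroup.mem_centralizer_iff]
    intro d' hd'
    exact hDab d' hd' d hd
  have hMchar : ∀ σ : MulAut H, ∀ x ∈ Subgroup.centralizer (commutator H : Set H),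
      σ x ∈ Subgroup.centralizer (commutator H : Set H) := by
    intro σ x hx
    rw [Subgroup.mem_centralizer_iff] at hx ⊢
    intro d hd
    have h1 : σ⁻¹ d ∈ commutator H := commutator_invariant σ⁻¹ d hd
    have h2 := hx _ h1
    have h3 : σ (σ⁻¹ d) = d := by
      rw [← MulAut.mul_apply, mul_inv_cancel]; rfl
    have h4 := congrArg σ h2
    rw [map_mul, map_mul, h3] at h4
    exact h4
  exact hasChain_two p _ hMchar hDM (by rw [hcard, hcM]; ring) (by rw [hcM, hΦ]; ring)

/-- Nonabelian groups of order `p ^ 4` with Frattini subgroup of order `p ^ 2` have a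
characteristic chain. -/
theorem frattini_sq_chain (hcard : Nat.card H = p ^ 4) (hna : ¬ ∀ a b : H, a * b = b * a)
    (hΦ : Nat.card (frattini H) = p ^ 2) : HasChainΦ p H := by
  have hp : p.Prime := hpf.out
  have hH : IsPGroup p H := IsPGroup.of_card hcard
  have hDΦ : commutator H ≤ frattini H := Helper2.commutator_le_frattini hH
  have hDne : commutator H ≠ ⊥ := commutator_ne_bot hna
  have h1 := Subgroup.card_dvd_of_le hDΦ
  rw [hΦ] at h1
  obtain ⟨a, ha, hca⟩ := (Nat.dvd_prime_pow hp).mp h1
  interval_cases a
  · exact absurd (Subgroup.eq_bot_of_card_eq _ (by rw [hca, pow_zero])) hDne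
  · exact frattini_sq_chain_a p hcard hΦ (by rw [hca, pow_one])
  · exact frattini_sq_chain_b p hcard hna hΦ hca

end Cfsg.Agent.Lib.Helper84.P4
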