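import Cfsg.Agent.Lib.Helper88.CharBisetPt
import Cfsg.Agent.Lib.Helper88.BisetTransfer

set_option autoImplicit false

/-!
# The degree map of a characteristic biset

For a fusion system `F` over `S`, a biset `X` generated by `F` and a homomorphism `π : S →* A` to a
commutative group which is invariant under the maps of `F`, the biset carries a degree map
`deg : X → A` with `deg (a x b⁻¹) = π a * (π b)⁻¹ * deg x`.  The elements of Park's group shift the degree
by a constant on each right orbit; the product of the shifts is a homomorphism to `A`.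
-/

namespace Cfsg.Agent.Lib.Helper84.PPow

open Cfsg Cfsg.FusionSystem MulAction
open Cfsg.Agent.Lib.Helper87 (restrict_mem hom_le hom_mem_S)
open Cfsg.Agent.Lib.Helper88

variable {Ω : Type*} [Group Ω] {S : Subgroup Ω} {A : Type*} [CommGroup A]

/-- `π` takes the same value on `x` and on its image under any map of the system -/
def StableHom (F : FusionSystem S) (π : S →* A) : Prop :=
  ∀ (P : Subgroup Ω) (φ : P →* Ω) (hφ : φ ∈ F.Hom P) (x : P),
    π ⟨φ x, hom_mem_S F hφ x⟩ = π ⟨x, hom_le F hφ x.2⟩

/-- `(a, b) ↦ π a * (π b)⁻¹` -/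
def muHom (π : S →* A) : S × S →* A where
  toFun g := π g.1 * (π g.2)⁻¹
  map_one' := by simp
  map_mul' a b := by
    simp only [Prod.fst_mul, Prod.snd_mul, map_mul, mul_inv]
    exact mul_mul_mul_comm _ _ _ _

theorem muHom_apply (π : S →* A) (g : S × S) : muHom π g = π g.1 * (π g.2)⁻¹ := rfl

theorem inTw_le_ker {F : FusionSystem S} {π : S →* A} (hπ : StableHom F π) {D : Subgroup (S × S)}
    (hD : InTw F D) : D ≤ (muHom π).ker := by
  obtain ⟨Q, ψ, hψ, hg⟩ := hD
  intro g hgD
  obtain ⟨q, hq1, hq2⟩ := (hg g).mp hgD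
  rw [MonoidHom.mem_ker, muHom_apply]
  have e1 : g.1 = ⟨q, hom_le F hψ q.2⟩ := Subtype.ext hq1.symm
  have e2 : g.2 = ⟨ψ q, hom_mem_S F hψ q⟩ := Subtype.ext hq2.symm
  rw [e1, e2, hπ Q ψ hψ q, mul_inv_cancel]

/-- the data: a generated stable biset with a base point and an invariant homomorphism -/
structure Ctx (F : FusionSystem S) (A : Type*) [CommGroup A] where
  /-- the multiplicities of the biset -/
  m : Subgroup (S × S) → ℕ
  hgen : Gen F m
  hstab : StabGe F m 0
  /-- the base point -/
  x₀ : OrbSum m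
  hx₀ : stabilizer (S × S) x₀ = diagS S
  /-- the invariant homomorphism -/
  π : S →* A
  hπ : StableHom F π

variable {F : FusionSystem S}

theorem Ctx.type_le_ker (c : Ctx F A) (x : OrbSum c.m) : x.H ≤ (muHom c.π).ker := by
  apply inTw_le_ker c.hπ
  apply c.hgen
  intro h0
  have := x.i
  rw [h0] at this
  exact this.elim0

open Classical in
/-- the degree of a point -/
noncomputable def deg (π : S →* A) {m : Subgroup (S × S) → ℕ} (x : OrbSum m) : A :=
  if h : x.H ≤ (muHom π).ker then
    Quotient.liftOn' x.q (fun g => muHom π g) (fun a b hab => by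
      have h1 : a⁻¹ * b ∈ x.H := QuotientGroup.leftRel_apply.mp hab
      have h2 := h h1
      rw [MonoidHom.mem_ker, map_mul, map_inv] at h2
      exact inv_mul_eq_one.mp h2)
  else 1

open Classical in
theorem Ctx.deg_smul (c : Ctx F A) (g : S × S) (x : OrbSum c.m) :
    deg c.π (g • x) = muHom c.π g * deg c.π x := by
  have hH := c.type_le_ker x
  obtain ⟨H, i, q⟩ := x
  have hH' : H ≤ (muHom c.π).ker := hH
  unfold deg
  rw [OrbSum.smul_def]
  simp only [dif_pos hH']
  induction q using Quotient.inductionOn' with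
  | h a =>
    show muHom c.π (g * a) = muHom c.π g * muHom c.π a
    exact map_mul _ _ _

/-- the relation of lying in the same right orbit -/
def rtSetoid (m : Subgroup (S × S) → ℕ) : Setoid (OrbSum m) where
  r x y := ∃ b : S, (((1 : S), b) : S × S) • x = y
  iseqv := ⟨fun x => ⟨1, by
      have e : (((1 : S), (1 : S)) : S × S) = 1 := rfl
      rw [e, one_smul]⟩,
    fun ⟨b, hb⟩ => ⟨b⁻¹, by
      rw [← hb, smul_smul]
      have e : (((1 : S), b⁻¹) : S × S) * ((1 : S), b) = 1 := by ext <;> simp
      rw [e, one_smul]⟩,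
    fun ⟨b, hb⟩ ⟨c, hc⟩ => ⟨c * b, by
      rw [← hc, ← hb, smul_smul]
      congr 1
      ext <;> simp⟩⟩

/-- the set of right orbits -/
def RtOrb (m : Subgroup (S × S) → ℕ) := Quotient (rtSetoid m)

instance [Finite S] (m : Subgroup (S × S) → ℕ) : Finite (RtOrb m) := Quotient.finite _

noncomputable instance [Finite S] (m : Subgroup (S × S) → ℕ) : Fintype (RtOrb m) := Fintype.ofFinite _

/-- the right orbit of a point -/
def rtMk {m : Subgroup (S × S) → ℕ} (x : OrbSum m) : RtOrb m := Quotient.mk (rtSetoid m) x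

theorem rtMk_eq {m : Subgroup (S × S) → ℕ} {x y : OrbSum m} :
    rtMk x = rtMk y ↔ ∃ b : S, (((1 : S), b) : S × S) • x = y :=
  ⟨fun h => Quotient.exact h, fun h => Quotient.sound h⟩

instance (m : Subgroup (S × S) → ℕ) : MulAction (ParkGroup m) (RtOrb m) where
  smul g := Quotient.map' (fun x => (g : Equiv.Perm (OrbSum m)) x) (by
    rintro x y ⟨b, rfl⟩
    exact ⟨b, ((mem_parkGroup.mp g.2) b x).symm⟩)
  one_smul y := by
    induction y using Quotient.inductionOn' with
    | h x => rfl
  mul_smul g h y := by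
    induction y using Quotient.inductionOn' with
    | h x => rfl

theorem smul_rtMk {m : Subgroup (S × S) → ℕ} (g : ParkGroup m) (x : OrbSum m) :
    g • rtMk x = rtMk ((g : Equiv.Perm (OrbSum m)) x) := rfl

/-- the shift of the degree by an element of Park's group, on a right orbit -/
noncomputable def Ctx.dlt (c : Ctx F A) (g : ParkGroup c.m) : RtOrb c.m → A :=
  Quotient.lift (fun x => deg c.π ((g : Equiv.Perm (OrbSum c.m)) x) / deg c.π x) (by
    rintro x y ⟨b, rfl⟩
    show deg c.π ((g : Equiv.Perm (OrbSum c.m)) x) / deg c.π x =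
      deg c.π ((g : Equiv.Perm (OrbSum c.m)) ((((1 : S), b) : S × S) • x)) /
        deg c.π ((((1 : S), b) : S × S) • x)
    rw [(mem_parkGroup.mp g.2) b x, c.deg_smul, c.deg_smul, mul_div_mul_left_eq_div])

theorem Ctx.dlt_rtMk (c : Ctx F A) (g : ParkGroup c.m) (x : OrbSum c.m) :
    c.dlt g (rtMk x) = deg c.π ((g : Equiv.Perm (OrbSum c.m)) x) / deg c.π x := rfl

theorem Ctx.dlt_mul (c : Ctx F A) (g h : ParkGroup c.m) (y : RtOrb c.m) :
    c.dlt (g * h) y = c.dlt g (h • y) * c.dlt h y := by
  induction y using Quotient.inductionOn' with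
  | h x =>
    show c.dlt (g * h) (rtMk x) = c.dlt g (h • rtMk x) * c.dlt h (rtMk x)
    rw [smul_rtMk, c.dlt_rtMk, c.dlt_rtMk, c.dlt_rtMk, div_mul_div_cancel]
    rfl

theorem Ctx.dlt_one (c : Ctx F A) (y : RtOrb c.m) : c.dlt 1 y = 1 := by
  induction y using Quotient.inductionOn' with
  | h x =>
    show c.dlt 1 (rtMk x) = 1
    rw [c.dlt_rtMk]
    exact div_self' _

/-- the product of the degree shifts: a homomorphism from Park's group -/
noncomputable def Ctx.degHom [Finite S] (c : Ctx F A) : ParkGroup c.m →* A where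
  toFun g := ∏ y : RtOrb c.m, c.dlt g y
  map_one' := by
    apply Finset.prod_eq_one
    intro y _
    exact c.dlt_one y
  map_mul' g h := by
    have h1 : ∀ y : RtOrb c.m, c.dlt (g * h) y = c.dlt g (h • y) * c.dlt h y := c.dlt_mul g h
    rw [Finset.prod_congr rfl (fun y _ => h1 y), Finset.prod_mul_distrib]
    congr 1
    exact Equiv.prod_comp (MulAction.toPerm h) (fun y => c.dlt g y)

theorem Ctx.degHom_apply [Finite S] (c : Ctx F A) (g : ParkGroup c.m) :
    c.degHom g = ∏ y : RtOrb c.m, c.dlt g y := rfl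

theorem Ctx.dlt_parkι (c : Ctx F A) (s : S) (y : RtOrb c.m) : c.dlt (parkι c.m s) y = c.π s := by
  induction y using Quotient.inductionOn' with
  | h x =>
    show c.dlt (parkι c.m s) (rtMk x) = c.π s
    rw [c.dlt_rtMk, parkι_apply, c.deg_smul, mul_div_cancel_right, muHom_apply]
    simp

theorem Ctx.degHom_parkι [Finite S] (c : Ctx F A) (s : S) :
    c.degHom (parkι c.m s) = c.π s ^ Fintype.card (RtOrb c.m) := by
  rw [c.degHom_apply, Finset.prod_congr rfl (fun y _ => c.dlt_parkι s y), Finset.prod_const]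
  rfl

/-- the number of right orbits -/
theorem Ctx.card_rtOrb [Finite S] (c : Ctx F A) :
    Fintype.card (RtOrb c.m) * Nat.card S = Nat.card (OrbSum c.m) := by
  rw [← Nat.card_eq_fintype_card, ← Nat.card_prod]
  have hout : ∀ y : RtOrb c.m, rtMk (Quotient.out y) = y := fun y => Quotient.out_eq y
  let Φ : RtOrb c.m × S → OrbSum c.m := fun a => (((1 : S), a.2) : S × S) • (Quotient.out a.1)
  have hΦ : Function.Bijective Φ := by
    constructor
    · rintro ⟨y, b⟩ ⟨y', b'⟩ h
      have h0 : (((1 : S), b) : S × S) • (Quotient.out y) =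
          (((1 : S), b') : S × S) • (Quotient.out y') := h
      have h1 : rtMk (Quotient.out y) = rtMk (Quotient.out y') := by
        rw [rtMk_eq]
        refine ⟨b'⁻¹ * b, ?_⟩
        have e : (((1 : S), b'⁻¹ * b) : S × S) = ((1 : S), b')⁻¹ * ((1 : S), b) := by
          ext <;> simp
        rw [e, mul_smul, h0, inv_smul_smul]
      rw [hout, hout] at h1
      subst h1
      have h2 := right_cancel c.hgen _ h0
      rw [h2]
    · intro x
      obtain ⟨b, hb⟩ := rtMk_eq.mp (hout (rtMk x))
      exact ⟨(rtMk x, b), hb⟩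
  exact Nat.card_congr (Equiv.ofBijective Φ hΦ)

end Cfsg.Agent.Lib.Helper84.PPow
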