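import Mathlib

set_option autoImplicit false

/-!
# Products of invariant functions over a set with an action of a `p`-group
-/

namespace Cfsg.Agent.Lib.Helper84.PPow

open MulAction

/-- For a function with values in a commutative group of exponent `p`, invariant under the action of a
`p`-group, only the fixed points contribute to the product. -/
theorem prod_eq_prod_fixed {K : Type*} [Group K] [Finite K] {p : ℕ} [Fact p.Prime] (hK : IsPGroup p K)
    {Y : Type*} [Fintype Y] [MulAction K Y] {A : Type*} [CommGroup A] (hA : ∀ a : A, a ^ p = 1)
    (f : Y → A) (hf : ∀ (u : K) (y : Y), f (u • y) = f y) :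
    ∏ y, f y = ∏ y, (open Classical in if y ∈ fixedPoints K Y then f y else 1) := by
  classical
  have : Fintype (orbitRel.Quotient K Y) := Fintype.ofFinite _
  let q : Y → orbitRel.Quotient K Y := fun y => Quotient.mk'' y
  rw [← Fintype.prod_fiberwise q f,
    ← Fintype.prod_fiberwise q (fun y => if y ∈ fixedPoints K Y then f y else 1)]
  apply Finset.prod_congr rfl
  intro j _
  induction j using Quotient.inductionOn' with
  | h y0 =>
    have hmem : ∀ i : {i // q i = Quotient.mk'' y0}, i.1 ∈ orbit K y0 := by
      rintro ⟨i, hi⟩
      exact orbitRel_apply.mp (Quotient.exact' hi)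
    by_cases hfix : y0 ∈ fixedPoints K Y
    · apply Finset.prod_congr rfl
      intro i _
      obtain ⟨u, hu⟩ := hmem i
      have e : i.1 = y0 := by
        rw [← hu]
        exact hfix u
      show f i.1 = if i.1 ∈ fixedPoints K Y then f i.1 else 1
      rw [e, if_pos hfix]
    · have hR : ∀ i : {i // q i = Quotient.mk'' y0},
          (if i.1 ∈ fixedPoints K Y then f i.1 else 1) = 1 := by
        intro i
        rw [if_neg]
        intro hfi
        obtain ⟨u, hu⟩ := hmem i
        apply hfix
        intro v
        have e : y0 = u⁻¹ • i.1 := by rw [← hu, inv_smul_smul]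
        rw [e, smul_smul]
        have h1 := hfi (v * u⁻¹)
        rw [h1]
        exact (hfi u⁻¹).symm
      have hL : ∀ i : {i // q i = Quotient.mk'' y0}, f i.1 = f y0 := by
        intro i
        obtain ⟨u, hu⟩ := hmem i
        rw [← hu]
        exact hf u y0
      rw [Finset.prod_congr rfl (fun i _ => hR i), Finset.prod_const_one,
        Finset.prod_congr rfl (fun i _ => hL i), Finset.prod_const, Finset.card_univ]
      have hcard : Fintype.card {i // q i = Quotient.mk'' y0} = Nat.card (orbit K y0) := by
        rw [← Nat.card_eq_fintype_card]
        apply Nat.card_congr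
        refine Equiv.subtypeEquivRight fun i => ?_
        constructor
        · intro hi
          exact orbitRel_apply.mp (Quotient.exact' hi)
        · intro hi
          exact Quotient.sound' (orbitRel_apply.mpr hi)
      obtain ⟨n, hn⟩ := hK.card_orbit y0
      rw [hcard, hn]
      cases n with
      | zero =>
        exfalso
        apply hfix
        rw [pow_zero] at hn
        intro u
        have h1 : Nat.card (orbit K y0) = 1 := hn
        have h2 := (Nat.card_eq_one_iff_unique.mp h1).1
        have h3 : (⟨u • y0, mem_orbit y0 u⟩ : orbit K y0) = ⟨y0, mem_orbit_self y0⟩ :=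
          Subsingleton.elim _ _
        exact congrArg Subtype.val h3
      | succ n =>
        rw [pow_succ, mul_comm, pow_mul, hA, one_pow]

end Cfsg.Agent.Lib.Helper84.PPow
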