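import Cfsg.Agent.Lib.Helper84.PPowDeg
import Cfsg.Agent.Lib.Helper84.PPowFix

set_option autoImplicit false

/-!
# The key lemma: centralizers in Park's group have trivial degree
-/

namespace Cfsg.Agent.Lib.Helper84.PPow

open Cfsg Cfsg.FusionSystem MulAction
open Cfsg.Agent.Lib.Helper87 (restrict_mem hom_le hom_mem_S)
open Cfsg.Agent.Lib.Helper88

variable {Ω : Type*} [Group Ω] {S : Subgroup Ω} {A : Type*} [CommGroup A] {F : FusionSystem S}

section Fix

variable (c : Ctx F A) {P : Subgroup Ω} (hPS : P ≤ S)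

/-- the right orbit of `x` is fixed by the left action of `P` -/
def FixPt (x : OrbSum c.m) : Prop :=
  ∀ u : P, ∃ b : S, ((Subgroup.inclusion hPS u, b) : S × S) • x = x

variable {c hPS}

/-- the map `P → S` attached to a point of a fixed right orbit -/
noncomputable def chiOf {x : OrbSum c.m} (hx : FixPt c hPS x) (u : P) : S := Classical.choose (hx u)

theorem chiOf_spec {x : OrbSum c.m} (hx : FixPt c hPS x) (u : P) :
    ((Subgroup.inclusion hPS u, chiOf hx u) : S × S) • x = x := Classical.choose_spec (hx u)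

theorem chiOf_unique {x : OrbSum c.m} (hx : FixPt c hPS x) (u : P) {b : S}
    (h : ((Subgroup.inclusion hPS u, b) : S × S) • x = x) : chiOf hx u = b := by
  have h1 := chiOf_spec hx u
  have h2 : (((1 : S), (chiOf hx u)⁻¹ * b) : S × S) • x = x := by
    have e : (((1 : S), (chiOf hx u)⁻¹ * b) : S × S) =
        (Subgroup.inclusion hPS u, chiOf hx u)⁻¹ * (Subgroup.inclusion hPS u, b) := by
      ext <;> simp
    rw [e, mul_smul, h, inv_smul_eq_iff, h1]
  have h3 := right_free c.hgen x h2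
  exact (inv_mul_eq_one.mp h3)

/-- moving the point inside its right orbit conjugates the attached map -/
theorem fixPt_smul {x : OrbSum c.m} (hx : FixPt c hPS x) (b : S) :
    ∃ hx' : FixPt c hPS ((((1 : S), b) : S × S) • x), ∀ u : P, chiOf hx' u = b * chiOf hx u * b⁻¹ := by
  have key : ∀ u : P, ((Subgroup.inclusion hPS u, b * chiOf hx u * b⁻¹) : S × S) •
      ((((1 : S), b) : S × S) • x) = (((1 : S), b) : S × S) • x := by
    intro u
    have e : ((Subgroup.inclusion hPS u, b * chiOf hx u * b⁻¹) : S × S) * ((1 : S), b) =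
        ((1 : S), b) * (Subgroup.inclusion hPS u, chiOf hx u) := by
      ext <;> simp
    rw [smul_smul, e, mul_smul, chiOf_spec hx u]
  have hx' : FixPt c hPS ((((1 : S), b) : S × S) • x) := fun u => ⟨_, key u⟩
  exact ⟨hx', fun u => chiOf_unique hx' u (key u)⟩

/-- the attached map is the restriction of a map of the system -/
theorem exists_hom_chiOf {x : OrbSum c.m} (hx : FixPt c hPS x) :
    ∃ χ : P →* Ω, χ ∈ F.Hom P ∧ ∀ u : P, χ u = (chiOf hx u : Ω) := by
  obtain ⟨Q, ψ, hψ, hD⟩ := inTw_stabilizer c.hgen x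
  have hmem : ∀ u : P, ∃ q : Q, (q : Ω) = u ∧ ψ q = (chiOf hx u : Ω) := by
    intro u
    have h1 : ((Subgroup.inclusion hPS u, chiOf hx u) : S × S) ∈ stabilizer (S × S) x :=
      mem_stabilizer_iff.mpr (chiOf_spec hx u)
    obtain ⟨q, hq1, hq2⟩ := (hD _).mp h1
    exact ⟨q, hq1, hq2⟩
  have hPQ : P ≤ Q := by
    intro u hu
    obtain ⟨q, hq1, -⟩ := hmem ⟨u, hu⟩
    have : (q : Ω) = u := hq1
    rw [← this]
    exact q.2
  refine ⟨ψ.comp (Subgroup.inclusion hPQ), restrict_mem F hψ hPQ, fun u => ?_⟩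
  obtain ⟨q, hq1, hq2⟩ := hmem u
  have e : Subgroup.inclusion hPQ u = q := Subtype.ext hq1.symm
  show ψ (Subgroup.inclusion hPQ u) = _
  rw [e, hq2]

end Fix

/-- conjugacy of maps `P → S` under `S` -/
def conjSetoid (P : Subgroup Ω) (S : Subgroup Ω) : Setoid (P → S) where
  r χ χ' := ∃ b : S, ∀ u, χ' u = b * χ u * b⁻¹
  iseqv := ⟨fun χ => ⟨1, fun u => by simp⟩,
    fun ⟨b, hb⟩ => ⟨b⁻¹, fun u => by rw [hb u]; group⟩,
    fun ⟨b, hb⟩ ⟨d, hd⟩ => ⟨d * b, fun u => by rw [hd u, hb u]; group⟩⟩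

/-- a chosen representative of the conjugacy class -/
noncomputable def normFn {P : Subgroup Ω} (χ : P → S) : P → S :=
  Quotient.out (Quotient.mk (conjSetoid P S) χ)

theorem normFn_rel {P : Subgroup Ω} (χ : P → S) : ∃ b : S, ∀ u, normFn χ u = b * χ u * b⁻¹ := by
  have h : (conjSetoid P S).r (normFn χ) χ := Quotient.exact (Quotient.out_eq _)
  exact (conjSetoid P S).symm h

theorem normFn_eq_of_rel {P : Subgroup Ω} {χ χ' : P → S} (h : ∃ b : S, ∀ u, χ' u = b * χ u * b⁻¹) :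
    normFn χ = normFn χ' := by
  unfold normFn
  congr 1
  exact Quotient.sound h

theorem normFn_normFn {P : Subgroup Ω} (χ : P → S) : normFn (normFn χ) = normFn χ :=
  (normFn_eq_of_rel (normFn_rel χ)).symm

section Key

variable (c : Ctx F A) {P : Subgroup Ω} (hPS : P ≤ S)

/-- the potential on right orbits -/
noncomputable def pot (y : RtOrb c.m) : A :=
  open Classical in
  if h : ∃ x : OrbSum c.m, rtMk x = y ∧ ∃ hx : FixPt c hPS x, chiOf hx = normFn (chiOf hx) then
    deg c.π (Classical.choose h) else 1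

variable {c hPS}

theorem exists_normal_pt {x : OrbSum c.m} (hx : FixPt c hPS x) :
    ∃ x' : OrbSum c.m, rtMk x' = rtMk x ∧ ∃ hx' : FixPt c hPS x', chiOf hx' = normFn (chiOf hx') := by
  obtain ⟨b, hb⟩ := normFn_rel (chiOf hx)
  obtain ⟨hx', hχ⟩ := fixPt_smul hx b
  refine ⟨(((1 : S), b) : S × S) • x, (rtMk_eq.mpr ⟨b, rfl⟩).symm, hx', ?_⟩
  have e : chiOf hx' = normFn (chiOf hx) := by
    funext u
    rw [hχ u, hb u]
  rw [e, normFn_normFn]

/-- two points of a right orbit with the same attached map have the same degree -/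
theorem deg_eq_of_chiOf_eq
    (hCC : ∀ (χ : P →* Ω), χ ∈ F.Hom P → ∀ b : S, (∀ u : P, (b : Ω) * χ u = χ u * b) → c.π b = 1)
    {x x' : OrbSum c.m} (hxx' : rtMk x = rtMk x') (hx : FixPt c hPS x) (hx' : FixPt c hPS x')
    (h : chiOf hx = chiOf hx') : deg c.π x = deg c.π x' := by
  obtain ⟨b, rfl⟩ := rtMk_eq.mp hxx'
  obtain ⟨hx'', hχ⟩ := fixPt_smul hx b
  obtain ⟨χ, hχF, hχv⟩ := exists_hom_chiOf hx
  have hb : c.π b = 1 := by
    apply hCC χ hχF b
    intro u
    have h1 : chiOf hx u = b * chiOf hx u * b⁻¹ := (congrFun h u).trans (hχ u)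
    rw [hχv u]
    have h2 : ((chiOf hx u : S) : Ω) = b * (chiOf hx u : Ω) * (b : Ω)⁻¹ :=
      congrArg (fun s : S => (s : Ω)) h1
    calc (b : Ω) * (chiOf hx u : Ω) = (b * (chiOf hx u : Ω) * (b : Ω)⁻¹) * b := by group
      _ = (chiOf hx u : Ω) * b := by rw [← h2]
  rw [c.deg_smul, muHom_apply]
  simp [hb]

theorem pot_of_pt
    (hCC : ∀ (χ : P →* Ω), χ ∈ F.Hom P → ∀ b : S, (∀ u : P, (b : Ω) * χ u = χ u * b) → c.π b = 1)
    {x : OrbSum c.m} (hx : FixPt c hPS x) (hn : chiOf hx = normFn (chiOf hx)) :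
    pot c hPS (rtMk x) = deg c.π x := by
  have h : ∃ x' : OrbSum c.m, rtMk x' = rtMk x ∧ ∃ hx' : FixPt c hPS x',
      chiOf hx' = normFn (chiOf hx') := ⟨x, rfl, hx, hn⟩
  unfold pot
  rw [dif_pos h]
  obtain ⟨h1, hx', hn'⟩ := Classical.choose_spec h
  apply deg_eq_of_chiOf_eq hCC h1 hx' hx
  -- the two attached maps are conjugate and both normal
  obtain ⟨b, hb⟩ := rtMk_eq.mp h1
  obtain ⟨hx'', hχ⟩ := fixPt_smul hx' b
  have e1 : chiOf hx = fun u => b * chiOf hx' u * b⁻¹ := by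
    funext u
    have : ∀ (z : OrbSum c.m) (hz : FixPt c hPS z), z = x → chiOf hz u = chiOf hx u := by
      intro z hz hzx
      subst hzx
      rfl
    rw [← this _ hx'' hb]
    exact hχ u
  have e2 : normFn (chiOf hx') = normFn (chiOf hx) :=
    normFn_eq_of_rel ⟨b, fun u => by rw [e1]⟩
  rw [hn', e2, ← hn]

theorem pot_of_not_fix {y : RtOrb c.m} (h : ∀ x : OrbSum c.m, rtMk x = y → ¬ FixPt c hPS x) :
    pot c hPS y = 1 := by
  unfold pot
  rw [dif_neg]
  rintro ⟨x, hxy, hx, -⟩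
  exact h x hxy hx

end Key

end Cfsg.Agent.Lib.Helper84.PPow
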