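import Cfsg.Agent.Lib.Helper84.PPowKey

set_option autoImplicit false

/-!
# The key lemma: the degree of the centralizer of a subgroup, in Park's group
-/

namespace Cfsg.Agent.Lib.Helper84.PPow

open Cfsg Cfsg.FusionSystem MulAction
open Cfsg.Agent.Lib.Helper87 (restrict_mem hom_le hom_mem_S)
open Cfsg.Agent.Lib.Helper88

variable {Ω : Type*} [Group Ω] {S : Subgroup Ω} {A : Type*} [CommGroup A] {F : FusionSystem S}

/-- `g` commutes with the left action of `P` -/
def CommP (c : Ctx F A) {P : Subgroup Ω} (hPS : P ≤ S) (g : ParkGroup c.m) : Prop :=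
  ∀ (u : P) (x : OrbSum c.m),
    (g : Equiv.Perm (OrbSum c.m)) (((Subgroup.inclusion hPS u, (1 : S)) : S × S) • x) =
      ((Subgroup.inclusion hPS u, (1 : S)) : S × S) • (g : Equiv.Perm (OrbSum c.m)) x

section

variable {c : Ctx F A} {P : Subgroup Ω} {hPS : P ≤ S}

theorem CommP.inv {g : ParkGroup c.m} (hg : CommP c hPS g) : CommP c hPS g⁻¹ := by
  intro u x
  have h1 := hg u (((g⁻¹ : ParkGroup c.m) : Equiv.Perm (OrbSum c.m)) x)
  have e : ∀ z : OrbSum c.m, (g : Equiv.Perm (OrbSum c.m))
      (((g⁻¹ : ParkGroup c.m) : Equiv.Perm (OrbSum c.m)) z) = z := by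
    intro z
    show ((g * g⁻¹ : ParkGroup c.m) : Equiv.Perm (OrbSum c.m)) z = z
    rw [mul_inv_cancel]
    rfl
  rw [e] at h1
  apply (g : Equiv.Perm (OrbSum c.m)).injective
  rw [e, h1]

theorem CommP.of_comm {g : ParkGroup c.m}
    (h : ∀ u : P, g * parkι c.m ⟨u, hPS u.2⟩ = parkι c.m ⟨u, hPS u.2⟩ * g) : CommP c hPS g := by
  intro u x
  have h1 := congrArg (fun e : ParkGroup c.m => (e : Equiv.Perm (OrbSum c.m)) x) (h u)
  exact h1

theorem fixPt_park {g : ParkGroup c.m} (hg : CommP c hPS g) {x : OrbSum c.m}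
    (hx : FixPt c hPS x) :
    ∃ hx' : FixPt c hPS ((g : Equiv.Perm (OrbSum c.m)) x), chiOf hx' = chiOf hx := by
  have key : ∀ u : P, ((Subgroup.inclusion hPS u, chiOf hx u) : S × S) •
      ((g : Equiv.Perm (OrbSum c.m)) x) = (g : Equiv.Perm (OrbSum c.m)) x := by
    intro u
    have e : ((Subgroup.inclusion hPS u, chiOf hx u) : S × S) =
        (Subgroup.inclusion hPS u, (1 : S)) * ((1 : S), chiOf hx u) := by ext <;> simp
    have h1 : ((Subgroup.inclusion hPS u, chiOf hx u) : S × S) •
        ((g : Equiv.Perm (OrbSum c.m)) x) =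
        (g : Equiv.Perm (OrbSum c.m)) (((Subgroup.inclusion hPS u, chiOf hx u) : S × S) • x) := by
      conv_rhs => rw [e, mul_smul, hg u, (mem_parkGroup.mp g.2) (chiOf hx u) x]
      rw [← mul_smul, ← e]
    rw [h1, chiOf_spec hx u]
  have hx' : FixPt c hPS ((g : Equiv.Perm (OrbSum c.m)) x) := fun u => ⟨_, key u⟩
  exact ⟨hx', funext fun u => chiOf_unique hx' u (key u)⟩

end

/-- **Key lemma**, first form. -/
theorem degHom_eq_one_of_comm [Finite S] {p : ℕ} [Fact p.Prime] (hS : IsPGroup p S)
    (hA : ∀ a : A, a ^ p = 1) (c : Ctx F A) {P : Subgroup Ω} (hPS : P ≤ S)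
    (hCC : ∀ (χ : P →* Ω), χ ∈ F.Hom P → ∀ b : S, (∀ u : P, (b : Ω) * χ u = χ u * b) → c.π b = 1)
    (g : ParkGroup c.m) (hg : CommP c hPS g) : c.degHom g = 1 := by
  classical
  have : Finite P := Finite.of_injective _ (Subgroup.inclusion_injective hPS)
  have hPp : IsPGroup p P :=
    hS.of_injective (Subgroup.inclusion hPS) (Subgroup.inclusion_injective hPS)
  let _ : MulAction P (RtOrb c.m) :=
    MulAction.compHom _ ((parkι c.m).comp (Subgroup.inclusion hPS))
  have hsm : ∀ (u : P) (x : OrbSum c.m),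
      u • rtMk x = rtMk (((Subgroup.inclusion hPS u, (1 : S)) : S × S) • x) := fun u x => rfl
  have hfix : ∀ x : OrbSum c.m, rtMk x ∈ fixedPoints P (RtOrb c.m) ↔ FixPt c hPS x := by
    intro x
    constructor
    · intro h u
      have h1 := h u
      rw [hsm, rtMk_eq] at h1
      obtain ⟨b, hb⟩ := h1
      refine ⟨b, ?_⟩
      have e : ((Subgroup.inclusion hPS u, b) : S × S) =
          ((1 : S), b) * (Subgroup.inclusion hPS u, (1 : S)) := by ext <;> simp
      rw [e, mul_smul, hb]
    · intro h u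
      obtain ⟨b, hb⟩ := h u
      rw [hsm, rtMk_eq]
      refine ⟨b, ?_⟩
      have e : ((Subgroup.inclusion hPS u, b) : S × S) =
          ((1 : S), b) * (Subgroup.inclusion hPS u, (1 : S)) := by ext <;> simp
      rw [← mul_smul, ← e, hb]
  have hinv : ∀ (u : P) (y : RtOrb c.m), c.dlt g (u • y) = c.dlt g y := by
    intro u y
    induction y using Quotient.inductionOn' with
    | h x =>
      show c.dlt g (u • rtMk x) = c.dlt g (rtMk x)
      rw [hsm, c.dlt_rtMk, c.dlt_rtMk, hg u x, c.deg_smul, c.deg_smul, mul_div_mul_left_eq_div]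
  rw [c.degHom_apply, prod_eq_prod_fixed hPp hA (c.dlt g) hinv]
  have hpot : ∀ y : RtOrb c.m, (if y ∈ fixedPoints P (RtOrb c.m) then c.dlt g y else 1) =
      pot c hPS (g • y) / pot c hPS y := by
    intro y
    induction y using Quotient.inductionOn' with
    | h x =>
      show (if rtMk x ∈ fixedPoints P (RtOrb c.m) then c.dlt g (rtMk x) else 1) =
        pot c hPS (g • rtMk x) / pot c hPS (rtMk x)
      by_cases hx : FixPt c hPS x
      · rw [if_pos ((hfix x).mpr hx)]
        obtain ⟨x', hx'x, hx', hn⟩ := exists_normal_pt hx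
        rw [← hx'x, smul_rtMk, pot_of_pt hCC hx' hn]
        obtain ⟨hgx', hχ⟩ := fixPt_park hg hx'
        have hn' : chiOf hgx' = normFn (chiOf hgx') := by
          rw [hχ]
          exact hn
        rw [pot_of_pt hCC hgx' hn', c.dlt_rtMk]
      · rw [if_neg (fun h => hx ((hfix x).mp h))]
        rw [pot_of_not_fix, pot_of_not_fix, div_one]
        · intro x' hx'x hx'
          apply hx
          rw [← hfix, ← hx'x, hfix]
          exact hx'
        · intro x' hx'x hx'
          apply hx
          have h1 : FixPt c hPS ((g : Equiv.Perm (OrbSum c.m)) x) := by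
            rw [← hfix, ← smul_rtMk, ← hx'x, hfix]
            exact hx'
          obtain ⟨h2, -⟩ := fixPt_park hg.inv h1
          have e : ((g⁻¹ : ParkGroup c.m) : Equiv.Perm (OrbSum c.m))
              ((g : Equiv.Perm (OrbSum c.m)) x) = x := by
            show ((g⁻¹ * g : ParkGroup c.m) : Equiv.Perm (OrbSum c.m)) x = x
            rw [inv_mul_cancel]
            rfl
          rw [e] at h2
          exact h2
  rw [Finset.prod_congr rfl (fun y _ => hpot y), Finset.prod_div_distrib]
  have e : ∏ y : RtOrb c.m, pot c hPS (g • y) = ∏ y : RtOrb c.m, pot c hPS y :=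
    Equiv.prod_comp (MulAction.toPerm g) (fun y => pot c hPS y)
  rw [e, div_self']

/-! ### Pushing the context forward along a homomorphism of the value group -/

section Push

variable {A' : Type*} [CommGroup A']

/-- the context with the invariant homomorphism composed with `f` -/
@[reducible] def Ctx.push (c : Ctx F A) (f : A →* A') : Ctx F A' where
  m := c.m
  hgen := c.hgen
  hstab := c.hstab
  x₀ := c.x₀
  hx₀ := c.hx₀
  π := f.comp c.π
  hπ := fun P φ hφ x => by
    show f (c.π _) = f (c.π _)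
    rw [c.hπ P φ hφ x]

theorem Ctx.push_deg (c : Ctx F A) (f : A →* A') (x : OrbSum c.m) :
    deg (c.push f).π x = f (deg c.π x) := by
  classical
  have hH := c.type_le_ker x
  have hH2 := (c.push f).type_le_ker x
  obtain ⟨H, i, q⟩ := x
  have hH' : H ≤ (muHom c.π).ker := hH
  have hH2' : H ≤ (muHom (c.push f).π).ker := hH2
  unfold deg
  simp only [dif_pos hH', dif_pos hH2']
  induction q using Quotient.inductionOn' with
  | h a =>
    show muHom (c.push f).π a = f (muHom c.π a)
    rw [muHom_apply, muHom_apply, map_mul, map_inv]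
    rfl

theorem Ctx.push_dlt (c : Ctx F A) (f : A →* A') (g : ParkGroup c.m) (y : RtOrb c.m) :
    (c.push f).dlt g y = f (c.dlt g y) := by
  induction y using Quotient.inductionOn' with
  | h x =>
    show (c.push f).dlt g (rtMk x) = f (c.dlt g (rtMk x))
    rw [Ctx.dlt_rtMk, Ctx.dlt_rtMk, map_div, ← c.push_deg, ← c.push_deg]

theorem Ctx.push_degHom [Finite S] (c : Ctx F A) (f : A →* A') (g : ParkGroup c.m) :
    (c.push f).degHom g = f (c.degHom g) := by
  rw [Ctx.degHom_apply, Ctx.degHom_apply, map_prod]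
  exact Finset.prod_congr rfl (fun y _ => c.push_dlt f g y)

end Push

/-- **Key lemma**: an element of Park's group commuting with `P` has its degree in any subgroup
containing the values of `π` on the centralizers of the images of `P`. -/
theorem degHom_mem_of_comm [Finite S] {p : ℕ} [Fact p.Prime] (hS : IsPGroup p S)
    (hA : ∀ a : A, a ^ p = 1) (c : Ctx F A) {P : Subgroup Ω} (hPS : P ≤ S) (B : Subgroup A)
    (hCC : ∀ (χ : P →* Ω), χ ∈ F.Hom P → ∀ b : S, (∀ u : P, (b : Ω) * χ u = χ u * b) → c.π b ∈ B)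
    (g : ParkGroup c.m) (hg : CommP c hPS g) : c.degHom g ∈ B := by
  have hA' : ∀ a : A ⧸ B, a ^ p = 1 := by
    intro a
    induction a using QuotientGroup.induction_on with
    | H a =>
      rw [← QuotientGroup.mk_pow, hA]
      rfl
  have h := degHom_eq_one_of_comm hS hA' (c.push (QuotientGroup.mk' B)) hPS
    (fun χ hχ b hb => (QuotientGroup.eq_one_iff _).mpr (hCC χ hχ b hb)) g hg
  rw [Ctx.push_degHom] at h
  exact (QuotientGroup.eq_one_iff _).mp h

end Cfsg.Agent.Lib.Helper84.PPow
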