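import Cfsg.Agent.Lib.Helper84.PPowSat

set_option autoImplicit false

/-!
# Saturation of the subsystem of `p`-power index attached to a realization with a degree map
-/

namespace Cfsg.Agent.Lib.Helper84.PPow

open Cfsg Cfsg.FusionSystem
open Cfsg.Agent.Lib.Helper87 (restrict_mem hom_le hom_mem_S subtype_mem mem_autGroup_iff
  mem_autInducedBy_iff inv_exists isConj_trans finite_of_le autInducedBy_le_autGroup
  self_le_extender centralizerIn_le_extender' extend_to_sub fc_fa_of_fullyNormalized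
  receptive_of_fullyNormalized exists_fullyNormalized_conj)
open Cfsg.Agent.Lib.Helper88 (preN mem_preN preN_le realSub mem_realSub)
open Cfsg.Agent.Lib.Helper85 (cj cj_apply map_cj_of_mem map_cj_inf normalizer_map_cj card_map_cj
  range_conjHom SylIn autGroup_le_of_subsystem extender_mono_left)

variable {Ω : Type*} [Group Ω] {S : Subgroup Ω} {F : FusionSystem S} {A : Type*} [CommGroup A]
  {G : Type*} [Group G]

namespace DegReal

variable (D : DegReal F A G)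

/-- automorphisms in `E`, as conjugations -/
theorem mem_autE_iff {Q : Subgroup Ω} (hQT : Q ≤ D.T) (β : MulAut Q) :
    β ∈ D.E.autGroup Q ↔ ∃ n : G, D.d n = 1 ∧ ∀ x : Q,
      D.ι ⟨(β x : Q), D.T_le (hQT (β x).2)⟩ = n * D.ι ⟨x, D.T_le (hQT x.2)⟩ * n⁻¹ := by
  rw [mem_autGroup_iff D.E hQT]
  constructor
  · intro h
    obtain ⟨n, hn, hnβ⟩ := D.exists_of_mem_E h
    exact ⟨n, hn, fun x => hnβ x⟩
  · rintro ⟨n, hn, hnβ⟩
    exact D.mem_E_of hQT (fun x => hQT (β x).2) n hn (fun x => hnβ x)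

/-- automorphisms in `F`, as conjugations -/
theorem mem_autF_iff {Q : Subgroup Ω} (hQS : Q ≤ S) (α : MulAut Q) :
    α ∈ F.autGroup Q ↔ ∃ g : G, ∀ x : Q,
      D.ι ⟨(α x : Q), hQS (α x).2⟩ = g * D.ι ⟨x, hQS x.2⟩ * g⁻¹ := by
  rw [mem_autGroup_iff F hQS]
  exact D.hR.2 Q hQS (Q.subtype.comp α.toMonoidHom) (fun x => hQS (α x).2)

theorem conj_mem_autE {Q : Subgroup Ω} (hQT : Q ≤ D.T) {α β : MulAut Q} (hα : α ∈ F.autGroup Q)
    (hβ : β ∈ D.E.autGroup Q) : α * β * α⁻¹ ∈ D.E.autGroup Q := by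
  have hQS := hQT.trans D.T_le
  obtain ⟨g, hg⟩ := (D.mem_autF_iff hQS α).mp hα
  obtain ⟨n, hn, hnβ⟩ := (D.mem_autE_iff hQT β).mp hβ
  rw [D.mem_autE_iff hQT]
  refine ⟨g * n * g⁻¹, by rw [map_mul, map_mul, map_inv, hn, mul_one, mul_inv_cancel], ?_⟩
  intro x
  have h1 : D.ι ⟨x, hQS x.2⟩ = g * D.ι ⟨(α⁻¹ x : Q), hQS (α⁻¹ x).2⟩ * g⁻¹ := by
    have := hg (α⁻¹ x)
    rw [← this]
    congr 1
    apply Subtype.ext
    show (x : Ω) = ((α (α⁻¹ x) : Q) : Ω)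
    rw [MulAut.apply_inv_self]
  have h2 : D.ι ⟨((α * β * α⁻¹) x : Q), D.T_le (hQT ((α * β * α⁻¹) x).2)⟩ =
      g * (n * D.ι ⟨(α⁻¹ x : Q), hQS (α⁻¹ x).2⟩ * n⁻¹) * g⁻¹ := by
    rw [← hnβ (α⁻¹ x), ← hg (β (α⁻¹ x))]
    rfl
  rw [h2, h1]
  group

theorem autE_inf_autS [Finite S] {p : ℕ} [Fact p.Prime] (hS : IsPGroup p S) (hF : F.IsSaturated p)
    {Q : Subgroup Ω} (hQT : Q ≤ D.T) (hfn : F.IsFullyNormalized Q) :
    autInducedBy S Q ⊓ D.E.autGroup Q = autInducedBy D.T Q := by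
  have hQS := hQT.trans D.T_le
  have hrec := receptive_of_fullyNormalized hS F hF hfn
  apply le_antisymm
  · rintro α ⟨hαS, hαE⟩
    obtain ⟨s, hs, hsα⟩ := (mem_autInducedBy_iff S Q α).mp hαS
    obtain ⟨n, hn, hnα⟩ := (D.mem_autE_iff hQT α).mp hαE
    have hcomm : ∀ u : Q, (n⁻¹ * D.ι ⟨s, hs⟩) * D.ι ⟨u, hQS u.2⟩ =
        D.ι ⟨u, hQS u.2⟩ * (n⁻¹ * D.ι ⟨s, hs⟩) := by
      intro u
      have h1 : D.ι ⟨(α u : Q), D.T_le (hQT (α u).2)⟩ =
          D.ι ⟨s, hs⟩ * D.ι ⟨u, hQS u.2⟩ * (D.ι ⟨s, hs⟩)⁻¹ := by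
        rw [← map_inv, ← map_mul, ← map_mul]
        congr 1
        apply Subtype.ext
        exact hsα u
      have h2 := hnα u
      rw [h1] at h2
      calc n⁻¹ * D.ι ⟨s, hs⟩ * D.ι ⟨u, hQS u.2⟩
          = n⁻¹ * (D.ι ⟨s, hs⟩ * D.ι ⟨u, hQS u.2⟩ * (D.ι ⟨s, hs⟩)⁻¹) * D.ι ⟨s, hs⟩ := by group
        _ = n⁻¹ * (n * D.ι ⟨u, hQS u.2⟩ * n⁻¹) * D.ι ⟨s, hs⟩ := by rw [h2]
        _ = D.ι ⟨u, hQS u.2⟩ * (n⁻¹ * D.ι ⟨s, hs⟩) := by group
    obtain ⟨c, hc, hcg⟩ := D.key_conj hQS (subtype_mem F hQS) Q.range_subtype hrec _ hcomm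
    rw [map_mul, map_inv, hn, inv_one, one_mul, D.hd] at hcg
    have hcS : (c : Ω) ∈ S := c.2
    have hcC := (Subgroup.mem_inf.mp hc).2
    rw [Subgroup.mem_centralizer_iff] at hcC
    rw [mem_autInducedBy_iff]
    refine ⟨s * (c : Ω)⁻¹, ?_, ?_⟩
    · refine D.mem_T.mpr ⟨S.mul_mem hs (S.inv_mem hcS), ?_⟩
      have e : (⟨s * (c : Ω)⁻¹, S.mul_mem hs (S.inv_mem hcS)⟩ : S) = ⟨s, hs⟩ * c⁻¹ := rfl
      rw [e, map_mul, map_inv, hcg, mul_inv_cancel]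
    · intro x
      rw [hsα x]
      have h3 : (c : Ω)⁻¹ * x * c = x := by
        have := hcC x x.2
        rw [mul_assoc, this, ← mul_assoc, inv_mul_cancel, one_mul]
      calc s * (x : Ω) * s⁻¹ = s * ((c : Ω)⁻¹ * x * c) * s⁻¹ := by rw [h3]
        _ = s * (c : Ω)⁻¹ * x * (s * (c : Ω)⁻¹)⁻¹ := by group
  · apply le_inf
    · intro α hα
      obtain ⟨g, hg, h⟩ := (mem_autInducedBy_iff D.T Q α).mp hα
      exact (mem_autInducedBy_iff S Q α).mpr ⟨g, D.T_le hg, h⟩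
    · exact autInducedBy_le_autGroup D.E hQT

theorem fullyAutomized [Finite S] {p : ℕ} [Fact p.Prime] (hS : IsPGroup p S)
    (hF : F.IsSaturated p) {Q : Subgroup Ω} (hQT : Q ≤ D.T) (hfn : F.IsFullyNormalized Q) :
    D.E.IsFullyAutomized p Q := by
  have hQS : Q ≤ S := hQT.trans D.T_le
  have : Finite Q := finite_of_le hQS
  obtain ⟨-, hfa⟩ := fc_fa_of_fullyNormalized hS F hF hfn
  refine ⟨hQT, ?_⟩
  have hK : SylIn p (autInducedBy S Q) (F.autGroup Q) := hfa.2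
  have hKH : autInducedBy S Q ≤ F.autGroup Q := autInducedBy_le_autGroup F hQS
  have hNH : D.E.autGroup Q ≤ F.autGroup Q := autGroup_le_of_subsystem D.E_sub Q
  have hN : F.autGroup Q ≤ Subgroup.normalizer (D.E.autGroup Q : Set (MulAut Q)) := by
    intro α hα
    rw [Subgroup.mem_normalizer_iff]
    intro β
    constructor
    · intro hβ
      exact D.conj_mem_autE hQT hα hβ
    · intro hβ
      have := D.conj_mem_autE hQT ((F.autGroup Q).inv_mem hα) hβ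
      have e : α⁻¹ * (α * β * α⁻¹) * α⁻¹⁻¹ = β := by group
      rwa [e] at this
  have h1 := hK.inf_normal hKH hNH hN
  rw [D.autE_inf_autS hS hF hQT hfn] at h1
  exact h1

theorem receptive [Finite S] {p : ℕ} [Fact p.Prime] (hS : IsPGroup p S)
    (hF : F.IsSaturated p) {Q : Subgroup Ω} (hQT : Q ≤ D.T) (hfn : F.IsFullyNormalized Q) :
    D.E.IsReceptive Q := by
  have hrec := receptive_of_fullyNormalized hS F hF hfn
  refine ⟨hQT, ?_⟩
  intro P φ hφ hr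
  have hφF := D.E_sub P hφ
  have hPT : P ≤ D.T := hom_le D.E hφ
  have hPS := hom_le F hφF
  have hNS : extender D.T P φ ≤ extender S P φ := extender_mono_left D.T_le φ
  have hNT : extender D.T P φ ≤ D.T :=
    (Cfsg.Agent.Lib.Helper84.extender_le P φ).trans inf_le_left
  obtain ⟨ψ, hψ, hext⟩ := extend_to_sub F hφF hr hrec hNS
  obtain ⟨g, hg⟩ := (D.hR.2 _ (hNT.trans D.T_le) ψ (hom_mem_S F hψ)).mp hψ
  obtain ⟨n, hn, hnφ⟩ := D.exists_of_mem_E hφ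
  have hPN : P ≤ extender D.T P φ := self_le_extender D.E hφ
  have hcomm : ∀ u : P, (n⁻¹ * g) * D.ι ⟨u, hPS u.2⟩ = D.ι ⟨u, hPS u.2⟩ * (n⁻¹ * g) := by
    intro u
    have h1 := hg ⟨u, hPN u.2⟩
    have h2 := hnφ u
    have h3 : ψ ⟨u, hPN u.2⟩ = φ u := hext u u.2 (hPN u.2)
    have h4 : D.ι ⟨ψ ⟨u, hPN u.2⟩, hom_mem_S F hψ _⟩ = D.ι ⟨φ u, hom_mem_S F hφF u⟩ := by
      congr 1
      exact Subtype.ext h3
    rw [h1, h2] at h4
    calc n⁻¹ * g * D.ι ⟨u, hPS u.2⟩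
        = n⁻¹ * (g * D.ι ⟨u, hPS u.2⟩ * g⁻¹) * g := by group
      _ = n⁻¹ * (n * D.ι ⟨u, hPS u.2⟩ * n⁻¹) * g := by rw [h4]
      _ = D.ι ⟨u, hPS u.2⟩ * (n⁻¹ * g) := by group
  obtain ⟨c, hc, hcg⟩ := D.key_conj hPS hφF hr hrec (n⁻¹ * g) hcomm
  rw [map_mul, map_inv, hn, inv_one, one_mul] at hcg
  have hcC := (Subgroup.mem_inf.mp hc).2
  rw [Subgroup.mem_centralizer_iff] at hcC
  have hT : ∀ x : extender D.T P φ, ((cj (c : Ω)⁻¹).comp ψ) x ∈ D.T := by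
    intro x
    show cj (c : Ω)⁻¹ (ψ x) ∈ D.T
    rw [cj_apply]
    exact D.T_normal (S.inv_mem c.2) (D.T_closed hψ (hNT x.2))
  refine ⟨(cj (c : Ω)⁻¹).comp ψ, ?_, ?_⟩
  · refine D.mem_E_of hNT hT ((D.ι c)⁻¹ * g)
      (by rw [map_mul, map_inv, D.hd, hcg, inv_mul_cancel]) ?_
    intro x
    have e : (⟨((cj (c : Ω)⁻¹).comp ψ) x, D.T_le (hT x)⟩ : S) =
        c⁻¹ * ⟨ψ x, hom_mem_S F hψ x⟩ * c := by
      apply Subtype.ext
      show cj (c : Ω)⁻¹ (ψ x) = _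
      rw [cj_apply, inv_inv]
      rfl
    rw [e, map_mul, map_mul, map_inv, hg x]
    group
  · intro x hP hNx
    show cj (c : Ω)⁻¹ (ψ ⟨x, hNx⟩) = φ ⟨x, hP⟩
    rw [hext x hP hNx, cj_apply, inv_inv]
    have hq : φ ⟨x, hP⟩ ∈ Q := hr ▸ ⟨_, rfl⟩
    have := hcC _ hq
    rw [mul_assoc, this, ← mul_assoc, inv_mul_cancel, one_mul]

/-- **Saturation** of the subsystem. -/
theorem isSaturated [Finite S] {p : ℕ} [Fact p.Prime] (hS : IsPGroup p S)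
    (hF : F.IsSaturated p) : D.E.IsSaturated p := by
  intro P hP
  have hPS := hP.trans D.T_le
  obtain ⟨P', ⟨φ, hφ, hr⟩, hfn⟩ := exists_fullyNormalized_conj F hPS
  obtain ⟨s, hs, hε⟩ := D.factor hP hφ
  have hQ : ((cj s⁻¹).comp φ).range = P'.map (cj s⁻¹) := by
    rw [MonoidHom.range_comp, hr]
  have hfnQ : F.IsFullyNormalized (P'.map (cj s⁻¹)) := fn_map_cj hfn (S.inv_mem hs)
  have hQT : P'.map (cj s⁻¹) ≤ D.T := by
    rw [← hQ]
    rintro _ ⟨x, rfl⟩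
    exact hom_mem_S D.E hε x
  exact ⟨_, ⟨_, hε, hQ⟩, D.fullyAutomized hS hF hQT hfnQ, D.receptive hS hF hQT hfnQ⟩

/-- the subsystem has `p`-power index -/
theorem hasPPowerIndex [Finite S] {p : ℕ} [Fact p.Prime] (hA : ∀ a : A, a ^ p = 1)
    (hhyp : F.hyperfocalSubgroup p ≤ D.T) : D.E.HasPPowerIndexIn F p := by
  refine ⟨D.E_sub, hhyp, ?_⟩
  intro P hPT
  have hPS := hPT.trans D.T_le
  rw [Subgroup.map_le_iff_le_comap]
  unfold pResidual
  rw [Subgroup.closure_le]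
  intro α hα
  have hα' : Nat.Coprime (orderOf α) p := hα
  show (α : MulAut P) ∈ D.E.autGroup P
  obtain ⟨j, hj⟩ := exists_pow_eq_self_of_coprime hα'.symm
  obtain ⟨g, hg⟩ := (D.mem_autF_iff hPS (α : MulAut P)).mp α.2
  have hpow : ∀ (k : ℕ) (x : P), D.ι ⟨(((α : MulAut P) ^ k) x : P), hPS ((((α : MulAut P) ^ k) x).2)⟩ =
      g ^ k * D.ι ⟨x, hPS x.2⟩ * (g ^ k)⁻¹ := by
    intro k
    induction k with
    | zero =>
      intro x
      simp
    | succ k ih =>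
      intro x
      have e : (((α : MulAut P) ^ (k + 1)) x : P) = ((α : MulAut P) ^ k) ((α : MulAut P) x) := by
        rw [pow_succ]
        rfl
      have h1 : D.ι ⟨((((α : MulAut P) ^ (k + 1)) x : P) : Ω),
          hPS ((((α : MulAut P) ^ (k + 1)) x).2)⟩ =
          D.ι ⟨((((α : MulAut P) ^ k) ((α : MulAut P) x) : P) : Ω),
            hPS ((((α : MulAut P) ^ k) ((α : MulAut P) x)).2)⟩ := by
        congr 2
      rw [h1, ih, hg x, pow_succ]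
      group
  have hαj : (α : MulAut P) = (α : MulAut P) ^ (p * j) := by
    have := congrArg (fun z : F.autGroup P => (z : MulAut P)) hj
    simp only [Subgroup.coe_pow] at this
    rw [pow_mul]
    exact this.symm
  rw [D.mem_autE_iff hPT]
  refine ⟨g ^ (p * j), by rw [map_pow, pow_mul, hA, one_pow], ?_⟩
  intro x
  have := hpow (p * j) x
  rw [← this]
  congr 2
  rw [← hαj]

end DegReal

end Cfsg.Agent.Lib.Helper84.PPow
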