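import Cfsg.Agent.Lib.Helper84.PPowKey2
import Cfsg.Agent.Lib.Helper84.PPowSat2
import Cfsg.Agent.Lib.Helper2.HomFp2
import Cfsg.Agent.Lib.Helper85.ResLimit1
import Cfsg.Agent.S5092

set_option autoImplicit false

/-!
# Existence of the saturated subsystems of `p`-power index
-/

namespace Cfsg.Agent.Lib.Helper84.PPow

open Cfsg Cfsg.FusionSystem
open Cfsg.Agent.Lib.Helper87 (restrict_mem hom_le hom_mem_S finite_of_le)
open Cfsg.Agent.Lib.Helper88
open scoped commutatorElement

variable {Ω : Type*} [Group Ω] {S : Subgroup Ω} {A : Type*} [CommGroup A] {F : FusionSystem S}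

/-- Park's group with the normalized degree map, as a realization with a degree map -/
noncomputable def Ctx.toDegReal [Finite S] {p : ℕ} [Fact p.Prime] (c : Ctx F A) (hS : IsPGroup p S)
    (hA : ∀ a : A, a ^ p = 1) (hsurj : Function.Surjective c.π) (k : ℕ)
    (hk : ∀ a : A, a ^ (Fintype.card (RtOrb c.m) * k) = a) : DegReal F A (ParkGroup c.m) where
  ι := parkι c.m
  hR := ⟨parkι_injective c.hgen c.x₀, fun P hP φ hφS =>
    ⟨fun hφ => park_conj_of_mem F c.m c.hgen c.hstab hP hφ,
     fun ⟨g, hg⟩ => park_mem_of_conj' F c.m c.hgen c.x₀ c.hx₀ hP hφS g hg⟩⟩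
  π := c.π
  d := (powMonoidHom k).comp c.degHom
  hd := fun s => by
    show (c.degHom (parkι c.m s)) ^ k = c.π s
    rw [c.degHom_parkι, ← pow_mul, hk]
  hsurj := hsurj
  key := fun P hPS B hCC g hg => by
    show (c.degHom g) ^ k ∈ B
    exact B.pow_mem (degHom_mem_of_comm hS hA c hPS B hCC g (CommP.of_comm hg)) k

/-- **The subsystem of index `p`.** -/
theorem exists_of_index_p [Finite S] {p : ℕ} [Fact p.Prime] (hS : IsPGroup p S) (F : FusionSystem S)
    (hF : F.IsSaturated p) (M : Subgroup S) [M.Normal] (hidx : M.index = p)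
    (hhyp : F.hyperfocalSubgroup p ≤ M.map S.subtype) :
    ∃ E : FusionSystem (M.map S.subtype), E.IsSaturated p ∧ E.HasPPowerIndexIn F p := by
  obtain ⟨l, hl⟩ := Cfsg.Agent.Lib.Helper2.exists_hom_ker_eq M hidx
  have hA : ∀ a : Multiplicative (ZMod p), a ^ p = 1 := Cfsg.Agent.Lib.Helper2.pow_p_eq_one_Fp
  have hsurj : Function.Surjective l := by
    rw [← MonoidHom.range_eq_top]
    apply Subgroup.eq_top_of_card_eq
    rw [← Subgroup.index_ker, hl, hidx, Cfsg.Agent.Lib.Helper2.card_Fp]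
  have hcomm : ⁅(S : Subgroup Ω), (S : Subgroup Ω)⁆ ≤ M.map S.subtype := by
    rw [Subgroup.commutator_le]
    intro a ha b hb
    refine ⟨⁅(⟨a, ha⟩ : S), ⟨b, hb⟩⁆, ?_, rfl⟩
    have h0 : ⁅(⟨a, ha⟩ : S), ⟨b, hb⟩⁆ ∈ l.ker := by
      rw [MonoidHom.mem_ker, map_commutatorElement]
      exact commutatorElement_eq_one_iff_commute.mpr (Commute.all _ _)
    rw [hl] at h0
    exact h0
  have hfoc : F.focalSubgroup ≤ M.map S.subtype := by
    rw [Cfsg.Agent.S5092.result p hS F hF]
    exact sup_le hhyp hcomm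
  have hstable : StableHom F l := by
    intro P φ hφ x
    have h1 : (x : Ω)⁻¹ * φ x ∈ F.focalSubgroup := Subgroup.subset_closure ⟨P, φ, x, hφ, rfl⟩
    obtain ⟨y, hyM, hy⟩ := hfoc h1
    have h2 : (⟨x, hom_le F hφ x.2⟩ : S)⁻¹ * ⟨φ x, hom_mem_S F hφ x⟩ = y := Subtype.ext hy.symm
    have h3 : l ((⟨x, hom_le F hφ x.2⟩ : S)⁻¹ * ⟨φ x, hom_mem_S F hφ x⟩) = 1 := by
      rw [h2, ← MonoidHom.mem_ker, hl]
      exact hyM
    rw [map_mul, map_inv, inv_mul_eq_one] at h3
    exact h3.symm
  obtain ⟨m, hgen, hstab, ⟨n, hcard, hn⟩, x₀, hx₀⟩ := exists_char_biset_pt hS F hF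
  let c : Ctx F (Multiplicative (ZMod p)) := ⟨m, hgen, hstab, x₀, hx₀, l, hstable⟩
  have hN : Fintype.card (RtOrb c.m) = n := by
    have h1 := c.card_rtOrb
    rw [hcard] at h1
    exact Nat.eq_of_mul_eq_mul_right Nat.card_pos h1
  have hp : p.Prime := Fact.out
  have hcop : Nat.Coprime (Fintype.card (RtOrb c.m)) p := by
    rw [hN]
    exact ((Nat.Prime.coprime_iff_not_dvd hp).mpr hn).symm
  obtain ⟨k, -, hk⟩ := Nat.exists_mul_mod_eq_one_of_coprime hcop hp.one_lt
  have hk' : ∀ a : Multiplicative (ZMod p), a ^ (Fintype.card (RtOrb c.m) * k) = a := by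
    intro a
    rw [← Nat.div_add_mod (Fintype.card (RtOrb c.m) * k) p, hk, pow_add, pow_mul, hA, one_pow,
      one_mul, pow_one]
  let D := c.toDegReal hS hA hsurj k hk'
  have hT : D.T = M.map S.subtype := by
    ext x
    rw [D.mem_T]
    constructor
    · rintro ⟨hx, h⟩
      refine ⟨⟨x, hx⟩, ?_, rfl⟩
      rw [← hl]
      exact MonoidHom.mem_ker.mpr h
    · rintro ⟨y, hy, rfl⟩
      rw [← hl] at hy
      exact ⟨y.2, MonoidHom.mem_ker.mp hy⟩
  have key : ∃ E : FusionSystem D.T, E.IsSaturated p ∧ E.HasPPowerIndexIn F p :=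
    ⟨D.E, D.isSaturated hS hF, D.hasPPowerIndex hA (hT ▸ hhyp)⟩
  rw [hT] at key
  exact key

/-- **Existence** of a saturated subsystem of `p`-power index over every subgroup containing the
hyperfocal subgroup. -/
theorem exists_ppower {p : ℕ} [Fact p.Prime] : ∀ (n : ℕ) (S : Subgroup Ω) [Finite S],
    IsPGroup p S → Nat.card S ≤ n → ∀ F : FusionSystem S, F.IsSaturated p → ∀ T : Subgroup Ω, T ≤ S →
      F.hyperfocalSubgroup p ≤ T →
      ∃ E : FusionSystem T, E.IsSaturated p ∧ E.HasPPowerIndexIn F p := by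
  intro n
  induction n with
  | zero =>
    intro S _ hS hn
    have := Nat.card_pos (α := S)
    omega
  | succ n ih =>
    intro S _ hS hn F hF T hTS hhyp
    by_cases hTeq : T = S
    · subst hTeq
      exact ⟨F, hF, fun P => subset_rfl, hhyp, fun P _ => Subgroup.map_subtype_le _⟩
    · have hne : T.subgroupOf S ≠ ⊤ := by
        intro h
        apply hTeq
        exact le_antisymm hTS (Subgroup.subgroupOf_eq_top.mp h)
      obtain ⟨M, hM, hTM⟩ := (eq_top_or_exists_le_coatom (T.subgroupOf S)).resolve_left hne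
      have : M.Normal := Cfsg.Agent.Lib.Helper2.coatom_normal hS M hM
      have hidx : M.index = p := by
        rw [Subgroup.index_eq_card]
        exact Cfsg.Agent.Lib.Helper2.coatom_card_quotient hS M hM
      have hTT₁ : T ≤ M.map S.subtype :=
        fun x hx => ⟨⟨x, hTS hx⟩, hTM (Subgroup.mem_subgroupOf.mpr hx), rfl⟩
      obtain ⟨E₁, hE₁s, hE₁i⟩ := exists_of_index_p hS F hF M hidx (hhyp.trans hTT₁)
      have hT₁S : M.map S.subtype ≤ S := Subgroup.map_subtype_le M
      have hfin : Finite (M.map S.subtype) := finite_of_le hT₁S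
      have hcard : Nat.card (M.map S.subtype) ≤ n := by
        have h1 : Nat.card (M.map S.subtype) = Nat.card M :=
          Subgroup.card_map_of_injective (Subgroup.subtype_injective S)
        have h2 := M.card_mul_index
        rw [hidx] at h2
        have hp2 : 2 ≤ p := (Fact.out : p.Prime).two_le
        have hpos : 0 < Nat.card M := Nat.card_pos
        nlinarith
      have hhyp₁ : E₁.hyperfocalSubgroup p ≤ T :=
        (Cfsg.Agent.Lib.Helper85.RL.hyperfocal_mono E₁ F p hE₁i.1).trans hhyp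
      obtain ⟨E, hEs, hEi⟩ := ih (M.map S.subtype) (hS.to_le hT₁S) hcard E₁ hE₁s T hTT₁ hhyp₁
      refine ⟨E, hEs, ?_, hhyp, ?_⟩
      · intro P φ hφ
        exact hE₁i.1 P (hEi.1 P hφ)
      · intro P hPT
        rw [Subgroup.map_le_iff_le_comap]
        unfold pResidual
        rw [Subgroup.closure_le]
        intro α hα
        have hα' : Nat.Coprime (orderOf α) p := hα
        show (α : MulAut P) ∈ E.autGroup P
        have h1 : (α : MulAut P) ∈ E₁.autGroup P :=
          hE₁i.2.2 P (hPT.trans hTT₁) ⟨α, Subgroup.subset_closure hα, rfl⟩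
        have h2 : (⟨α, h1⟩ : E₁.autGroup P) ∈ pResidual p (E₁.autGroup P) := by
          apply Subgroup.subset_closure
          show Nat.Coprime (orderOf (⟨(α : MulAut P), h1⟩ : E₁.autGroup P)) p
          have e1 : orderOf (⟨(α : MulAut P), h1⟩ : E₁.autGroup P) = orderOf (α : MulAut P) :=
            Subgroup.orderOf_mk _ _
          have e2 : orderOf (α : MulAut P) = orderOf α := Subgroup.orderOf_coe α
          rw [e1, e2]
          exact hα'
        exact hEi.2.2 P hPT ⟨⟨α, h1⟩, h2, rfl⟩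

end Cfsg.Agent.Lib.Helper84.PPow
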