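import Cfsg.Agent.Lib.Helper88.RealizedSub
import Cfsg.Agent.Lib.Helper87.Lemma26
import Cfsg.Agent.Lib.Helper85.GroupFusion
import Cfsg.Agent.Lib.Helper85.PPowerNormal1
import Cfsg.Agent.Lib.Helper85.DirectFactor

set_option autoImplicit false

/-!
# The subsystem of `p`-power index attached to a realization with a degree map

`F` is realized by `ι : S →* G`, and `d : G →* A` restricts along `ι` to a surjective `π : S →* A`, where
`A` has exponent `p`.  Under the key property of the centralizers, the subsystem induced by `ker d` over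
`ker π` is saturated of `p`-power index.
-/

namespace Cfsg.Agent.Lib.Helper84.PPow

open Cfsg Cfsg.FusionSystem
open Cfsg.Agent.Lib.Helper87 (restrict_mem hom_le hom_mem_S subtype_mem mem_autGroup_iff
  mem_autInducedBy_iff inv_exists isConj_trans finite_of_le autInducedBy_le_autGroup
  self_le_extender centralizerIn_le_extender' extend_to_sub fc_fa_of_fullyNormalized
  receptive_of_fullyNormalized exists_fullyNormalized_conj)
open Cfsg.Agent.Lib.Helper88 (preN mem_preN preN_le realSub mem_realSub)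
open Cfsg.Agent.Lib.Helper85 (cj cj_apply map_cj_of_mem map_cj_inf normalizer_map_cj card_map_cj
  range_conjHom SylIn autGroup_le_of_subsystem extender_mono_left)

variable {Ω : Type*} [Group Ω] {S : Subgroup Ω} {F : FusionSystem S} {A : Type*} [CommGroup A]
  {G : Type*} [Group G]

/-- conjugates in `S` of fully normalized subgroups are fully normalized -/
theorem fn_map_cj {P : Subgroup Ω} (hfn : F.IsFullyNormalized P) {s : Ω} (hs : s ∈ S) :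
    F.IsFullyNormalized (P.map (cj s)) := by
  have hPS := hfn.1
  have hQS : P.map (cj s) ≤ S := by
    have := Subgroup.map_mono (f := cj s) hPS
    rwa [map_cj_of_mem hs] at this
  have hconj : F.IsConj P (P.map (cj s)) := ⟨conjHom P s, F.conj_mem hPS hs, range_conjHom P s⟩
  refine ⟨hQS, fun R hR => ?_⟩
  have h1 := hfn.2 R (isConj_trans F hconj hR)
  have h2 : normalizerIn S (P.map (cj s)) = (normalizerIn S P).map (cj s) := by
    unfold normalizerIn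
    rw [map_cj_inf, map_cj_of_mem hs, normalizer_map_cj]
  rw [h2, card_map_cj]
  exact h1

/-- a realization of `F` with a degree map -/
structure DegReal (F : FusionSystem S) (A : Type*) [CommGroup A] (G : Type*) [Group G] where
  /-- the realizing map -/
  ι : S →* G
  hR : F.IsRealizedBy ι
  /-- the invariant homomorphism -/
  π : S →* A
  /-- the degree map -/
  d : G →* A
  hd : ∀ s, d (ι s) = π s
  hsurj : Function.Surjective π
  key : ∀ (P : Subgroup Ω) (hPS : P ≤ S) (B : Subgroup A),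
    (∀ χ : P →* Ω, χ ∈ F.Hom P → ∀ b : S, (∀ u : P, (b : Ω) * χ u = χ u * b) → π b ∈ B) →
    ∀ g : G, (∀ u : P, g * ι ⟨u, hPS u.2⟩ = ι ⟨u, hPS u.2⟩ * g) → d g ∈ B

namespace DegReal

variable (D : DegReal F A G)

/-- the kernel of `π`, as a subgroup of the ambient group -/
def T : Subgroup Ω := preN D.ι D.d.ker

theorem mem_T {x : Ω} : x ∈ D.T ↔ ∃ hx : x ∈ S, D.π ⟨x, hx⟩ = 1 := by
  unfold T
  rw [mem_preN]
  constructor
  · rintro ⟨hx, h⟩
    refine ⟨hx, ?_⟩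
    rw [← D.hd]
    exact MonoidHom.mem_ker.mp h
  · rintro ⟨hx, h⟩
    refine ⟨hx, MonoidHom.mem_ker.mpr ?_⟩
    rw [D.hd]
    exact h

theorem T_le : D.T ≤ S := preN_le _ _

/-- the subsystem -/
def E : FusionSystem D.T := realSub D.ι D.hR.1 D.d.ker

theorem π_stable {P : Subgroup Ω} {φ : P →* Ω} (hφ : φ ∈ F.Hom P) (x : P) :
    D.π ⟨φ x, hom_mem_S F hφ x⟩ = D.π ⟨x, hom_le F hφ x.2⟩ := by
  obtain ⟨g, hg⟩ := (D.hR.2 P (hom_le F hφ) φ (hom_mem_S F hφ)).mp hφ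
  rw [← D.hd, hg x, map_mul, map_mul, map_inv, D.hd, mul_comm, inv_mul_cancel_left]

theorem T_normal {s x : Ω} (hs : s ∈ S) (hx : x ∈ D.T) : s * x * s⁻¹ ∈ D.T := by
  obtain ⟨hxS, hπ⟩ := D.mem_T.mp hx
  refine D.mem_T.mpr ⟨S.mul_mem (S.mul_mem hs hxS) (S.inv_mem hs), ?_⟩
  have e : (⟨s * x * s⁻¹, S.mul_mem (S.mul_mem hs hxS) (S.inv_mem hs)⟩ : S) =
      ⟨s, hs⟩ * ⟨x, hxS⟩ * ⟨s, hs⟩⁻¹ := rfl
  rw [e, map_mul, map_mul, map_inv, hπ, mul_one, mul_inv_cancel]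

theorem T_closed {P : Subgroup Ω} {φ : P →* Ω} (hφ : φ ∈ F.Hom P) {x : P} (hx : (x : Ω) ∈ D.T) :
    φ x ∈ D.T := by
  obtain ⟨hxS, hπ⟩ := D.mem_T.mp hx
  exact D.mem_T.mpr ⟨hom_mem_S F hφ x, (D.π_stable hφ x).trans hπ⟩

theorem E_sub : D.E.IsSubsystemOf F := by
  intro P φ hφ
  obtain ⟨hP, hφT, n, hn, h⟩ := mem_realSub.mp hφ
  exact (D.hR.2 P (hP.trans D.T_le) φ (fun x => D.T_le (hφT x))).mpr ⟨n, fun x => h x _ _⟩

theorem mem_E_of {P : Subgroup Ω} (hP : P ≤ D.T) {φ : P →* Ω} (hφT : ∀ x, φ x ∈ D.T) (n : G)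
    (hn : D.d n = 1)
    (h : ∀ x : P, D.ι ⟨φ x, D.T_le (hφT x)⟩ = n * D.ι ⟨x, D.T_le (hP x.2)⟩ * n⁻¹) :
    φ ∈ D.E.Hom P :=
  mem_realSub.mpr ⟨hP, hφT, n, MonoidHom.mem_ker.mpr hn, fun x _ _ => h x⟩

theorem exists_of_mem_E {P : Subgroup Ω} {φ : P →* Ω} (hφ : φ ∈ D.E.Hom P) :
    ∃ n : G, D.d n = 1 ∧ ∀ x : P, D.ι ⟨φ x, hom_mem_S F (D.E_sub P hφ) x⟩ =
      n * D.ι ⟨x, hom_le F (D.E_sub P hφ) x.2⟩ * n⁻¹ := by
  obtain ⟨hP, hφT, n, hn, h⟩ := mem_realSub.mp hφ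
  exact ⟨n, MonoidHom.mem_ker.mp hn, fun x => h x _ _⟩

/-- every map of `F` between subgroups of `T` is a map of `E` followed by a conjugation in `S` -/
theorem factor {P : Subgroup Ω} (hP : P ≤ D.T) {φ : P →* Ω} (hφ : φ ∈ F.Hom P) :
    ∃ s : Ω, s ∈ S ∧ (cj s⁻¹).comp φ ∈ D.E.Hom P := by
  have hPS := hom_le F hφ
  obtain ⟨g, hg⟩ := (D.hR.2 P hPS φ (hom_mem_S F hφ)).mp hφ
  obtain ⟨s, hs⟩ := D.hsurj (D.d g)
  refine ⟨s, s.2, ?_⟩
  have hT : ∀ x : P, ((cj (s : Ω)⁻¹).comp φ) x ∈ D.T := by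
    intro x
    show cj (s : Ω)⁻¹ (φ x) ∈ D.T
    rw [cj_apply]
    exact D.T_normal (S.inv_mem s.2) (D.T_closed hφ (hP x.2))
  refine D.mem_E_of hP hT ((D.ι s)⁻¹ * g) (by rw [map_mul, map_inv, D.hd, hs, inv_mul_cancel]) ?_
  intro x
  have e : (⟨((cj (s : Ω)⁻¹).comp φ) x, D.T_le (hT x)⟩ : S) =
      s⁻¹ * ⟨φ x, hom_mem_S F hφ x⟩ * s := by
    apply Subtype.ext
    show cj (s : Ω)⁻¹ (φ x) = _
    rw [cj_apply, inv_inv]
    rfl
  rw [e, map_mul, map_mul, map_inv, hg x]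
  group

/-- the values of `π` on centralizers of images of a receptive subgroup -/
theorem cc_of_receptive {Q : Subgroup Ω} (hrec : F.IsReceptive Q) {χ : Q →* Ω} (hχ : χ ∈ F.Hom Q)
    (b : S) (hb : ∀ u : Q, (b : Ω) * χ u = χ u * b) :
    ∃ c : S, (c : Ω) ∈ centralizerIn S Q ∧ D.π c = D.π b := by
  obtain ⟨χ', hχ', hinv, hr⟩ := inv_exists F hχ (rfl : χ.range = χ.range)
  obtain ⟨ψ, hψ, hext⟩ := hrec.2 χ.range χ' hχ' hr
  have hbC : (b : Ω) ∈ centralizerIn S χ.range := by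
    refine Subgroup.mem_inf.mpr ⟨b.2, ?_⟩
    rw [Subgroup.mem_centralizer_iff]
    rintro _ ⟨u, rfl⟩
    exact (hb u).symm
  have hbN : (b : Ω) ∈ extender S χ.range χ' := centralizerIn_le_extender' χ.range χ' hbC
  refine ⟨⟨ψ ⟨b, hbN⟩, hom_mem_S F hψ _⟩,
    Subgroup.mem_inf.mpr ⟨hom_mem_S F hψ _, ?_⟩, D.π_stable hψ ⟨b, hbN⟩⟩
  rw [Subgroup.mem_centralizer_iff]
  intro q hq
  have hq' : q ∈ χ'.range := by rw [hr]; exact hq
  obtain ⟨r, rfl⟩ := hq'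
  have hrN : (r : Ω) ∈ extender S χ.range χ' := self_le_extender F hχ' r.2
  have h1 : ψ ⟨r, hrN⟩ = χ' r := hext r r.2 hrN
  show χ' r * ψ ⟨b, hbN⟩ = ψ ⟨b, hbN⟩ * χ' r
  rw [← h1, ← map_mul, ← map_mul]
  congr 1
  apply Subtype.ext
  show (r : Ω) * b = b * r
  obtain ⟨u, hu⟩ := r.2
  rw [← hu]
  exact (hb u).symm

/-- the degree of an element centralizing a conjugate of a receptive subgroup -/
theorem key_conj {P Q : Subgroup Ω} (hPS : P ≤ S) {φ : P →* Ω} (hφ : φ ∈ F.Hom P)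
    (hr : φ.range = Q) (hrec : F.IsReceptive Q) (g : G)
    (hg : ∀ u : P, g * D.ι ⟨u, hPS u.2⟩ = D.ι ⟨u, hPS u.2⟩ * g) :
    ∃ c : S, (c : Ω) ∈ centralizerIn S Q ∧ D.π c = D.d g := by
  have hB : ∀ χ : P →* Ω, χ ∈ F.Hom P → ∀ b : S, (∀ u : P, (b : Ω) * χ u = χ u * b) →
      D.π b ∈ ((centralizerIn S Q).subgroupOf S).map D.π := by
    intro χ hχ b hb
    obtain ⟨θ, hθ, hθinv, hθr⟩ := inv_exists F hφ hr
    have hθP : ∀ x : Q, θ x ∈ P := fun x => hθr ▸ ⟨x, rfl⟩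
    have hcomp := F.comp_mem hθ hχ hθP
    obtain ⟨c, hc, hcb⟩ := D.cc_of_receptive hrec hcomp b (fun u => hb _)
    exact ⟨c, Subgroup.mem_subgroupOf.mpr hc, hcb⟩
  obtain ⟨c, hc, hcg⟩ := D.key P hPS _ hB g hg
  exact ⟨c, Subgroup.mem_subgroupOf.mp hc, hcg⟩

end DegReal

end Cfsg.Agent.Lib.Helper84.PPow
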