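import Mathlib
import Cfsg.Prelude.Def_Classical
import Cfsg.Prelude.Def_LieClassical
import Cfsg.Agent.Lib.Helper65.UndDefs

/-!
# S5954 hive ("Und", owner helper65): leaves UND-BR2, UND-BR3, UND-BR4 and UND-N1
Bridges between matrices and the abstract layer.
-/

set_option autoImplicit false
set_option linter.unusedSectionVars false
set_option linter.style.haveILetI false
set_option linter.unusedVariables false

namespace Cfsg.Agent.Lib.Helper65.Und

open Cfsg.Agent.Lib.Helper40.Herm Cfsg.Agent.Lib.Helper2.BG Cfsg.Agent.Lib.Helper14.Tu Polynomial Module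

section br
variable {F : Type*} [Field F] [Fintype F] {q : ℕ}

theorem br2_map_le_iff (n : ℕ) (A : Matrix (Fin n) (Fin n) F) (w : F) (hw : w ≠ 0)
    (W : Submodule F (Fin n → F)) :
    W.map (Matrix.toLin' (w • A)) ≤ W ↔ W.map (Matrix.toLin' A) ≤ W := by
  constructor
  · rintro h _ ⟨x, hx, rfl⟩
    have h1 : Matrix.toLin' (w • A) x ∈ W := h ⟨x, hx, rfl⟩
    rw [map_smul, LinearMap.smul_apply] at h1
    exact (Submodule.smul_mem_iff W hw).mp h1
  · rintro h _ ⟨x, hx, rfl⟩
    rw [map_smul, LinearMap.smul_apply]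
    exact W.smul_mem w (h ⟨x, hx, rfl⟩)

/-- UND-BR2.  Scalar multiples fix the same subspaces. -/
theorem fixesNd_smul (n m : ℕ) (A : Matrix (Fin n) (Fin n) F) (w : F) (hw : w ≠ 0) :
    FixesNd n q m (w • A) ↔ FixesNd n q m A := by
  unfold FixesNd
  refine exists_congr fun W => ?_
  rw [br2_map_le_iff n A w hw W]

theorem br3_hermForm_smul (n : ℕ) (w : F) (u v : Fin n → F) :
    Cfsg.hermForm n F q (w • u) (w • v) = w ^ (q + 1) * Cfsg.hermForm n F q u v := by
  unfold Cfsg.hermForm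
  rw [Finset.mul_sum]
  refine Finset.sum_congr rfl fun i _ => ?_
  simp only [Pi.smul_apply, smul_eq_mul]
  ring

/-- UND-BR3.  `hermForm (w • u) (w • v) = w ^ (q+1) * hermForm u v`. -/
theorem isU_smul (n : ℕ) (A : Matrix (Fin n) (Fin n) F) (hA : IsU n q A) (w : F)
    (hw : w ^ (q + 1) = 1) : IsU n q (w • A) := by
  intro u v
  rw [Matrix.smul_mulVec, Matrix.smul_mulVec, br3_hermForm_smul, hw, one_mul, hA u v]

theorem br4_isU_one (n : ℕ) : IsU n q (1 : Matrix (Fin n) (Fin n) F) := by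
  intro u v
  rw [Matrix.one_mulVec, Matrix.one_mulVec]

theorem br4_isU_mul (n : ℕ) (A B : Matrix (Fin n) (Fin n) F) (hA : IsU n q A) (hB : IsU n q B) :
    IsU n q (A * B) := by
  intro u v
  rw [← Matrix.mulVec_mulVec, ← Matrix.mulVec_mulVec, hA, hB]

theorem br4_isU_pow (n : ℕ) (A : Matrix (Fin n) (Fin n) F) (hA : IsU n q A) (r : ℕ) :
    IsU n q (A ^ r) := by
  induction r with
  | zero => rw [pow_zero]; exact br4_isU_one n
  | succ k ih => rw [pow_succ]; exact br4_isU_mul n _ _ ih hA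

theorem br4_hermForm_single (n : ℕ) (i : Fin n) :
    Cfsg.hermForm n F q (Pi.single i 1) (Pi.single i 1) = 1 := by
  unfold Cfsg.hermForm
  rw [Finset.sum_eq_single i]
  · simp
  · intro j _ hj
    simp [Pi.single_eq_of_ne hj]
  · intro h
    exact absurd (Finset.mem_univ i) h

/-- UND-BR4.  `A ^ r = z • 1` unitary of determinant one: `z ^ (q+1) = 1` (apply unitarity of `A ^ r` to a basis
vector) and `z ^ n = det (A ^ r) = 1`. -/
theorem scalar_facts (hq : Fintype.card F = q ^ 2) (n : ℕ) (hn : 0 < n)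
    (A : Matrix (Fin n) (Fin n) F) (hA : IsU n q A) (hdet : A.det = 1) (r : ℕ) (z : F)
    (hz : A ^ r = z • (1 : Matrix (Fin n) (Fin n) F)) : z ^ (q + 1) = 1 ∧ z ^ n = 1 := by
  constructor
  · have h1 := br4_isU_pow (q := q) n A hA r
    rw [hz] at h1
    have h2 := h1 (Pi.single ⟨0, hn⟩ 1) (Pi.single ⟨0, hn⟩ 1)
    rw [Matrix.smul_mulVec, Matrix.one_mulVec, br3_hermForm_smul, br4_hermForm_single,
      mul_one] at h2
    exact h2
  · have h1 : (A ^ r).det = 1 := by rw [Matrix.det_pow, hdet, one_pow]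
    rw [hz, Matrix.det_smul, Matrix.det_one, mul_one, Fintype.card_fin] at h1
    exact h1

end br

section cnt
variable {F : Type*} [Field F] [Fintype F] {p : ℕ} [Fact p.Prime] [CharP F p] {q : ℕ}

/-- UND-N1. -/
theorem orderOf_eq_two_iff (r : ℕ) (hr : r.Prime) (hr2 : r ≠ 2) (q : ℕ) :
    orderOf (q : ZMod r) = 2 ↔ r ∣ q + 1 := by
  haveI : Fact r.Prime := ⟨hr⟩
  haveI : Fact (2 < r) := ⟨lt_of_le_of_ne hr.two_le (Ne.symm hr2)⟩
  have key : r ∣ q + 1 ↔ (q : ZMod r) = -1 := by
    rw [← ZMod.natCast_eq_zero_iff, Nat.cast_add, Nat.cast_one, add_eq_zero_iff_eq_neg]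
  rw [key]
  constructor
  · intro h
    have h2 : (q : ZMod r) ^ 2 = 1 := by rw [← h]; exact pow_orderOf_eq_one _
    have h1 : (q : ZMod r) ≠ 1 := by
      intro h1
      rw [h1, orderOf_one] at h
      omega
    rcases sq_eq_one_iff.mp h2 with h3 | h3
    · exact absurd h3 h1
    · exact h3
  · intro h
    rw [h]
    refine orderOf_eq_prime (by simp) ZMod.neg_one_ne_one

end cnt

end Cfsg.Agent.Lib.Helper65.Und
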