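import Cfsg.Prelude.Def_RootSubgroups
import Mathlib

/-!
Unipotent linear groups via the augmentation span in `End M`
(`Cfsg.IsUnipotentOn H ↔ ∃ n, aug H ^ n = ⊥`), the unipotent group `unip 𝔫` of a nil algebra,
nilpotency of unipotent groups, and the product lemma (`D` unipotent normalised by unipotent `Y`
gives `D ⊔ Y` unipotent).
-/

set_option autoImplicit false

namespace Cfsg.Agent.Lib.Helper84.UP

variable {k : Type*} [Field k] {M : Type*} [AddCommGroup M] [Module k M]

/-- the span of the `g - 1`, `g ∈ H`, in `End M`. -/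
def aug (H : Subgroup (LinearMap.GeneralLinearGroup k M)) : Submodule k (Module.End k M) :=
  Submodule.span k {x | ∃ g ∈ H, x = (g : Module.End k M) - 1}

theorem sub_one_mem_aug {H : Subgroup (LinearMap.GeneralLinearGroup k M)}
    {g : LinearMap.GeneralLinearGroup k M} (hg : g ∈ H) : (g : Module.End k M) - 1 ∈ aug H :=
  Submodule.subset_span ⟨g, hg, rfl⟩

theorem aug_mono {H K : Subgroup (LinearMap.GeneralLinearGroup k M)} (h : H ≤ K) :
    aug H ≤ aug K :=
  Submodule.span_mono (by rintro _ ⟨g, hg, rfl⟩; exact ⟨g, h hg, rfl⟩)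

theorem aug_le_iff {H : Subgroup (LinearMap.GeneralLinearGroup k M)}
    {𝔫 : Submodule k (Module.End k M)} :
    aug H ≤ 𝔫 ↔ ∀ g ∈ H, (g : Module.End k M) - 1 ∈ 𝔫 := by
  constructor
  · intro h g hg
    exact h (sub_one_mem_aug hg)
  · intro h
    refine Submodule.span_le.2 ?_
    rintro _ ⟨g, hg, rfl⟩
    exact h g hg

theorem aug_mul_le (H : Subgroup (LinearMap.GeneralLinearGroup k M)) :
    aug H * aug H ≤ aug H := by
  unfold aug
  rw [Submodule.span_mul_span]
  refine Submodule.span_le.2 ?_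
  rintro _ ⟨_, ⟨g, hg, rfl⟩, _, ⟨h, hh, rfl⟩, rfl⟩
  have e : ((g : Module.End k M) - 1) * ((h : Module.End k M) - 1)
      = (((g * h : LinearMap.GeneralLinearGroup k M) : Module.End k M) - 1)
        - ((g : Module.End k M) - 1) - ((h : Module.End k M) - 1) := by
    rw [Units.val_mul]; noncomm_ring
  show ((g : Module.End k M) - 1) * ((h : Module.End k M) - 1) ∈ Submodule.span k _
  rw [e]
  exact sub_mem (sub_mem (Submodule.subset_span ⟨g * h, H.mul_mem hg hh, rfl⟩)
    (Submodule.subset_span ⟨g, hg, rfl⟩)) (Submodule.subset_span ⟨h, hh, rfl⟩)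

theorem list_prod_mem_pow (𝔫 : Submodule k (Module.End k M)) :
    ∀ l : List (Module.End k M), (∀ x ∈ l, x ∈ 𝔫) → l.prod ∈ 𝔫 ^ l.length := by
  intro l
  induction l with
  | nil =>
    intro _
    simp only [List.prod_nil, List.length_nil, pow_zero]
    exact Submodule.one_le.1 le_rfl
  | cons a l ih =>
    intro h
    rw [List.prod_cons, List.length_cons, pow_succ']
    exact Submodule.mul_mem_mul (h a (by simp)) (ih fun x hx => h x (by simp [hx]))

theorem flatMap_single_eq_map {α β : Type*} (f : α → β) (l : List α) :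
    List.flatMap (fun a => [f a]) l = l.map f := by
  induction l with
  | nil => rfl
  | cons a l ih => simp [List.flatMap_cons, ih]

/-- the definition, with the coercion of the list spelled out as a `map`. -/
theorem isUnipotentOn_def (H : Subgroup (LinearMap.GeneralLinearGroup k M)) :
    Cfsg.IsUnipotentOn H ↔
      ∃ n : ℕ, ∀ l : List (LinearMap.GeneralLinearGroup k M), (∀ g ∈ l, g ∈ H) → l.length = n →
        (l.map fun g : LinearMap.GeneralLinearGroup k M => (g : Module.End k M) - 1).prod = 0 := by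
  unfold Cfsg.IsUnipotentOn
  simp only [List.bind_eq_flatMap, List.pure_def, flatMap_single_eq_map, List.map_map,
    Function.comp_def]

theorem isUnipotentOn_iff (H : Subgroup (LinearMap.GeneralLinearGroup k M)) :
    Cfsg.IsUnipotentOn H ↔ ∃ n : ℕ, aug H ^ n = ⊥ := by
  rw [isUnipotentOn_def]
  constructor
  · rintro ⟨n, hn⟩
    refine ⟨n, ?_⟩
    unfold aug
    rw [Submodule.span_pow, Submodule.span_eq_bot]
    intro x hx
    rw [Set.mem_pow] at hx
    obtain ⟨f, rfl⟩ := hx
    have hf : ∀ i : Fin n, ∃ g ∈ H, (f i : Module.End k M) = (g : Module.End k M) - 1 :=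
      fun i => (f i).2
    choose g hg hfg using hf
    have := hn (List.ofFn g) (by
      intro x hx
      rw [List.mem_ofFn] at hx
      obtain ⟨i, rfl⟩ := hx
      exact hg i) (by simp)
    rw [List.map_ofFn] at this
    rw [← this]
    congr 1
    congr 1
    funext i
    exact hfg i
  · rintro ⟨n, hn⟩
    refine ⟨n, fun l hl hlen => ?_⟩
    have h1 := list_prod_mem_pow (aug H)
      (l.map fun g : LinearMap.GeneralLinearGroup k M => (g : Module.End k M) - 1) (by
      intro x hx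
      rw [List.mem_map] at hx
      obtain ⟨g, hg, rfl⟩ := hx
      exact sub_one_mem_aug (hl g hg))
    rw [List.length_map, hlen, hn, Submodule.mem_bot] at h1
    exact h1

/-- a nilpotent multiplicatively closed subspace of `End M`. -/
structure IsNilAlg (𝔫 : Submodule k (Module.End k M)) : Prop where
  mul_le : 𝔫 * 𝔫 ≤ 𝔫
  nil : ∃ n : ℕ, 𝔫 ^ n = ⊥

theorem isNilAlg_aug {H : Subgroup (LinearMap.GeneralLinearGroup k M)}
    (h : Cfsg.IsUnipotentOn H) : IsNilAlg (aug H) :=
  ⟨aug_mul_le H, (isUnipotentOn_iff H).1 h⟩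

namespace IsNilAlg

variable {𝔫 : Submodule k (Module.End k M)}

theorem pow_succ_succ_le (h : IsNilAlg 𝔫) (i : ℕ) : 𝔫 ^ (i + 2) ≤ 𝔫 ^ (i + 1) := by
  rw [pow_succ 𝔫 (i + 1), pow_succ 𝔫 i, mul_assoc]
  exact mul_le_mul' le_rfl h.mul_le

theorem pow_add_le (h : IsNilAlg 𝔫) (i d : ℕ) : 𝔫 ^ (i + 1 + d) ≤ 𝔫 ^ (i + 1) := by
  induction d with
  | zero => exact le_rfl
  | succ d ih =>
    have : i + 1 + (d + 1) = (i + d) + 2 := by ring
    rw [this]
    refine (h.pow_succ_succ_le (i + d)).trans ?_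
    have : i + d + 1 = i + 1 + d := by ring
    rw [this]
    exact ih

theorem pow_le_pow (h : IsNilAlg 𝔫) {i j : ℕ} (hi : 1 ≤ i) (hij : i ≤ j) : 𝔫 ^ j ≤ 𝔫 ^ i := by
  obtain ⟨i, rfl⟩ : ∃ i', i = i' + 1 := ⟨i - 1, by omega⟩
  obtain ⟨d, rfl⟩ : ∃ d, j = i + 1 + d := ⟨j - (i + 1), by omega⟩
  exact h.pow_add_le i d

theorem pow_le_self (h : IsNilAlg 𝔫) {j : ℕ} (hj : 1 ≤ j) : 𝔫 ^ j ≤ 𝔫 := by
  have := h.pow_le_pow (le_refl 1) hj
  rwa [pow_one] at this

theorem pow (h : IsNilAlg 𝔫) (j : ℕ) : IsNilAlg (𝔫 ^ (j + 1)) := by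
  refine ⟨?_, ?_⟩
  · rw [← pow_add]
    exact h.pow_le_pow (by omega) (by omega)
  · obtain ⟨n, hn⟩ := h.nil
    refine ⟨n, ?_⟩
    rw [← pow_mul, mul_comm, pow_mul, hn, pow_succ, Submodule.mul_bot]

end IsNilAlg

/-- inverse closure: if `g - 1` lies in the nil algebra `𝔫` then so does `g⁻¹ - 1`. -/
theorem inv_sub_one_mem {𝔫 : Submodule k (Module.End k M)} (h : IsNilAlg 𝔫)
    {g : LinearMap.GeneralLinearGroup k M} (hg : (g : Module.End k M) - 1 ∈ 𝔫) :
    ((g⁻¹ : LinearMap.GeneralLinearGroup k M) : Module.End k M) - 1 ∈ 𝔫 := by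
  obtain ⟨n, hn⟩ := h.nil
  set x : Module.End k M := (g : Module.End k M) - 1 with hx
  set y : Module.End k M := ((g⁻¹ : LinearMap.GeneralLinearGroup k M) : Module.End k M) - 1 with hy
  have hrec : y = -x - y * x := by
    have h1 : ((g⁻¹ : LinearMap.GeneralLinearGroup k M) : Module.End k M) * (g : Module.End k M) = 1 := by
      rw [← Units.val_mul, inv_mul_cancel, Units.val_one]
    rw [hx, hy]
    have : (((g⁻¹ : LinearMap.GeneralLinearGroup k M) : Module.End k M) - 1)
        * ((g : Module.End k M) - 1)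
        = ((g⁻¹ : LinearMap.GeneralLinearGroup k M) : Module.End k M) * (g : Module.End k M)
          - ((g⁻¹ : LinearMap.GeneralLinearGroup k M) : Module.End k M) - (g : Module.End k M) + 1 := by
      noncomm_ring
    rw [this, h1]
    abel
  have hpow : ∀ j : ℕ, x ^ (j + 1) ∈ 𝔫 := fun j =>
    h.pow_le_self (by omega) (Submodule.pow_mem_pow 𝔫 hg (j + 1))
  have key : ∀ d : ℕ, y * x ^ (n - d) ∈ 𝔫 := by
    intro d
    induction d with
    | zero =>
      have : x ^ n = 0 := by
        have := Submodule.pow_mem_pow 𝔫 hg n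
        rwa [hn, Submodule.mem_bot] at this
      rw [Nat.sub_zero, this, mul_zero]
      exact 𝔫.zero_mem
    | succ d ih =>
      by_cases hd : n - d = 0
      · have : n - (d + 1) = 0 := by omega
        rw [this]; rw [hd] at ih; exact ih
      · have e : n - d = (n - (d + 1)) + 1 := by omega
        rw [e] at ih
        have : y * x ^ (n - (d + 1)) = -(x ^ (n - (d + 1) + 1)) - y * x ^ (n - (d + 1) + 1) := by
          conv_lhs => rw [hrec]
          rw [pow_succ']
          noncomm_ring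
        rw [this]
        exact sub_mem (neg_mem (hpow _)) ih
  have := key n
  rwa [Nat.sub_self, pow_zero, mul_one] at this

/-- the group of all `g` with `g - 1` in the nil algebra `𝔫`. -/
def unip (𝔫 : Submodule k (Module.End k M)) (h : IsNilAlg 𝔫) :
    Subgroup (LinearMap.GeneralLinearGroup k M) where
  carrier := {g | (g : Module.End k M) - 1 ∈ 𝔫}
  one_mem' := by
    show ((1 : LinearMap.GeneralLinearGroup k M) : Module.End k M) - 1 ∈ 𝔫
    rw [Units.val_one, sub_self]
    exact 𝔫.zero_mem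
  mul_mem' := by
    intro a b ha hb
    show ((a * b : LinearMap.GeneralLinearGroup k M) : Module.End k M) - 1 ∈ 𝔫
    have e : ((a * b : LinearMap.GeneralLinearGroup k M) : Module.End k M) - 1
        = ((a : Module.End k M) - 1) * ((b : Module.End k M) - 1)
          + ((a : Module.End k M) - 1) + ((b : Module.End k M) - 1) := by
      rw [Units.val_mul]; noncomm_ring
    rw [e]
    exact add_mem (add_mem (h.mul_le (Submodule.mul_mem_mul ha hb)) ha) hb
  inv_mem' := by
    intro a ha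
    exact inv_sub_one_mem h ha

theorem mem_unip {𝔫 : Submodule k (Module.End k M)} (h : IsNilAlg 𝔫)
    {g : LinearMap.GeneralLinearGroup k M} : g ∈ unip 𝔫 h ↔ (g : Module.End k M) - 1 ∈ 𝔫 :=
  Iff.rfl

theorem le_unip_iff {𝔫 : Submodule k (Module.End k M)} (h : IsNilAlg 𝔫)
    {H : Subgroup (LinearMap.GeneralLinearGroup k M)} : H ≤ unip 𝔫 h ↔ aug H ≤ 𝔫 := by
  rw [aug_le_iff]
  exact Iff.rfl

theorem isUnipotentOn_of_aug_le {𝔫 : Submodule k (Module.End k M)} (h : IsNilAlg 𝔫)
    {H : Subgroup (LinearMap.GeneralLinearGroup k M)} (hH : aug H ≤ 𝔫) : Cfsg.IsUnipotentOn H := by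
  rw [isUnipotentOn_iff]
  obtain ⟨n, hn⟩ := h.nil
  refine ⟨n, ?_⟩
  have := pow_le_pow_left' hH n
  rw [hn] at this
  exact le_bot_iff.1 this

theorem isUnipotentOn_of_le_unip {𝔫 : Submodule k (Module.End k M)} (h : IsNilAlg 𝔫)
    {H : Subgroup (LinearMap.GeneralLinearGroup k M)} (hH : H ≤ unip 𝔫 h) :
    Cfsg.IsUnipotentOn H :=
  isUnipotentOn_of_aug_le h ((le_unip_iff h).1 hH)

theorem isUnipotentOn_mono {H K : Subgroup (LinearMap.GeneralLinearGroup k M)} (hHK : H ≤ K)
    (hK : Cfsg.IsUnipotentOn K) : Cfsg.IsUnipotentOn H :=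
  isUnipotentOn_of_aug_le (isNilAlg_aug hK) (aug_mono hHK)

theorem le_unip_aug {H : Subgroup (LinearMap.GeneralLinearGroup k M)}
    (h : Cfsg.IsUnipotentOn H) : H ≤ unip (aug H) (isNilAlg_aug h) :=
  (le_unip_iff _).2 le_rfl

theorem aug_unip_le {𝔫 : Submodule k (Module.End k M)} (h : IsNilAlg 𝔫) :
    aug (unip 𝔫 h) ≤ 𝔫 :=
  (le_unip_iff h).1 le_rfl

/-- right multiplication by an element of `1 + 𝔫` preserves the powers of `𝔫`. -/
theorem mul_unit_mem_pow {𝔫 : Submodule k (Module.End k M)} (h : IsNilAlg 𝔫) {i : ℕ}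
    {c u : Module.End k M} (hc : c ∈ 𝔫 ^ (i + 1)) (hu : u - 1 ∈ 𝔫) : c * u ∈ 𝔫 ^ (i + 1) := by
  have e : c * u = c + c * (u - 1) := by noncomm_ring
  rw [e]
  refine add_mem hc ?_
  have : c * (u - 1) ∈ 𝔫 ^ (i + 1) * 𝔫 := Submodule.mul_mem_mul hc hu
  rw [← pow_succ] at this
  exact h.pow_succ_succ_le i this

/-- unipotent groups are nilpotent. -/
theorem isNilpotent_unip {𝔫 : Submodule k (Module.End k M)} (h : IsNilAlg 𝔫) :
    Group.IsNilpotent (unip 𝔫 h) := by
  rw [Subgroup.nilpotent_iff_finite_descending_central_series]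
  obtain ⟨n, hn⟩ := h.nil
  refine ⟨n, fun j => (unip (𝔫 ^ (j + 1)) (h.pow j)).subgroupOf (unip 𝔫 h), ⟨?_, ?_⟩, ?_⟩
  · rw [Subgroup.subgroupOf_eq_top]
    intro g hg
    rw [mem_unip] at hg ⊢
    rwa [zero_add, pow_one]
  · intro x j hx g
    rw [commutatorElement_def]
    rw [Subgroup.mem_subgroupOf] at hx ⊢
    rw [mem_unip] at hx ⊢
    have hx1 : ((x : LinearMap.GeneralLinearGroup k M) : Module.End k M) - 1 ∈ 𝔫 :=
      h.pow_le_self (by omega) hx
    have hg1 : ((g : LinearMap.GeneralLinearGroup k M) : Module.End k M) - 1 ∈ 𝔫 := g.2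
    set X : Module.End k M := ((x : LinearMap.GeneralLinearGroup k M) : Module.End k M) with hX
    set Y : Module.End k M := ((g : LinearMap.GeneralLinearGroup k M) : Module.End k M) with hY
    set X' : Module.End k M :=
      (((x : LinearMap.GeneralLinearGroup k M)⁻¹ : LinearMap.GeneralLinearGroup k M) :
        Module.End k M) with hX'
    set Y' : Module.End k M :=
      (((g : LinearMap.GeneralLinearGroup k M)⁻¹ : LinearMap.GeneralLinearGroup k M) :
        Module.End k M) with hY'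
    have hXX' : X * X' = 1 := by
      rw [hX, hX', ← Units.val_mul, mul_inv_cancel, Units.val_one]
    have hYY' : Y * Y' = 1 := by
      rw [hY, hY', ← Units.val_mul, mul_inv_cancel, Units.val_one]
    have hX'1 : X' - 1 ∈ 𝔫 := inv_sub_one_mem h hx1
    have hY'1 : Y' - 1 ∈ 𝔫 := inv_sub_one_mem h hg1
    have e : (((x * g * x⁻¹ * g⁻¹ : unip 𝔫 h) : LinearMap.GeneralLinearGroup k M) :
        Module.End k M) - 1 = ((X - 1) * (Y - 1) - (Y - 1) * (X - 1)) * X' * Y' := by
      have e1 : (((x * g * x⁻¹ * g⁻¹ : unip 𝔫 h) : LinearMap.GeneralLinearGroup k M) :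
          Module.End k M) = X * Y * X' * Y' := by
        simp only [Subgroup.coe_mul, Subgroup.coe_inv, Units.val_mul, hX, hY, hX', hY']
      rw [e1]
      have e2 : ((X - 1) * (Y - 1) - (Y - 1) * (X - 1)) * X' * Y'
          = X * Y * X' * Y' - Y * (X * X') * Y' := by noncomm_ring
      rw [e2, hXX', mul_one, hYY']
    rw [e]
    have hc : (X - 1) * (Y - 1) - (Y - 1) * (X - 1) ∈ 𝔫 ^ (j + 1 + 1) := by
      refine sub_mem ?_ ?_
      · rw [pow_succ 𝔫 (j + 1)]
        exact Submodule.mul_mem_mul hx hg1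
      · rw [pow_succ' 𝔫 (j + 1)]
        exact Submodule.mul_mem_mul hg1 hx
    exact mul_unit_mem_pow h (mul_unit_mem_pow h hc hX'1) hY'1
  · rw [Subgroup.subgroupOf_eq_bot]
    rw [disjoint_iff, eq_bot_iff]
    intro g hg
    rw [Subgroup.mem_inf] at hg
    have h1 := hg.1
    rw [mem_unip, pow_succ, hn, Submodule.bot_mul, Submodule.mem_bot, sub_eq_zero] at h1
    rw [Subgroup.mem_bot]
    exact Units.ext h1

theorem isNilpotent_of_isUnipotentOn {H : Subgroup (LinearMap.GeneralLinearGroup k M)}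
    (h : Cfsg.IsUnipotentOn H) : Group.IsNilpotent H := by
  have := isNilpotent_unip (isNilAlg_aug h)
  refine Subgroup.isNilpotent_of_ker_le_center (Subgroup.inclusion (le_unip_aug h)) ?_
  rw [(MonoidHom.ker_eq_bot_iff _).2 (Subgroup.inclusion_injective _)]
  exact bot_le

/-- an abstract product lemma in the semiring of subspaces of `End M`. -/
theorem isNilAlg_of_comm {𝔡 𝔶 : Submodule k (Module.End k M)} (hd : IsNilAlg 𝔡)
    (hy : IsNilAlg 𝔶) (hR : 𝔶 * 𝔡 ≤ 𝔡 * 𝔶 ⊔ 𝔡) : IsNilAlg (𝔡 * (1 ⊔ 𝔶) ⊔ 𝔶) := by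
  set u : Submodule k (Module.End k M) := 1 ⊔ 𝔶 with hu
  have h1u : (1 : Submodule k (Module.End k M)) ≤ u := le_sup_left
  have hyu : 𝔶 ≤ u := le_sup_right
  have huu : u * u ≤ u := by
    rw [hu, Submodule.sup_mul, Submodule.mul_sup, Submodule.mul_sup, one_mul, one_mul, mul_one]
    exact sup_le (sup_le le_sup_left le_sup_right) (sup_le le_sup_right (hy.mul_le.trans le_sup_right))
  have hud : u * 𝔡 ≤ 𝔡 * u := by
    rw [hu, Submodule.sup_mul, Submodule.mul_sup, one_mul, mul_one]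
    exact sup_le le_sup_left (hR.trans (sup_le le_sup_right le_sup_left))
  set 𝔦 : Submodule k (Module.End k M) := 𝔡 * u with h𝔦
  have hiu : 𝔦 * u ≤ 𝔦 := by
    rw [h𝔦, mul_assoc]
    exact mul_le_mul' le_rfl huu
  have hui : u * 𝔦 ≤ 𝔦 := by
    rw [h𝔦, ← mul_assoc]
    refine (mul_le_mul' hud le_rfl).trans ?_
    rw [mul_assoc]
    exact mul_le_mul' le_rfl huu
  have hii : 𝔦 * 𝔦 ≤ 𝔦 := by
    have : 𝔦 * 𝔦 = 𝔡 * (u * 𝔦) := by rw [h𝔦]; simp only [mul_assoc]
    rw [this]
    refine (mul_le_mul' le_rfl hui).trans ?_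
    rw [h𝔦, ← mul_assoc]
    exact mul_le_mul' hd.mul_le le_rfl
  have hiy : 𝔦 * 𝔶 ≤ 𝔦 := (mul_le_mul' le_rfl hyu).trans hiu
  have hyi : 𝔶 * 𝔦 ≤ 𝔦 := (mul_le_mul' hyu le_rfl).trans hui
  have hipow : ∀ j : ℕ, 𝔦 ^ j ≤ 𝔡 ^ j * u := by
    intro j
    induction j with
    | zero => rw [pow_zero, pow_zero, one_mul]; exact h1u
    | succ j ih =>
      rw [pow_succ, pow_succ]
      refine (mul_le_mul' ih le_rfl).trans ?_
      have : 𝔡 ^ j * u * 𝔦 = 𝔡 ^ j * (u * 𝔡 * u) := by rw [h𝔦]; simp only [mul_assoc]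
      rw [this]
      refine (mul_le_mul' le_rfl (mul_le_mul' hud le_rfl)).trans ?_
      have : 𝔡 ^ j * (𝔡 * u * u) = 𝔡 ^ j * 𝔡 * (u * u) := by simp only [mul_assoc]
      rw [this]
      exact mul_le_mul' le_rfl huu
  refine ⟨?_, ?_⟩
  · rw [Submodule.sup_mul, Submodule.mul_sup, Submodule.mul_sup]
    exact sup_le (sup_le (hii.trans le_sup_left) (hiy.trans le_sup_left))
      (sup_le (hyi.trans le_sup_left) (hy.mul_le.trans le_sup_right))
  · obtain ⟨m, hm⟩ := hd.nil
    obtain ⟨n, hn⟩ := hy.nil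
    have hepow : ∀ j : ℕ, (𝔦 ⊔ 𝔶) ^ (j + 1) ≤ 𝔦 ⊔ 𝔶 ^ (j + 1) := by
      intro j
      induction j with
      | zero => rw [zero_add, pow_one, pow_one]
      | succ j ih =>
        rw [pow_succ _ (j + 1)]
        refine (mul_le_mul' ih le_rfl).trans ?_
        rw [Submodule.sup_mul, Submodule.mul_sup, Submodule.mul_sup]
        refine sup_le (sup_le (hii.trans le_sup_left) (hiy.trans le_sup_left))
          (sup_le ?_ ?_)
        · refine le_trans ?_ (hyi.trans le_sup_left)
          exact mul_le_mul' (hy.pow_le_self (by omega)) le_rfl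
        · rw [← pow_succ]
          exact le_sup_right
    refine ⟨(n + 1) * m, ?_⟩
    rw [pow_mul]
    have h1 : (𝔦 ⊔ 𝔶) ^ (n + 1) ≤ 𝔦 := by
      refine (hepow n).trans (sup_le le_rfl ?_)
      rw [pow_succ, hn, Submodule.bot_mul]
      exact bot_le
    have h2 := (pow_le_pow_left' h1 m).trans (hipow m)
    rw [hm, Submodule.bot_mul] at h2
    exact le_bot_iff.1 h2

theorem conj_mem_aug {D : Subgroup (LinearMap.GeneralLinearGroup k M)}
    {y : LinearMap.GeneralLinearGroup k M} (hy : ∀ d ∈ D, y * d * y⁻¹ ∈ D)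
    {b : Module.End k M} (hb : b ∈ aug D) :
    (y : Module.End k M) * b * ((y⁻¹ : LinearMap.GeneralLinearGroup k M) : Module.End k M)
      ∈ aug D := by
  unfold aug at hb
  induction hb using Submodule.span_induction with
  | mem x hx =>
    obtain ⟨d, hd, rfl⟩ := hx
    have e : (y : Module.End k M) * ((d : Module.End k M) - 1)
        * ((y⁻¹ : LinearMap.GeneralLinearGroup k M) : Module.End k M)
        = ((y * d * y⁻¹ : LinearMap.GeneralLinearGroup k M) : Module.End k M) - 1 := by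
      have h1 : (y : Module.End k M)
          * ((y⁻¹ : LinearMap.GeneralLinearGroup k M) : Module.End k M) = 1 := by
        rw [← Units.val_mul, mul_inv_cancel, Units.val_one]
      rw [Units.val_mul, Units.val_mul, mul_sub, sub_mul, mul_one, h1]
    rw [e]
    exact sub_one_mem_aug (hy d hd)
  | zero => rw [mul_zero, zero_mul]; exact (aug D).zero_mem
  | add x z _ _ hx hz => rw [mul_add, add_mul]; exact add_mem hx hz
  | smul c x _ hx => rw [mul_smul_comm, smul_mul_assoc]; exact (aug D).smul_mem c hx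

theorem aug_mul_aug_le {D Y : Subgroup (LinearMap.GeneralLinearGroup k M)}
    (hnorm : ∀ y ∈ Y, ∀ d ∈ D, y * d * y⁻¹ ∈ D) :
    aug Y * aug D ≤ aug D * aug Y ⊔ aug D := by
  rw [Submodule.mul_le]
  intro a ha
  unfold aug at ha
  induction ha using Submodule.span_induction with
  | mem x hx =>
    obtain ⟨y, hy, rfl⟩ := hx
    intro b hb
    have hc := conj_mem_aug (hnorm y hy) hb
    set c := (y : Module.End k M) * b
      * ((y⁻¹ : LinearMap.GeneralLinearGroup k M) : Module.End k M) with hcdef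
    have h1 : ((y⁻¹ : LinearMap.GeneralLinearGroup k M) : Module.End k M)
        * (y : Module.End k M) = 1 := by
      rw [← Units.val_mul, inv_mul_cancel, Units.val_one]
    have e : ((y : Module.End k M) - 1) * b = c * ((y : Module.End k M) - 1) + (c - b) := by
      have : c * (y : Module.End k M) = (y : Module.End k M) * b := by
        rw [hcdef, mul_assoc, h1, mul_one]
      rw [mul_sub, this, mul_one, sub_mul, one_mul]
      abel
    rw [e]
    exact add_mem (Submodule.mem_sup_left (Submodule.mul_mem_mul hc (sub_one_mem_aug hy)))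
      (Submodule.mem_sup_right (sub_mem hc hb))
  | zero => intro b _; rw [zero_mul]; exact Submodule.zero_mem _
  | add x z _ _ hx hz => intro b hb; rw [add_mul]; exact add_mem (hx b hb) (hz b hb)
  | smul c x _ hx => intro b hb; rw [smul_mul_assoc]; exact Submodule.smul_mem _ c (hx b hb)

/-- **Product lemma**: a unipotent group `D` normalised by a unipotent group `Y` gives a
unipotent group `D ⊔ Y`. -/
theorem isUnipotentOn_sup_of_normalizes {D Y : Subgroup (LinearMap.GeneralLinearGroup k M)}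
    (hD : Cfsg.IsUnipotentOn D) (hY : Cfsg.IsUnipotentOn Y)
    (hnorm : ∀ y ∈ Y, ∀ d ∈ D, y * d * y⁻¹ ∈ D) : Cfsg.IsUnipotentOn (D ⊔ Y) := by
  have hE := isNilAlg_of_comm (isNilAlg_aug hD) (isNilAlg_aug hY) (aug_mul_aug_le hnorm)
  refine isUnipotentOn_of_le_unip hE (sup_le ?_ ?_)
  · rw [le_unip_iff]
    refine le_trans ?_ le_sup_left
    calc aug D = aug D * 1 := (mul_one _).symm
      _ ≤ aug D * (1 ⊔ aug Y) := mul_le_mul' le_rfl le_sup_left
  · rw [le_unip_iff]
    exact le_sup_right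

end Cfsg.Agent.Lib.Helper84.UP
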