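import Cfsg.Agent.Lib.Helper84.Unipotent

/-!
Baer–Suzuki type theorem for unipotent linear groups: a conjugation-invariant family of subgroups
of `GL(M)` any two of whose members generate a unipotent group generates a unipotent group.
-/

set_option autoImplicit false

namespace Cfsg.Agent.Lib.Helper84.UP

variable {k : Type*} [Field k] {M : Type*} [AddCommGroup M] [Module k M]

section conj

variable {Γ : Type*} [Group Γ]

theorem mem_conjBy {A : Subgroup Γ} {g x : Γ} : x ∈ Cfsg.conjBy A g ↔ g⁻¹ * x * g ∈ A := by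
  unfold Cfsg.conjBy
  rw [Subgroup.mem_map_equiv]
  rfl

theorem conj_mem_conjBy {A : Subgroup Γ} {g a : Γ} (ha : a ∈ A) : g * a * g⁻¹ ∈ Cfsg.conjBy A g := by
  rw [mem_conjBy]
  simpa [mul_assoc] using ha

theorem conjBy_one' (A : Subgroup Γ) : Cfsg.conjBy A 1 = A := by
  ext x; rw [mem_conjBy]; simp

theorem conjBy_mul' (A : Subgroup Γ) (g h : Γ) :
    Cfsg.conjBy A (g * h) = Cfsg.conjBy (Cfsg.conjBy A h) g := by
  ext x; simp only [mem_conjBy, mul_inv_rev, mul_assoc]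

theorem conjBy_le_of_mem {A H : Subgroup Γ} {g : Γ} (hA : A ≤ H) (hg : g ∈ H) :
    Cfsg.conjBy A g ≤ H := by
  intro x hx
  rw [mem_conjBy] at hx
  have := H.mul_mem (H.mul_mem hg (hA hx)) (H.inv_mem hg)
  simpa [mul_assoc] using this

/-- the group generated by a family of subgroups. -/
def gen (Λ : Set (Subgroup Γ)) : Subgroup Γ := ⨆ A ∈ Λ, A

theorem le_gen {Λ : Set (Subgroup Γ)} {A : Subgroup Γ} (hA : A ∈ Λ) : A ≤ gen Λ :=
  le_biSup (fun A => A) hA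

theorem gen_le_iff {Λ : Set (Subgroup Γ)} {H : Subgroup Γ} : gen Λ ≤ H ↔ ∀ A ∈ Λ, A ≤ H :=
  iSup₂_le_iff

theorem gen_mono {Λ Λ' : Set (Subgroup Γ)} (h : Λ ⊆ Λ') : gen Λ ≤ gen Λ' :=
  gen_le_iff.2 fun _ hA => le_gen (h hA)

theorem gen_insert (A : Subgroup Γ) (Λ : Set (Subgroup Γ)) : gen (insert A Λ) = A ⊔ gen Λ := by
  unfold gen
  rw [iSup_insert]

theorem gen_empty : gen (∅ : Set (Subgroup Γ)) = ⊥ := by
  unfold gen; simp

theorem conjBy_gen_le {Λ : Set (Subgroup Γ)} {g : Γ} (h : ∀ A ∈ Λ, Cfsg.conjBy A g ∈ Λ) :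
    Cfsg.conjBy (gen Λ) g ≤ gen Λ := by
  unfold gen Cfsg.conjBy
  simp only [Subgroup.map_iSup]
  exact iSup₂_le fun A hA => le_biSup (fun A => A) (h A hA)

/-- the stabiliser of a family of subgroups under conjugation. -/
def stab (Δ : Set (Subgroup Γ)) : Subgroup Γ where
  carrier := {g | ∀ A ∈ Δ, Cfsg.conjBy A g ∈ Δ ∧ Cfsg.conjBy A g⁻¹ ∈ Δ}
  one_mem' := by
    intro A hA
    rw [inv_one, conjBy_one']
    exact ⟨hA, hA⟩
  mul_mem' := by
    intro a b ha hb A hA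
    refine ⟨?_, ?_⟩
    · rw [conjBy_mul']
      exact (ha _ (hb A hA).1).1
    · rw [mul_inv_rev, conjBy_mul']
      exact (hb _ (ha A hA).2).2
  inv_mem' := by
    intro a ha A hA
    rw [inv_inv]
    exact ⟨(ha A hA).2, (ha A hA).1⟩

theorem mem_stab {Δ : Set (Subgroup Γ)} {g : Γ} :
    g ∈ stab Δ ↔ ∀ A ∈ Δ, Cfsg.conjBy A g ∈ Δ ∧ Cfsg.conjBy A g⁻¹ ∈ Δ := Iff.rfl

theorem stab_normalizes_gen {Δ : Set (Subgroup Γ)} {y : Γ} (hy : y ∈ stab Δ) :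
    ∀ d ∈ gen Δ, y * d * y⁻¹ ∈ gen Δ := by
  intro d hd
  exact conjBy_gen_le (fun A hA => (hy A hA).1) (conj_mem_conjBy hd)

end conj

/-- the hypotheses on the family. -/
structure Fam (G : Subgroup (LinearMap.GeneralLinearGroup k M))
    (W : Set (Subgroup (LinearMap.GeneralLinearGroup k M))) : Prop where
  le : ∀ A ∈ W, A ≤ G
  pair : ∀ A ∈ W, ∀ B ∈ W, Cfsg.IsUnipotentOn (A ⊔ B)
  conj : ∀ A ∈ W, ∀ g ∈ G, Cfsg.conjBy A g ∈ W

/-- a family generating a unipotent group. -/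
def Nil (Λ : Set (Subgroup (LinearMap.GeneralLinearGroup k M))) : Prop :=
  Cfsg.IsUnipotentOn (gen Λ)

/-- maximal nil subfamilies of `W`. -/
def IsMax (W Λ : Set (Subgroup (LinearMap.GeneralLinearGroup k M))) : Prop :=
  Λ ⊆ W ∧ Nil Λ ∧ ∀ Λ', Λ' ⊆ W → Nil Λ' → Λ ⊆ Λ' → Λ' ⊆ Λ

/-- the measure of a family. -/
noncomputable def mu (Λ : Set (Subgroup (LinearMap.GeneralLinearGroup k M))) : ℕ :=
  Module.finrank k (aug (gen Λ))

theorem isUnipotentOn_bot :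
    Cfsg.IsUnipotentOn (⊥ : Subgroup (LinearMap.GeneralLinearGroup k M)) := by
  rw [isUnipotentOn_iff]
  refine ⟨1, ?_⟩
  rw [pow_one, eq_bot_iff, aug_le_iff]
  intro g hg
  rw [Subgroup.mem_bot] at hg
  rw [hg, Units.val_one, sub_self]
  exact Submodule.zero_mem _

theorem nil_empty : Nil (∅ : Set (Subgroup (LinearMap.GeneralLinearGroup k M))) := by
  unfold Nil
  rw [gen_empty]
  exact isUnipotentOn_bot

theorem Nil.mono {Λ Λ' : Set (Subgroup (LinearMap.GeneralLinearGroup k M))} (h : Λ ⊆ Λ')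
    (h' : Nil Λ') : Nil Λ :=
  isUnipotentOn_mono (gen_mono h) h'

/-- maximal nil families are closed. -/
theorem IsMax.mem_of_aug_le {W Λ : Set (Subgroup (LinearMap.GeneralLinearGroup k M))}
    (hΛ : IsMax W Λ) {A : Subgroup (LinearMap.GeneralLinearGroup k M)} (hA : A ∈ W)
    (h : aug A ≤ aug (gen Λ)) : A ∈ Λ := by
  have hnil : Nil (insert A Λ) := by
    unfold Nil
    rw [gen_insert]
    refine isUnipotentOn_of_le_unip (isNilAlg_aug hΛ.2.1) (sup_le ?_ ?_)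
    · rw [le_unip_iff]; exact h
    · exact le_unip_aug hΛ.2.1
  exact hΛ.2.2 _ (Set.insert_subset hA hΛ.1) hnil (Set.subset_insert _ _) (Set.mem_insert _ _)

theorem IsMax.mem_of_le {W Λ : Set (Subgroup (LinearMap.GeneralLinearGroup k M))}
    (hΛ : IsMax W Λ) {A : Subgroup (LinearMap.GeneralLinearGroup k M)} (hA : A ∈ W)
    (h : A ≤ gen Λ) : A ∈ Λ :=
  hΛ.mem_of_aug_le hA (aug_mono h)

theorem IsMax.gen_le {G : Subgroup (LinearMap.GeneralLinearGroup k M)}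
    {W Λ : Set (Subgroup (LinearMap.GeneralLinearGroup k M))} (hF : Fam G W) (hΛ : IsMax W Λ) :
    gen Λ ≤ G :=
  gen_le_iff.2 fun A hA => hF.le A (hΛ.1 hA)

/-- maximal nil families are invariant under the group they generate. -/
theorem IsMax.conj_mem {G : Subgroup (LinearMap.GeneralLinearGroup k M)}
    {W Λ : Set (Subgroup (LinearMap.GeneralLinearGroup k M))} (hF : Fam G W) (hΛ : IsMax W Λ)
    {h : LinearMap.GeneralLinearGroup k M} (hh : h ∈ gen Λ)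
    {A : Subgroup (LinearMap.GeneralLinearGroup k M)} (hA : A ∈ Λ) : Cfsg.conjBy A h ∈ Λ :=
  hΛ.mem_of_le (hF.conj A (hΛ.1 hA) h (hΛ.gen_le hF hh)) (conjBy_le_of_mem (le_gen hA) hh)

theorem IsMax.eq_of_subset {W Λ₁ Λ₂ : Set (Subgroup (LinearMap.GeneralLinearGroup k M))}
    (h₁ : IsMax W Λ₁) (h₂ : IsMax W Λ₂) (h : Λ₁ ⊆ Λ₂) : Λ₁ = Λ₂ :=
  Set.Subset.antisymm h (h₁.2.2 _ h₂.1 h₂.2.1 h)

variable [FiniteDimensional k M]

theorem mu_le (Λ : Set (Subgroup (LinearMap.GeneralLinearGroup k M))) :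
    mu Λ ≤ Module.finrank k (Module.End k M) :=
  Submodule.finrank_le _

/-- strict monotonicity of the measure on closed families. -/
theorem mu_lt {W Δ Δ' : Set (Subgroup (LinearMap.GeneralLinearGroup k M))}
    (hsub : Δ ⊆ Δ') (hcl : ∀ A ∈ W, aug A ≤ aug (gen Δ) → A ∈ Δ)
    {X : Subgroup (LinearMap.GeneralLinearGroup k M)} (hXW : X ∈ W) (hX' : X ∈ Δ') (hX : X ∉ Δ) :
    mu Δ < mu Δ' := by
  unfold mu
  refine Submodule.finrank_lt_finrank_of_lt (lt_of_le_of_ne (aug_mono (gen_mono hsub)) ?_)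
  intro e
  apply hX
  apply hcl X hXW
  rw [e]
  exact aug_mono (le_gen hX')

/-- every nil subfamily of `W` lies in a maximal one. -/
theorem exists_isMax {W : Set (Subgroup (LinearMap.GeneralLinearGroup k M))} :
    ∀ (d : ℕ) (Λ : Set (Subgroup (LinearMap.GeneralLinearGroup k M))), Λ ⊆ W → Nil Λ →
      Module.finrank k (Module.End k M) - mu Λ ≤ d → ∃ Λ', IsMax W Λ' ∧ Λ ⊆ Λ' := by
  intro d
  induction d with
  | zero =>
    intro Λ hΛW hΛ hd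
    -- the closure
    set C : Set (Subgroup (LinearMap.GeneralLinearGroup k M)) :=
      {A | A ∈ W ∧ aug A ≤ aug (gen Λ)} with hC
    have hΛC : Λ ⊆ C := fun A hA => ⟨hΛW hA, aug_mono (le_gen hA)⟩
    have hCle : gen C ≤ unip (aug (gen Λ)) (isNilAlg_aug hΛ) :=
      gen_le_iff.2 fun A hA => (le_unip_iff _).2 hA.2
    have hCnil : Nil C := isUnipotentOn_of_le_unip _ hCle
    have haug : aug (gen C) = aug (gen Λ) :=
      le_antisymm ((le_unip_iff _).1 hCle) (aug_mono (gen_mono hΛC))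
    refine ⟨C, ⟨fun A hA => hA.1, hCnil, ?_⟩, hΛC⟩
    intro Λ' hΛ'W hΛ' hCΛ'
    by_contra hnot
    obtain ⟨X, hXΛ', hXC⟩ := Set.not_subset.1 hnot
    have hlt : mu C < mu Λ' :=
      mu_lt (W := W) hCΛ' (fun A hA h => ⟨hA, by rwa [haug] at h⟩) (hΛ'W hXΛ') hXΛ' hXC
    have h1 : mu C = mu Λ := by unfold mu; rw [haug]
    have h2 := mu_le Λ'
    omega
  | succ d ih =>
    intro Λ hΛW hΛ hd
    set C : Set (Subgroup (LinearMap.GeneralLinearGroup k M)) :=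
      {A | A ∈ W ∧ aug A ≤ aug (gen Λ)} with hC
    have hΛC : Λ ⊆ C := fun A hA => ⟨hΛW hA, aug_mono (le_gen hA)⟩
    have hCle : gen C ≤ unip (aug (gen Λ)) (isNilAlg_aug hΛ) :=
      gen_le_iff.2 fun A hA => (le_unip_iff _).2 hA.2
    have hCnil : Nil C := isUnipotentOn_of_le_unip _ hCle
    have haug : aug (gen C) = aug (gen Λ) :=
      le_antisymm ((le_unip_iff _).1 hCle) (aug_mono (gen_mono hΛC))
    by_cases hmax : ∀ Λ', Λ' ⊆ W → Nil Λ' → C ⊆ Λ' → Λ' ⊆ C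
    · exact ⟨C, ⟨fun A hA => hA.1, hCnil, hmax⟩, hΛC⟩
    · push Not at hmax
      obtain ⟨Λ', hΛ'W, hΛ', hCΛ', hnot⟩ := hmax
      obtain ⟨X, hXΛ', hXC⟩ := Set.not_subset.1 hnot
      have hlt : mu C < mu Λ' :=
        mu_lt (W := W) hCΛ' (fun A hA h => ⟨hA, by rwa [haug] at h⟩) (hΛ'W hXΛ') hXΛ' hXC
      have h1 : mu C = mu Λ := by unfold mu; rw [haug]
      have h2 := mu_le Λ'
      obtain ⟨Λ'', hmax'', hsub⟩ := ih Λ' hΛ'W hΛ' (by omega)
      exact ⟨Λ'', hmax'', hΛC.trans (hCΛ'.trans hsub)⟩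

theorem exists_isMax' {W Λ : Set (Subgroup (LinearMap.GeneralLinearGroup k M))}
    (hΛW : Λ ⊆ W) (hΛ : Nil Λ) : ∃ Λ', IsMax W Λ' ∧ Λ ⊆ Λ' :=
  exists_isMax _ Λ hΛW hΛ le_rfl

omit [FiniteDimensional k M] in
/-- the intersection of two maximal nil families is stabilised by the group it generates. -/
theorem gen_inter_le_stab {G : Subgroup (LinearMap.GeneralLinearGroup k M)}
    {W Λ₁ Λ₂ : Set (Subgroup (LinearMap.GeneralLinearGroup k M))} (hF : Fam G W)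
    (h₁ : IsMax W Λ₁) (h₂ : IsMax W Λ₂) : gen (Λ₁ ∩ Λ₂) ≤ stab (Λ₁ ∩ Λ₂) := by
  intro d hd
  have hd1 : d ∈ gen Λ₁ := gen_mono Set.inter_subset_left hd
  have hd2 : d ∈ gen Λ₂ := gen_mono Set.inter_subset_right hd
  intro A hA
  exact ⟨⟨h₁.conj_mem hF hd1 hA.1, h₂.conj_mem hF hd2 hA.2⟩,
    ⟨h₁.conj_mem hF (inv_mem hd1) hA.1, h₂.conj_mem hF (inv_mem hd2) hA.2⟩⟩

omit [FiniteDimensional k M] in
/-- the normaliser step. -/
theorem exists_mem_le_stab {G : Subgroup (LinearMap.GeneralLinearGroup k M)}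
    {W Λ₁ Λ₂ : Set (Subgroup (LinearMap.GeneralLinearGroup k M))} (hF : Fam G W)
    (h₁ : IsMax W Λ₁) (h₂ : IsMax W Λ₂) (hne : ¬ Λ₁ ⊆ Λ₂) :
    ∃ X ∈ Λ₁, X ∉ Λ₂ ∧ X ≤ stab (Λ₁ ∩ Λ₂) := by
  by_contra hcon
  push Not at hcon
  -- hcon : ∀ X ∈ Λ₁, X ∉ Λ₂ → ¬ X ≤ stab
  have hcon' : ∀ X ∈ Λ₁, X ≤ stab (Λ₁ ∩ Λ₂) → X ∈ Λ₂ := by
    intro X hX hle
    by_contra hX2
    exact hcon X hX hX2 hle
  set P := gen Λ₁ with hP
  have hnilp : Group.IsNilpotent P := isNilpotent_of_isUnipotentOn h₁.2.1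
  have hNC := @Group.normalizerCondition_of_isNilpotent P _ hnilp
  set K : Subgroup P := (stab (Λ₁ ∩ Λ₂)).subgroupOf P with hK
  have hKtop : K < ⊤ := by
    rw [lt_top_iff_ne_top]
    intro hKt
    rw [hK, Subgroup.subgroupOf_eq_top] at hKt
    apply hne
    intro X hX
    exact hcon' X hX ((le_gen hX).trans hKt)
  have hlt := hNC K hKtop
  obtain ⟨g, hgN, hgK⟩ := SetLike.exists_of_lt hlt
  apply hgK
  rw [hK, Subgroup.mem_subgroupOf, mem_stab]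
  have hD := gen_inter_le_stab hF h₁ h₂
  have key : ∀ g : P, g ∈ Subgroup.normalizer (K : Set P) → ∀ A ∈ Λ₁ ∩ Λ₂,
      Cfsg.conjBy A (g : LinearMap.GeneralLinearGroup k M) ∈ Λ₁ ∩ Λ₂ := by
    intro g hgN A hA
    have h1 : Cfsg.conjBy A (g : LinearMap.GeneralLinearGroup k M) ∈ Λ₁ :=
      h₁.conj_mem hF g.2 hA.1
    refine ⟨h1, hcon' _ h1 ?_⟩
    intro x hx
    rw [mem_conjBy] at hx
    -- a = g⁻¹ x g ∈ A
    have haP : (g : LinearMap.GeneralLinearGroup k M)⁻¹ * x * g ∈ P := le_gen hA.1 hx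
    have haK : (⟨_, haP⟩ : P) ∈ K := by
      rw [hK, Subgroup.mem_subgroupOf]
      exact hD (le_gen hA hx)
    have := (Subgroup.mem_normalizer_iff.1 hgN _).1 haK
    rw [hK, Subgroup.mem_subgroupOf] at this
    have e : ((g * (⟨_, haP⟩ : P) * g⁻¹ : P) : LinearMap.GeneralLinearGroup k M) = x := by
      simp only [Subgroup.coe_mul, Subgroup.coe_inv]
      group
    rwa [e] at this
  intro A hA
  refine ⟨key g hgN A hA, ?_⟩
  have := key g⁻¹ (inv_mem hgN) A hA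
  rwa [Subgroup.coe_inv] at this

omit [FiniteDimensional k M] in
/-- the amalgamation step. -/
theorem nil_insert_insert {G : Subgroup (LinearMap.GeneralLinearGroup k M)}
    {W Δ : Set (Subgroup (LinearMap.GeneralLinearGroup k M))} (hF : Fam G W) (hΔ : Nil Δ)
    {X₁ X₂ : Subgroup (LinearMap.GeneralLinearGroup k M)} (hX₁ : X₁ ∈ W) (hX₂ : X₂ ∈ W)
    (h1 : X₁ ≤ stab Δ) (h2 : X₂ ≤ stab Δ) : Nil (insert X₁ (insert X₂ Δ)) := by
  unfold Nil
  rw [gen_insert, gen_insert]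
  have hY : Cfsg.IsUnipotentOn (X₁ ⊔ X₂) := hF.pair X₁ hX₁ X₂ hX₂
  have hnorm : ∀ y ∈ X₁ ⊔ X₂, ∀ d ∈ gen Δ, y * d * y⁻¹ ∈ gen Δ :=
    fun y hy => stab_normalizes_gen (sup_le h1 h2 hy)
  refine isUnipotentOn_mono ?_ (isUnipotentOn_sup_of_normalizes hΔ hY hnorm)
  refine sup_le (le_sup_left.trans le_sup_right) (sup_le (le_sup_right.trans le_sup_right)
    le_sup_left)

/-- **Uniqueness of the maximal nil family.** -/
theorem isMax_unique {G : Subgroup (LinearMap.GeneralLinearGroup k M)}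
    {W : Set (Subgroup (LinearMap.GeneralLinearGroup k M))} (hF : Fam G W) :
    ∀ (d : ℕ) (Λ₁ Λ₂ : Set (Subgroup (LinearMap.GeneralLinearGroup k M))), IsMax W Λ₁ →
      IsMax W Λ₂ → Module.finrank k (Module.End k M) - mu (Λ₁ ∩ Λ₂) = d → Λ₁ = Λ₂ := by
  intro d
  induction d using Nat.strong_induction_on with
  | _ d ih =>
    intro Λ₁ Λ₂ h₁ h₂ hd
    by_contra hne
    have hne1 : ¬ Λ₁ ⊆ Λ₂ := fun h => hne (h₁.eq_of_subset h₂ h)
    have hne2 : ¬ Λ₂ ⊆ Λ₁ := fun h => hne (h₂.eq_of_subset h₁ h).symm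
    obtain ⟨X₁, hX₁, hX₁', hX₁s⟩ := exists_mem_le_stab hF h₁ h₂ hne1
    obtain ⟨X₂, hX₂, hX₂', hX₂s⟩ := exists_mem_le_stab hF h₂ h₁ hne2
    rw [Set.inter_comm] at hX₂s
    set Δ := Λ₁ ∩ Λ₂ with hΔ
    have hΔnil : Nil Δ := h₁.2.1.mono Set.inter_subset_left
    have hnil := nil_insert_insert hF hΔnil (h₁.1 hX₁) (h₂.1 hX₂) hX₁s hX₂s
    have hsubW : insert X₁ (insert X₂ Δ) ⊆ W :=
      Set.insert_subset (h₁.1 hX₁) (Set.insert_subset (h₂.1 hX₂)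
        (Set.inter_subset_left.trans h₁.1))
    obtain ⟨Λ₃, h₃, hsub⟩ := exists_isMax' hsubW hnil
    have hX₁3 : X₁ ∈ Λ₃ := hsub (Set.mem_insert _ _)
    have hX₂3 : X₂ ∈ Λ₃ := hsub (Set.mem_insert_of_mem _ (Set.mem_insert _ _))
    have hΔ3 : Δ ⊆ Λ₃ := fun A hA => hsub (Set.mem_insert_of_mem _ (Set.mem_insert_of_mem _ hA))
    have hcl : ∀ A ∈ W, aug A ≤ aug (gen Δ) → A ∈ Δ := fun A hA h =>
      ⟨h₁.mem_of_aug_le hA (h.trans (aug_mono (gen_mono Set.inter_subset_left))),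
        h₂.mem_of_aug_le hA (h.trans (aug_mono (gen_mono Set.inter_subset_right)))⟩
    have hlt1 : mu Δ < mu (Λ₃ ∩ Λ₁) :=
      mu_lt (W := W) (fun A hA => ⟨hΔ3 hA, hA.1⟩) hcl (h₁.1 hX₁) ⟨hX₁3, hX₁⟩
        (fun h => hX₁' h.2)
    have hlt2 : mu Δ < mu (Λ₃ ∩ Λ₂) :=
      mu_lt (W := W) (fun A hA => ⟨hΔ3 hA, hA.2⟩) hcl (h₂.1 hX₂) ⟨hX₂3, hX₂⟩
        (fun h => hX₂' h.1)
    have hb1 := mu_le (Λ₃ ∩ Λ₁)
    have hb2 := mu_le (Λ₃ ∩ Λ₂)
    have e1 : Λ₃ = Λ₁ := ih _ (by omega) Λ₃ Λ₁ h₃ h₁ rfl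
    have e2 : Λ₃ = Λ₂ := ih _ (by omega) Λ₃ Λ₂ h₃ h₂ rfl
    exact hne (e1.symm.trans e2)

/-- **Baer–Suzuki for unipotent linear groups.** -/
theorem isUnipotentOn_gen {G : Subgroup (LinearMap.GeneralLinearGroup k M)}
    {W : Set (Subgroup (LinearMap.GeneralLinearGroup k M))} (hF : Fam G W) :
    Cfsg.IsUnipotentOn (gen W) := by
  obtain ⟨Λ₀, h₀, -⟩ := exists_isMax' (W := W) (Set.empty_subset _) nil_empty
  have hsub : W ⊆ Λ₀ := by
    intro A hA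
    have hnil : Nil ({A} : Set (Subgroup (LinearMap.GeneralLinearGroup k M))) := by
      unfold Nil
      have : gen ({A} : Set (Subgroup (LinearMap.GeneralLinearGroup k M))) = A := by
        unfold gen; simp
      rw [this]
      have := hF.pair A hA A hA
      rwa [sup_idem] at this
    obtain ⟨Λ, hΛ, hAΛ⟩ := exists_isMax' (W := W) (Set.singleton_subset_iff.2 hA) hnil
    have := isMax_unique hF _ Λ Λ₀ hΛ h₀ rfl
    rw [← this]
    exact hAΛ (Set.mem_singleton _)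
  exact isUnipotentOn_mono (gen_mono hsub) h₀.2.1

end Cfsg.Agent.Lib.Helper84.UP
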